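import Cfsg.Agent.H121.E6R3
import Cfsg.Agent.ChevalleyStructure.TwistedE6Rel

/-!
# Membership in `²E₆(q)`
-/

set_option autoImplicit false
set_option linter.unusedSectionVars false

namespace Cfsg.Agent.H121.E6M

open Cfsg.Lie
open Cfsg.Agent.ChevalleyStructure
open Cfsg.Agent.ChevalleyStructure.GraphSymm
open Cfsg.Agent.ChevalleyStructure.TwistedU
open Cfsg.Agent.ChevalleyStructure.TwistedFix
open Cfsg.Agent.ChevalleyStructure.TwistedE6Sigma
open Cfsg.Agent.ChevalleyStructure.TwistedE6U (X L sig_X X_add)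
open Cfsg.Agent.ChevalleyStructure.TwistedE6G
open Cfsg.Agent.ChevalleyStructure.TwistedE6Rel
open Cfsg.Agent.H121.HexMin (fx mem_fx coe_fx)
open Cfsg.Agent.H121.Quad Cfsg.Agent.H121.Orth Cfsg.Agent.H121.F4 Cfsg.Agent.H121.E6Eng Cfsg.Agent.H121.E6R

universe u

variable {K : Type u} [Field K]

/-! ### Stabilizing the group generated by the root elements of a list -/

/-- `g` normalises the group generated by the root elements with root in `l` -/
def Sta (l : List ℕ) (g : GL chevE6.Idx K) : Prop :=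
  ∀ x ∈ rspan (X (K := K)) {k | k ∈ l}, g * x * g⁻¹ ∈ rspan (X (K := K)) {k | k ∈ l}

theorem Sta_mul {l : List ℕ} {g h : GL chevE6.Idx K} (hg : Sta l g) (hh : Sta l h) : Sta l (g * h) := by
  intro x hx
  have e : g * h * x * (g * h)⁻¹ = g * (h * x * h⁻¹) * g⁻¹ := by group
  rw [e]
  exact hg _ (hh _ hx)

theorem Sta_one (l : List ℕ) : Sta l (1 : GL chevE6.Idx K) := by
  intro x hx
  rwa [one_mul, inv_one, mul_one]

/-- the closedness check -/
def okS (r : ℕ) (l : List ℕ) : Bool :=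
  l.all fun s => okc r s && (match cj r s with
    | none => true
    | some kc => decide (kc.1 ∈ l))

theorem Sta_X {r : ℕ} {l : List ℕ} (h : okS r l = true) (u : K) : Sta l (X r u) := by
  have h1 : rspan (X (K := K)) {k | k ∈ l} ≤
      (rspan (X (K := K)) {k | k ∈ l}).comap (MulAut.conj (X r u)).toMonoidHom := by
    refine rspan_le _ fun s hs t => ?_
    show X r u * X s t * (X r u)⁻¹ ∈ rspan (X (K := K)) {k | k ∈ l}
    have h2 := List.all_eq_true.1 h s hs
    rw [Bool.and_eq_true] at h2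
    cases hc : cj r s with
    | none =>
      rw [conj_X_none h2.1 hc]
      exact mem_rspan (X (K := K)) (S := {k | k ∈ l}) hs t
    | some kc =>
      obtain ⟨k, c⟩ := kc
      have h3 := h2.2
      rw [hc] at h3
      rw [conj_X_some h2.1 hc]
      exact mul_mem (mem_rspan (X (K := K)) (S := {k | k ∈ l}) hs t)
        (mem_rspan (X (K := K)) (S := {k | k ∈ l}) (of_decide_eq_true h3) _)
  exact fun x hx => h1 hx

theorem Sta_W {l l' : List ℕ} (h : (l'.all fun r => okS r l) = true) {w : List (ℕ × K)} (hw : In l' w) :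
    Sta l (W w) := by
  induction w with
  | nil => rw [W_nil]; exact Sta_one l
  | cons p w ih =>
    rw [In_cons] at hw
    rw [W_cons]
    exact Sta_mul (Sta_X (List.all_eq_true.1 h _ hw.1) _) (ih hw.2)

theorem W_mem {l : List ℕ} {w : List (ℕ × K)} (hw : In l w) : W w ∈ rspan (X (K := K)) {k | k ∈ l} := by
  induction w with
  | nil => rw [W_nil]; exact one_mem _
  | cons p w ih =>
    rw [In_cons] at hw
    rw [W_cons]
    exact mul_mem (mem_rspan (X (K := K)) (S := {k | k ∈ l}) hw.1 _) (ih hw.2)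

/-! ### Membership -/

/-- the pair of roots forms a short relative root -/
def pr (a b : ℕ) : Bool :=
  (decide ([a, b] ∈ L) || decide ([b, a] ∈ L)) && decide (rho a = b) && decide (rho b = a) &&
    decide (eps b = eps a) && decide (eps a * eps a = 1) && com a b

/-- the root forms a long relative root -/
def lo (a : ℕ) : Bool := decide ([a] ∈ L) && decide (rho a = a) && decide (eps a = 1) && decide (a < 72)

section Mem

variable [Fintype K] {q : ℕ} {φ : K →+* K} (hφ : ∀ t, φ t = t ^ q) (hφφ : ∀ t, φ (φ t) = t)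

include hφ hφφ

theorem mem1 {r : ℕ} (hr : lo r = true) {t : K} (ht : φ t = t) : X r t ∈ twistedE6 K q := by
  simp only [lo, Bool.and_eq_true, decide_eq_true_eq] at hr
  obtain ⟨⟨⟨h1, h2⟩, h3⟩, h4⟩ := hr
  refine rel_le hφ hφφ h1 ⟨mem_rspan (X (K := K)) (S := {k | k ∈ [r]}) (List.mem_singleton_self r) t, ?_⟩
  show sig symmE6 φ (X r t) = X r t
  rw [sig_X φ h4, h2, h3, ht, Int.cast_one, one_mul]

theorem mem2 {a b : ℕ} (h : pr a b = true) (t : K) : X a t * X b ((eps a : K) * φ t) ∈ twistedE6 K q := by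
  simp only [pr, Bool.and_eq_true, decide_eq_true_eq, Bool.or_eq_true] at h
  obtain ⟨⟨⟨⟨⟨h1, h2⟩, h3⟩, h4⟩, h5⟩, h6⟩ := h
  have hc := commute_of_com (K := K) h6
  have hlt : a < 72 ∧ b < 72 := by
    simp only [com, Bool.and_eq_true, decide_eq_true_eq] at h6
    exact ⟨h6.1.1.1.1, h6.1.1.1.2⟩
  have hσ : X a t * X b ((eps a : K) * φ t) ∈ fixS (sig symmE6 φ) := by
    show sig symmE6 φ (X a t * X b ((eps a : K) * φ t)) = X a t * X b ((eps a : K) * φ t)
    rw [map_mul, sig_X φ hlt.1, sig_X φ hlt.2, h2, h3, h4, map_mul, map_intCast, hφφ, ← mul_assoc,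
      ← Int.cast_mul, h5, Int.cast_one, one_mul]
    exact (hc _ _).eq.symm
  rcases h1 with h1 | h1
  · refine rel_le hφ hφφ h1 ⟨mul_mem ?_ ?_, hσ⟩
    · exact mem_rspan (X (K := K)) (S := {k | k ∈ [a, b]}) (by simp) _
    · exact mem_rspan (X (K := K)) (S := {k | k ∈ [a, b]}) (by simp) _
  · refine rel_le hφ hφφ h1 ⟨mul_mem ?_ ?_, hσ⟩
    · exact mem_rspan (X (K := K)) (S := {k | k ∈ [b, a]}) (by simp) _
    · exact mem_rspan (X (K := K)) (S := {k | k ∈ [b, a]}) (by simp) _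

theorem neg_one_pow : (-1 : K) ^ q = -1 := by rw [← hφ, map_neg, map_one]

theorem mem_n39 : n39 K ∈ twistedE6 K q := by
  have h1 : X 39 (1 : K) ∈ twistedE6 K q := mem_long (by decide) (one_pow q)
  have h2 : X 32 (-1 : K) ∈ twistedE6 K q := mem_long (by decide) (neg_one_pow hφ hφφ)
  exact mul_mem h1 (mul_mem h2 h1)

theorem mem_n46 : n46 K ∈ twistedE6 K q := by
  have h1 : X 46 (1 : K) ∈ twistedE6 K q := mem_long (by decide) (one_pow q)
  have h2 : X 25 (-1 : K) ∈ twistedE6 K q := mem_long (by decide) (neg_one_pow hφ hφφ)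
  exact mul_mem h1 (mul_mem h2 h1)

theorem mem_n5 : n5 K ∈ twistedE6 K q := by
  exact nJ_pair (by decide) (by decide) (comm_pair (p := (56, 36)) (by decide))
      (comm_pair (p := (56, 35)) (by decide)) (comm_pair (p := (15, 36)) (by decide)) (neg_one_pow hφ hφφ)

theorem mem_m4 (t : K) : X 29 t * X 34 (φ t) ∈ twistedE6 K q := by
  rw [hφ]
  exact mem_short (p := (29, 34)) (by decide) t

theorem mem_m3 (t : K) : X 28 t * X 31 (-φ t) ∈ twistedE6 K q := by
  have h := mul_mem (mul_mem (mem_n39 hφ hφφ) (mem_m4 hφ hφφ t)) (inv_mem (mem_n39 hφ hφφ))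
  have e : n39 K * (X 29 t * X 34 (φ t)) * (n39 K)⁻¹ =
      (n39 K * X 29 t * (n39 K)⁻¹) * (n39 K * X 34 (φ t) * (n39 K)⁻¹) := by group
  rwa [e, c29, c34] at h

theorem mem_m2 (t : K) : X 21 t * X 23 (φ t) ∈ twistedE6 K q := by
  have h := mul_mem (mul_mem (mem_n46 hφ hφφ) (mem_m3 hφ hφφ t)) (inv_mem (mem_n46 hφ hφφ))
  have e : n46 K * (X 28 t * X 31 (-φ t)) * (n46 K)⁻¹ =
      (n46 K * X 28 t * (n46 K)⁻¹) * (n46 K * X 31 (-φ t) * (n46 K)⁻¹) := by group
  rwa [e, c28, c31, neg_neg] at h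

end Mem

/-! ### The groups `A`, `B`, `C` -/

section Groups

variable [Fintype K] {q : ℕ} {φ : K →+* K} (hφ : ∀ t, φ t = t ^ q) (hφφ : ∀ t, φ (φ t) = t)
  {σ : K ≃+* K} [Quad.Inv σ] (hσ : ∀ t, σ t = φ t)

include hφ hφφ hσ

theorem mem_wA (a : VV (Fin 3) σ) : W (wA a) ∈ twistedE6 K q := by
  have m1 {r : ℕ} (hr : lo r = true) (t : fx σ) : X r (t : K) ∈ twistedE6 K q :=
    mem1 hφ hφφ hr (by rw [← hσ, coe_fx])
  have e : W (wA a) = X 60 ((-(a.1 0).2 : fx σ) : K) * X 63 ((a.1 1).2 : K) * X 65 ((-(a.1 2).2 : fx σ) : K) *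
      (X 66 a.2 * X 68 ((eps 66 : K) * φ a.2)) * X 69 ((a.1 2).1 : K) * X 70 ((a.1 1).1 : K) *
      X 71 ((a.1 0).1 : K) := by
    have h : eps 66 = 1 := by decide +kernel
    rw [h, Int.cast_one, one_mul, ← hσ]
    simp only [W, wA, List.map_cons, List.map_nil, List.prod_cons, List.prod_nil, mul_one, mul_assoc,
      NegMemClass.coe_neg]
  rw [e]
  refine mul_mem (mul_mem (mul_mem (mul_mem (mul_mem (mul_mem ?_ ?_) ?_) ?_) ?_) ?_) ?_
  · exact m1 (by decide +kernel) _
  · exact m1 (by decide +kernel) _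
  · exact m1 (by decide +kernel) _
  · exact mem2 hφ hφφ (by decide +kernel) _
  · exact m1 (by decide +kernel) _
  · exact m1 (by decide +kernel) _
  · exact m1 (by decide +kernel) _

theorem mem_wB (b : VV (Fin 2) σ) : W (wB b) ∈ twistedE6 K q := by
  have m1 {r : ℕ} (hr : lo r = true) (t : fx σ) : X r (t : K) ∈ twistedE6 K q :=
    mem1 hφ hφφ hr (by rw [← hσ, coe_fx])
  have e : W (wB b) = X 46 ((b.1 0).2 : K) * X 47 ((-(b.1 1).2 : fx σ) : K) *
      (X 48 b.2 * X 50 ((eps 48 : K) * φ b.2)) * X 51 ((b.1 1).1 : K) * X 53 ((b.1 0).1 : K) := by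
    have h : eps 48 = 1 := by decide +kernel
    rw [h, Int.cast_one, one_mul, ← hσ]
    simp only [W, wB, List.map_cons, List.map_nil, List.prod_cons, List.prod_nil, mul_one, mul_assoc,
      NegMemClass.coe_neg]
  rw [e]
  refine mul_mem (mul_mem (mul_mem (mul_mem ?_ ?_) ?_) ?_) ?_
  · exact m1 (by decide +kernel) _
  · exact m1 (by decide +kernel) _
  · exact mem2 hφ hφφ (by decide +kernel) _
  · exact m1 (by decide +kernel) _
  · exact m1 (by decide +kernel) _

theorem mem_wC (c : VV (Fin 1) σ) : W (wC c) ∈ twistedE6 K q := by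
  have m1 {r : ℕ} (hr : lo r = true) (t : fx σ) : X r (t : K) ∈ twistedE6 K q :=
    mem1 hφ hφφ hr (by rw [← hσ, coe_fx])
  have e : W (wC c) = X 39 ((c.1 0).2 : K) * (X 40 c.2 * X 43 ((eps 40 : K) * φ c.2)) *
      X 44 ((c.1 0).1 : K) := by
    have h : eps 40 = -1 := by decide +kernel
    rw [h, Int.cast_neg, Int.cast_one, neg_one_mul, ← hσ]
    simp only [W, wC, List.map_cons, List.map_nil, List.prod_cons, List.prod_nil, mul_one, mul_assoc]
  rw [e]
  refine mul_mem (mul_mem ?_ ?_) ?_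
  · exact m1 (by decide +kernel) _
  · exact mem2 hφ hφφ (by decide +kernel) _
  · exact m1 (by decide +kernel) _

theorem memS {a b : ℕ} (h : pr a b = true) (h1 : eps a = 1) (u : K) : W [(a, u), (b, σ u)] ∈ twistedE6 K q := by
  have := mem2 hφ hφφ h u
  rw [h1, Int.cast_one, one_mul, ← hσ] at this
  simpa [W] using this

theorem memS' {a b : ℕ} (h : pr a b = true) (h1 : eps a = -1) (u : K) :
    W [(a, u), (b, -σ u)] ∈ twistedE6 K q := by
  have := mem2 hφ hφφ h u
  rw [h1, Int.cast_neg, Int.cast_one, neg_one_mul, ← hσ] at this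
  simpa [W] using this

end Groups

section Coord

variable [Fintype K] {φ : K →+* K} {σ : K ≃+* K} [Quad.Inv σ] (hσ : ∀ t, σ t = φ t)

include hσ

theorem coordA {g : GL chevE6.Idx K} (hg : g ∈ rspan (X (K := K)) {k | k ∈ LA}) (hf : sig symmE6 φ g = g) :
    ∃ a : VV (Fin 3) σ, g = W (wA a) := by
  obtain ⟨t, h1, h2⟩ := coords φ comA nodA (by decide) (by decide +kernel) (by decide +kernel) hg hf
  have hfx : ∀ r, r ∈ LA ∧ rho r = r ∧ eps r = 1 → σ (t r) = t r := by
    rintro r ⟨a1, a2, a3⟩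
    have := h1 r a1
    rw [a2, a3, Int.cast_one, one_mul] at this
    rw [hσ, ← this]
  have h68 : t 68 = σ (t 66) := by
    have := h1 66 (by decide)
    rw [show rho 66 = 68 by decide +kernel, show eps 66 = 1 by decide +kernel, Int.cast_one, one_mul] at this
    rw [hσ, ← this]
  have k60 := hfx 60 (by decide +kernel)
  have k63 := hfx 63 (by decide +kernel)
  have k65 := hfx 65 (by decide +kernel)
  have k69 := hfx 69 (by decide +kernel)
  have k70 := hfx 70 (by decide +kernel)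
  have k71 := hfx 71 (by decide +kernel)
  refine ⟨(![(⟨t 71, k71⟩, -⟨t 60, k60⟩), (⟨t 70, k70⟩, ⟨t 63, k63⟩), (⟨t 69, k69⟩, -⟨t 65, k65⟩)], t 66), ?_⟩
  rw [h2, W_eq_lprod comA nodA (inA _)]
  refine lprod_congr _ ?_
  simp only [LA, List.forall_mem_cons]
  refine ⟨?_, ?_, ?_, ?_, ?_, ?_, ?_, ?_, ?_⟩
  all_goals simp [co, wA, h68]

theorem coordB {g : GL chevE6.Idx K} (hg : g ∈ rspan (X (K := K)) {k | k ∈ LB}) (hf : sig symmE6 φ g = g) :
    ∃ a : VV (Fin 2) σ, g = W (wB a) := by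
  obtain ⟨t, h1, h2⟩ := coords φ comB nodB (by decide) (by decide +kernel) (by decide +kernel) hg hf
  have hfx : ∀ r, r ∈ LB ∧ rho r = r ∧ eps r = 1 → σ (t r) = t r := by
    rintro r ⟨a1, a2, a3⟩
    have := h1 r a1
    rw [a2, a3, Int.cast_one, one_mul] at this
    rw [hσ, ← this]
  have h68 : t 50 = σ (t 48) := by
    have := h1 48 (by decide)
    rw [show rho 48 = 50 by decide +kernel, show eps 48 = 1 by decide +kernel, Int.cast_one, one_mul] at this
    rw [hσ, ← this]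
  have k46 := hfx 46 (by decide +kernel)
  have k47 := hfx 47 (by decide +kernel)
  have k51 := hfx 51 (by decide +kernel)
  have k53 := hfx 53 (by decide +kernel)
  refine ⟨(![(⟨t 53, k53⟩, ⟨t 46, k46⟩), (⟨t 51, k51⟩, -⟨t 47, k47⟩)], t 48), ?_⟩
  rw [h2, W_eq_lprod comB nodB (inB _)]
  refine lprod_congr _ ?_
  simp only [LB, List.forall_mem_cons]
  refine ⟨?_, ?_, ?_, ?_, ?_, ?_, ?_⟩
  all_goals simp [co, wB, h68]

omit [Fintype K] hσ in
theorem ext3 {a b : VV (Fin 3) σ} (h0 : ((a.1 0).1 : K) = (b.1 0).1) (h1 : ((a.1 0).2 : K) = (b.1 0).2)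
    (h2 : ((a.1 1).1 : K) = (b.1 1).1) (h3 : ((a.1 1).2 : K) = (b.1 1).2) (h4 : ((a.1 2).1 : K) = (b.1 2).1)
    (h5 : ((a.1 2).2 : K) = (b.1 2).2) (h6 : a.2 = b.2) : a = b := by
  refine Prod.ext ?_ h6
  funext i
  fin_cases i
  · exact Prod.ext (Subtype.ext h0) (Subtype.ext h1)
  · exact Prod.ext (Subtype.ext h2) (Subtype.ext h3)
  · exact Prod.ext (Subtype.ext h4) (Subtype.ext h5)

omit [Fintype K] hσ in
theorem ext2 {a b : VV (Fin 2) σ} (h0 : ((a.1 0).1 : K) = (b.1 0).1) (h1 : ((a.1 0).2 : K) = (b.1 0).2)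
    (h2 : ((a.1 1).1 : K) = (b.1 1).1) (h3 : ((a.1 1).2 : K) = (b.1 1).2) (h6 : a.2 = b.2) : a = b := by
  refine Prod.ext ?_ h6
  funext i
  fin_cases i
  · exact Prod.ext (Subtype.ext h0) (Subtype.ext h1)
  · exact Prod.ext (Subtype.ext h2) (Subtype.ext h3)

omit hσ in
theorem injA {a b : VV (Fin 3) σ} (h : W (wA a) = W (wA b)) : a = b := by
  rw [W_eq_lprod comA nodA (inA _), W_eq_lprod comA nodA (inA _)] at h
  have h1 := lprod_inj' (by decide) (by decide +kernel) h
  have a60 := h1 60 (by decide)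
  have a63 := h1 63 (by decide)
  have a65 := h1 65 (by decide)
  have a66 := h1 66 (by decide)
  have a69 := h1 69 (by decide)
  have a70 := h1 70 (by decide)
  have a71 := h1 71 (by decide)
  simp [co, wA] at a60 a63 a65 a66 a69 a70 a71
  refine ext3 ?_ ?_ ?_ ?_ ?_ ?_ ?_ <;> simp [*]

omit hσ in
theorem injB {a b : VV (Fin 2) σ} (h : W (wB a) = W (wB b)) : a = b := by
  rw [W_eq_lprod comB nodB (inB _), W_eq_lprod comB nodB (inB _)] at h
  have h1 := lprod_inj' (by decide) (by decide +kernel) h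
  have a46 := h1 46 (by decide)
  have a47 := h1 47 (by decide)
  have a48 := h1 48 (by decide)
  have a51 := h1 51 (by decide)
  have a53 := h1 53 (by decide)
  simp [co, wB] at a46 a47 a48 a51 a53
  refine ext2 ?_ ?_ ?_ ?_ ?_ <;> simp [*]

end Coord

end Cfsg.Agent.H121.E6M
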