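import Cfsg.Agent.H121.HexMin
import Cfsg.Agent.Hexagon.TwD4Par
import Cfsg.Agent.KFacts.Mult.D4Base
import Cfsg.Agent.ChevalleyStructure.FixedCard

/-!
# ³D₄(q): the data for the lower bound of the degrees of the complex representations
-/

set_option autoImplicit false
set_option maxHeartbeats 400000

namespace Cfsg.Agent.H121.TwD4

open Cfsg.Lie
open Cfsg.Agent.ChevalleyStructure
open Cfsg.Agent.ChevalleyStructure.D4Comm
open Cfsg.Agent.ChevalleyStructure.D4NCheck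
open Cfsg.Agent.ChevalleyStructure.D4NConj
open Cfsg.Agent.ChevalleyStructure.D4U
open Cfsg.Agent.ChevalleyStructure.TwistedU
open Cfsg.Agent.ChevalleyStructure.D4Twisted
open Cfsg.Agent.ChevalleyStructure.SparseHDiag (cartanRS)
open Cfsg.Agent.Hexagon.TwD4Rel Cfsg.Agent.Hexagon.TwD4Par
open Cfsg.Agent.KFacts.Mult.D4Base
open Cfsg.Agent.SplitTwo
open Cfsg.Agent.H121.HexMin

section FieldFacts

variable {K : Type*} [Field K] {q : ℕ} {σ : K ≃+* K}

theorem cube_eq [Fintype K] (hK : Fintype.card K = q ^ 3) (hσ : ∀ x, σ x = x ^ q) (t : K) : σ (σ (σ t)) = t := by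
  rw [hσ, hσ, hσ, ← pow_mul, ← pow_mul]
  have : q * (q * q) = q ^ 3 := by ring
  rw [this, ← hK]
  exact FiniteField.pow_card t

theorem card_fx [Fintype K] (hq : 1 < q) (hK : Fintype.card K = q ^ 3) (hσ : ∀ x, σ x = x ^ q) :
    Nat.card (fx σ) = q := by
  rw [← FixedCard.card_fixed hq hK]
  exact Nat.card_congr (Equiv.subtypeEquivRight fun x => by rw [mem_fx, hσ])

theorem trc_nondeg [Fintype K] (hq : 1 < q) (hK : Fintype.card K = q ^ 3) (hσ : ∀ x, σ x = x ^ q) (a : K)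
    (ha : a ≠ 0) : ∃ b, trc σ a b ≠ 0 := by
  classical
  by_contra hcon
  push Not at hcon
  have h1 : ∀ z : K, z + z ^ q + z ^ (q ^ 2) = 0 := by
    intro z
    have := hcon (a⁻¹ * z)
    rw [trc, mul_inv_cancel_left₀ ha, hσ, hσ, ← pow_mul] at this
    rw [pow_two]
    exact this
  let P : Polynomial K := Polynomial.X + Polynomial.X ^ q + Polynomial.X ^ (q ^ 2)
  have hq2 : q < q ^ 2 := by nlinarith
  have hdeg : P.natDegree ≤ q ^ 2 := by
    refine Polynomial.natDegree_add_le_of_degree_le (Polynomial.natDegree_add_le_of_degree_le ?_ ?_) ?_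
    · rw [Polynomial.natDegree_X]; omega
    · rw [Polynomial.natDegree_X_pow]; omega
    · rw [Polynomial.natDegree_X_pow]
  have hP : P = 0 := by
    refine Polynomial.eq_zero_of_natDegree_lt_card_of_eval_eq_zero P (f := id) Function.injective_id (fun z => ?_) ?_
    · simp only [P, Polynomial.eval_add, Polynomial.eval_X, Polynomial.eval_pow, id_eq]
      exact h1 z
    · rw [hK]
      have : q ^ 2 < q ^ 3 := by nlinarith
      omega
  have h2 : P.coeff 1 = 1 := by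
    simp only [P, Polynomial.coeff_add, Polynomial.coeff_X_one, Polynomial.coeff_X_pow]
    rw [if_neg (by omega), if_neg (by omega), add_zero, add_zero]
  rw [hP, Polynomial.coeff_zero] at h2
  exact zero_ne_one h2

/-- a generator -/
theorem exists_gen [Fintype K] (hK : Fintype.card K = q ^ 3) :
    ∃ y : K, y ≠ 0 ∧ ∀ n : ℕ, y ^ n = 1 → q ^ 3 - 1 ∣ n := by
  obtain ⟨g, hg⟩ := IsCyclic.exists_generator (α := Kˣ)
  refine ⟨g, g.ne_zero, fun n hn => ?_⟩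
  have h1 : orderOf g = q ^ 3 - 1 := by
    rw [orderOf_eq_card_of_forall_mem_zpowers hg, Nat.card_units, Nat.card_eq_fintype_card, hK]
  rw [← h1]
  exact orderOf_dvd_of_pow_eq_one (Units.ext (by rw [Units.val_pow_eq_pow_val, hn, Units.val_one]))

end FieldFacts

section Conj

variable {K : Type*} [Field K] {q : ℕ}

theorem na_X3 (σ : K ≃+* K) (a : K) : na K * X3 σ a * (na K)⁻¹ = X3 σ a := by
  rw [X3, w3_eq, conj3, na_c (s := 17) (s' := 17) (e := 1) (by norm_num) (by decide +kernel),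
    na_c (s := 20) (s' := 20) (e := 1) (by norm_num) (by decide +kernel),
    na_c (s := 21) (s' := 21) (e := 1) (by norm_num) (by decide +kernel)]
  simp

theorem na_X4 (t : K) : na K * X4 t * (na K)⁻¹ = X2 t := by
  rw [X2, X4, w1_eq, w1_eq, na_c (s := 23) (s' := 22) (e := -1) (by norm_num) (by decide +kernel)]
  simp

/-- the conjugation by the torus -/
theorem hT_c {φ : K →+* K} {x y : K} (hx : x ≠ 0) (hy : y ≠ 0) {r : ℕ} (hr : r < 24) {c1 c2 c3 c4 : ℤ}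
    (h : (cartanRS chevD4 14 r, cartanRS chevD4 18 r, cartanRS chevD4 13 r, cartanRS chevD4 12 r) = (c1, c2, c3, c4))
    (u : K) : hT φ x y * xG r u * (hT φ x y)⁻¹ =
      xG r (x ^ c1 * (y ^ c2 * (φ y ^ c3 * (φ (φ y) ^ c4 * u)))) := by
  simp only [Prod.mk.injEq] at h
  obtain ⟨rfl, rfl, rfl, rfl⟩ := h
  exact hT_conj hr hx hy u

/-- the torus element -/
noncomputable def ht (φ : K →+* K) (y : K) : GL chevD4.Idx K := hT φ (y * φ y * φ (φ y)) y

variable {φ : K →+* K} {σ : K ≃+* K}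

theorem ht_X2 {y : K} (hy : y ≠ 0) (t : K) : ht φ y * X2 t * (ht φ y)⁻¹ = X2 t := by
  have hy1 : φ y ≠ 0 := (map_ne_zero φ).2 hy
  have hy2 : φ (φ y) ≠ 0 := (map_ne_zero φ).2 hy1
  rw [X2, w1_eq, ht, hT_c (mul_ne_zero (mul_ne_zero hy hy1) hy2) hy (c1 := -1) (c2 := 1) (c3 := 1) (c4 := 1)
    (by norm_num) (by decide +kernel)]
  congr 1
  simp only [zpow_neg_one, zpow_one]
  field_simp

theorem ht_X4 {y : K} (hy : y ≠ 0) (t : K) :
    ht φ y * X4 t * (ht φ y)⁻¹ = X4 (y * φ y * φ (φ y) * t) := by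
  have hy1 : φ y ≠ 0 := (map_ne_zero φ).2 hy
  have hy2 : φ (φ y) ≠ 0 := (map_ne_zero φ).2 hy1
  rw [X4, X4, w1_eq, w1_eq, ht, hT_c (mul_ne_zero (mul_ne_zero hy hy1) hy2) hy (c1 := 1) (c2 := 0) (c3 := 0)
    (c4 := 0) (by norm_num) (by decide +kernel)]
  congr 1
  simp only [zpow_one, zpow_zero, one_mul]
  ring

theorem ht_X6 {y : K} (hy : y ≠ 0) (t : K) :
    ht φ y * X6 t * (ht φ y)⁻¹ = X6 (y * φ y * φ (φ y) * t) := by
  have hy1 : φ y ≠ 0 := (map_ne_zero φ).2 hy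
  have hy2 : φ (φ y) ≠ 0 := (map_ne_zero φ).2 hy1
  rw [X6, X6, w1_eq, w1_eq, ht, hT_c (mul_ne_zero (mul_ne_zero hy hy1) hy2) hy (c1 := 2) (c2 := -1) (c3 := -1)
    (c4 := -1) (by norm_num) (by decide +kernel)]
  congr 1
  simp only [zpow_neg_one, zpow_ofNat]
  field_simp

theorem ht_X5 (hσφ : ∀ x, σ x = φ x) {y : K} (hy : y ≠ 0) (a : K) :
    ht φ y * X5 σ a * (ht φ y)⁻¹ = X5 σ (y ^ 2 * a) := by
  have hy1 : φ y ≠ 0 := (map_ne_zero φ).2 hy
  have hy2 : φ (φ y) ≠ 0 := (map_ne_zero φ).2 hy1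
  have hx := mul_ne_zero (mul_ne_zero hy hy1) hy2
  rw [X5, X5, w3_eq, w3_eq, conj3, ht,
    hT_c hx hy (r := 19) (c1 := 1) (c2 := 1) (c3 := -1) (c4 := -1) (by norm_num) (by decide +kernel),
    hT_c hx hy (r := 16) (c1 := 1) (c2 := -1) (c3 := 1) (c4 := -1) (by norm_num) (by decide +kernel),
    hT_c hx hy (r := 15) (c1 := 1) (c2 := -1) (c3 := -1) (c4 := 1) (by norm_num) (by decide +kernel)]
  simp only [zpow_neg_one, zpow_one, hσφ, map_mul, map_pow]
  congr 2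
  · field_simp
  · congr 1
    field_simp
  · congr 1
    field_simp

theorem ht_X3 (hσφ : ∀ x, σ x = φ x) (h3 : ∀ a, σ (σ (σ a)) = a) {y : K} (hy : y ≠ 0) (a : K) :
    ht φ y * X3 σ a * (ht φ y)⁻¹ = X3 σ (y⁻¹ * φ y * φ (φ y) * a) := by
  have hy1 : φ y ≠ 0 := (map_ne_zero φ).2 hy
  have hy2 : φ (φ y) ≠ 0 := (map_ne_zero φ).2 hy1
  have hx := mul_ne_zero (mul_ne_zero hy hy1) hy2
  have h3' : φ (φ (φ y)) = y := by rw [← hσφ, ← hσφ, ← hσφ, h3]
  rw [X3, X3, w3_eq, w3_eq, conj3, ht,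
    hT_c hx hy (r := 17) (c1 := 0) (c2 := -1) (c3 := 1) (c4 := 1) (by norm_num) (by decide +kernel),
    hT_c hx hy (r := 20) (c1 := 0) (c2 := 1) (c3 := -1) (c4 := 1) (by norm_num) (by decide +kernel),
    hT_c hx hy (r := 21) (c1 := 0) (c2 := 1) (c3 := 1) (c4 := -1) (by norm_num) (by decide +kernel)]
  simp only [zpow_neg_one, zpow_one, zpow_zero, one_mul, hσφ, map_mul, map_inv₀, h3']
  congr 2
  · ring
  · congr 1
    ring
  · congr 1
    ring

end Conj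

section Inst

variable {K : Type*} [Field K] [Fintype K] {q : ℕ} {φ : K →+* K} {σ : K ≃+* K}

/-- **The data for `³D₄(q)`.** -/
theorem hexAux (hq : 1 < q) (hK : Fintype.card K = q ^ 3) (hφ : ∀ x, φ x = x ^ q) (hσφ : ∀ x, σ x = φ x) :
    ∃ n h : ↥(twistedD4 K q), HexAux σ (ev (q := q) (X1 σ)) (ev X2) (ev (X3 σ)) (ev X4) (ev (X5 σ)) (ev X6) n h := by
  have hσ : ∀ x, σ x = x ^ q := fun x => by rw [hσφ, hφ]
  have h3 := cube_eq hK hσ
  have hP := hexPar hφ (D4Fixed.twisted_le_fix hK hφ) hσφ h3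
  have C1 := c1 hφ hσφ
  have C2 := fun {t : K} (ht : σ t = t) => c2 hφ hσφ ht
  have C3 := c3 hφ hσφ
  have C4 := fun {t : K} (ht : σ t = t) => c4 hφ hσφ ht
  have C5 := c5 hφ hσφ
  have C6 := fun {t : K} (ht : σ t = t) => c6 hφ hσφ ht
  obtain ⟨y, hy, hgen⟩ := exists_gen hK
  have hy1 : φ y ≠ 0 := (map_ne_zero φ).2 hy
  have hy2 : φ (φ y) ≠ 0 := (map_ne_zero φ).2 hy1
  have h3' : φ (φ (φ y)) = y := by rw [← hσφ, ← hσφ, ← hσφ, h3]
  have hN : φ (y * φ y * φ (φ y)) = y * φ y * φ (φ y) := by rw [map_mul, map_mul, h3']; ring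
  have hN' : σ (y * φ y * φ (φ y)) = y * φ y * φ (φ y) := by rw [hσφ, hN]
  have hhm : ht φ y ∈ twistedD4 K q := hT_mem hφ hN
  have q3 : 8 ≤ q ^ 3 := Nat.pow_le_pow_left hq 3
  have hNe : y * φ y * φ (φ y) = y ^ (1 + q + q ^ 2) := by
    rw [hφ, hφ, ← pow_mul]; ring
  -- transfer of conjugation relations
  have tr : ∀ {g : GL chevD4.Idx K} (hg : g ∈ twistedD4 K q) {x x' : ↥(twistedD4 K q)},
      g * (x : GL chevD4.Idx K) * g⁻¹ = x' → (⟨g, hg⟩ : ↥(twistedD4 K q)) * x = x' * ⟨g, hg⟩ := by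
    intro g hg x x' h
    apply Subtype.ext
    rw [Subgroup.coe_mul, Subgroup.coe_mul, ← h]
    group
  have trc : ∀ {g : GL chevD4.Idx K} (hg : g ∈ twistedD4 K q) {x x' : ↥(twistedD4 K q)},
      g * (x : GL chevD4.Idx K) * g⁻¹ = x' → IsConj x x' := by
    intro g hg x x' h
    rw [isConj_iff]
    refine ⟨⟨g, hg⟩, Subtype.ext ?_⟩
    rw [Subgroup.coe_mul, Subgroup.coe_mul, ← h]
    rfl
  refine ⟨⟨na K, na_mem hφ⟩, ⟨ht φ y, hhm⟩, ?_⟩
  refine ⟨hP.rel, trc_nondeg hq hK hσ, ?_, ?_, ?_, ?_, ?_, ?_, ?_, ?_, ?_⟩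
  · refine ⟨-1, by rw [map_neg, map_one], neg_ne_zero.2 one_ne_zero, fun s hs => tr _ ?_⟩
    rw [C2 hs, C4 (by rw [map_mul, map_neg, map_one, hs]), ← na_X2, neg_one_mul, neg_neg]
  · refine ⟨AddEquiv.refl K, fun a => tr _ ?_⟩
    rw [C3, C3, na_X3, AddEquiv.refl_apply]
  · refine ⟨1, map_one σ, one_ne_zero, fun s hs => tr _ ?_⟩
    rw [C4 hs, C2 (by rw [one_mul, hs]), na_X4, one_mul]
  · intro u hu hu0
    have hu' : σ (-u) = -u := by rw [map_neg, hu]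
    refine ⟨u, hu, hu0, ?_⟩
    refine (trc (nb_mem hφ) (x' := ev X2 (-u)) ?_).trans (trc (na_mem hφ) ?_)
    · rw [C6 hu, C2 hu', ← nb_X6, neg_neg]
    · rw [C2 hu', C4 hu, na_X2]
  · intro s hs
    apply tr
    rw [C2 hs, ht_X2 hy]
  · have hz : y⁻¹ * φ y * φ (φ y) ≠ 0 := mul_ne_zero (mul_ne_zero (inv_ne_zero hy) hy1) hy2
    refine ⟨AddAut.mulLeft (Units.mk0 _ hz), fun a => tr _ ?_⟩
    rw [C3, C3, ht_X3 hσφ h3 hy]
    rfl
  · refine ⟨_, hN', mul_ne_zero (mul_ne_zero hy hy1) hy2, fun s hs => tr _ ?_⟩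
    rw [C4 hs, C4 (by rw [map_mul, hN', hs]), ht_X4 hy]
  · refine ⟨y ^ 2, fun h => ?_, fun a => tr _ ?_⟩
    · have := Nat.le_of_dvd (by norm_num) (hgen 2 h)
      omega
    · rw [C5, C5, ht_X5 hσφ hy]
  · rw [card_fx hq hK hσ]
    rcases Nat.lt_or_ge 2 q with h2 | h2
    · right
      refine ⟨_, hN', fun h => ?_, fun u hu => tr _ ?_⟩
      · rw [hNe] at h
        have := Nat.le_of_dvd (by positivity) (hgen _ h)
        have h4 : 1 + q + q ^ 2 < q ^ 3 - 1 := by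
          have : 3 * q ^ 2 ≤ q ^ 3 := by nlinarith
          have : 3 * q ≤ q ^ 2 := by nlinarith
          omega
        omega
      · rw [C6 hu, C6 (by rw [map_mul, hN', hu]), ht_X6 hy]
    · left; omega

end Inst

end Cfsg.Agent.H121.TwD4
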