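import Cfsg.Agent.H121.E6Mem

/-!
# `²E₆(q)` satisfies the relations `F4Aux`
-/

set_option autoImplicit false
set_option linter.unusedSectionVars false
set_option linter.unusedSimpArgs false
set_option linter.unusedTactic false
set_option linter.unreachableTactic false

namespace Cfsg.Agent.H121.E6I

open Cfsg.Lie
open Cfsg.Agent.ChevalleyStructure.GraphSymm
open Cfsg.Agent.ChevalleyStructure.TwistedFix
open Cfsg.Agent.ChevalleyStructure.TwistedE6Sigma
open Cfsg.Agent.ChevalleyStructure.TwistedE6U (X L sig_X X_add)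
open Cfsg.Agent.ChevalleyStructure.TwistedE6G
open Cfsg.Agent.H121.HexMin (fx mem_fx coe_fx)
open Cfsg.Agent.H121.Quad Cfsg.Agent.H121.Orth Cfsg.Agent.H121.F4 Cfsg.Agent.H121.E6Eng Cfsg.Agent.H121.E6R
open Cfsg.Agent.H121.E6M Cfsg.Agent.H121.Sub

universe u

section Lev

variable {K : Type u} [Field K] {σ : K ≃+* K} [Quad.Inv σ]

theorem addA (a b : VV (Fin 3) σ) : W (wA (a + b)) = W (wA a) * W (wA b) := by
  rw [← W_append]
  refine W_eq comA nodA (inA _) (In_append (inA _) (inA _)) ?_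
  simp only [LA, List.forall_mem_cons]
  refine ⟨?_, ?_, ?_, ?_, ?_, ?_, ?_, ?_, ?_⟩
  all_goals simp [co, wA]
  all_goals try ring

theorem addB (a b : VV (Fin 2) σ) : W (wB (a + b)) = W (wB a) * W (wB b) := by
  rw [← W_append]
  refine W_eq comB nodB (inB _) (In_append (inB _) (inB _)) ?_
  simp only [LB, List.forall_mem_cons]
  refine ⟨?_, ?_, ?_, ?_, ?_, ?_, ?_⟩
  all_goals simp [co, wB]
  all_goals try ring

theorem addC (a b : VV (Fin 1) σ) : W (wC (a + b)) = W (wC a) * W (wC b) := by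
  rw [← W_append]
  refine W_eq comC nodC (inC _) (In_append (inC _) (inC _)) ?_
  simp only [LC, List.forall_mem_cons]
  refine ⟨?_, ?_, ?_, ?_, ?_⟩
  all_goals simp [co, wC]
  all_goals try ring

theorem com45 : comL [45, 59] = true := by decide +kernel
theorem com41 : comL [41, 58] = true := by decide +kernel

theorem addE1 (a b : K) : W (e1 σ (a + b)) = W (e1 σ a) * W (e1 σ b) := by
  rw [← W_append]
  refine W_eq com45 (by decide) (by simp [In, e1]) (by simp [In, e1]) ?_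
  simp only [List.forall_mem_cons]
  refine ⟨?_, ?_, ?_⟩
  all_goals simp [co, e1]
  all_goals try ring

theorem addE2 (a b : K) : W (e2 σ (a + b)) = W (e2 σ a) * W (e2 σ b) := by
  rw [← W_append]
  refine W_eq com41 (by decide) (by simp [In, e2]) (by simp [In, e2]) ?_
  simp only [List.forall_mem_cons]
  refine ⟨?_, ?_, ?_⟩
  all_goals simp [co, e2]
  all_goals try ring

theorem WS {a b : ℕ} (u v : K) : W [(a, u), (b, v)] = X a u * X b v := by simp [W]

/-! single root elements -/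

theorem W_one {l : List ℕ} (hc : comL l = true) (hn : l.Nodup) {w : List (ℕ × K)} (hw : In l w) {r : ℕ}
    (hr : r ∈ l) {t : K} (h : ∀ k ∈ l, co k w = if r = k then t else 0) : W w = X r t := by
  rw [← W_single]
  refine W_eq hc hn hw (by intro p hp; rw [List.mem_singleton] at hp; rw [hp]; exact hr) ?_
  intro k hk
  rw [h k hk]
  simp [co]

theorem A71 (t : fx σ) : W (wA (vx 0 t)) = X 71 (t : K) := by
  refine W_one comA nodA (inA _) (by decide) ?_
  simp only [LA, List.forall_mem_cons]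
  refine ⟨?_, ?_, ?_, ?_, ?_, ?_, ?_, ?_, ?_⟩
  all_goals simp [co, wA, vx]

theorem A70 (t : fx σ) : W (wA (vx 1 t)) = X 70 (t : K) := by
  refine W_one comA nodA (inA _) (by decide) ?_
  simp only [LA, List.forall_mem_cons]
  refine ⟨?_, ?_, ?_, ?_, ?_, ?_, ?_, ?_, ?_⟩
  all_goals simp [co, wA, vx]

theorem A69 (t : fx σ) : W (wA (vx 2 t)) = X 69 (t : K) := by
  refine W_one comA nodA (inA _) (by decide) ?_
  simp only [LA, List.forall_mem_cons]
  refine ⟨?_, ?_, ?_, ?_, ?_, ?_, ?_, ?_, ?_⟩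
  all_goals simp [co, wA, vx]

theorem A60 (t : fx σ) : W (wA (vy 0 t)) = X 60 (-t : K) := by
  refine W_one comA nodA (inA _) (by decide) ?_
  simp only [LA, List.forall_mem_cons]
  refine ⟨?_, ?_, ?_, ?_, ?_, ?_, ?_, ?_, ?_⟩
  all_goals simp [co, wA, vy]

theorem A63 (t : fx σ) : W (wA (vy 1 t)) = X 63 (t : K) := by
  refine W_one comA nodA (inA _) (by decide) ?_
  simp only [LA, List.forall_mem_cons]
  refine ⟨?_, ?_, ?_, ?_, ?_, ?_, ?_, ?_, ?_⟩
  all_goals simp [co, wA, vy]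

theorem A65 (t : fx σ) : W (wA (vy 2 t)) = X 65 (-t : K) := by
  refine W_one comA nodA (inA _) (by decide) ?_
  simp only [LA, List.forall_mem_cons]
  refine ⟨?_, ?_, ?_, ?_, ?_, ?_, ?_, ?_, ?_⟩
  all_goals simp [co, wA, vy]

theorem B53 (t : fx σ) : W (wB (vx 0 t)) = X 53 (t : K) := by
  refine W_one comB nodB (inB _) (by decide) ?_
  simp only [LB, List.forall_mem_cons]
  refine ⟨?_, ?_, ?_, ?_, ?_, ?_, ?_⟩
  all_goals simp [co, wB, vx]

theorem B51 (t : fx σ) : W (wB (vx 1 t)) = X 51 (t : K) := by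
  refine W_one comB nodB (inB _) (by decide) ?_
  simp only [LB, List.forall_mem_cons]
  refine ⟨?_, ?_, ?_, ?_, ?_, ?_, ?_⟩
  all_goals simp [co, wB, vx]

theorem C44 (t : fx σ) : W (wC (vx 0 t)) = X 44 (t : K) := by
  refine W_one comC nodC (inC _) (by decide) ?_
  simp only [LC, List.forall_mem_cons]
  refine ⟨?_, ?_, ?_, ?_, ?_⟩
  all_goals simp [co, wC, vx]

/-! commuting -/

theorem comEA : comL ([41, 45, 58, 59] ++ LA) = true := by decide +kernel
theorem comH3A : comL ([49, 61] ++ LA) = true := by decide +kernel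
theorem comH4A : comL ([52, 62] ++ LA) = true := by decide +kernel
theorem comG1A : comL ([36, 56] ++ LA) = true := by decide +kernel
theorem comG2A : comL ([38, 57] ++ LA) = true := by decide +kernel
theorem comG1 : comL [36, 56, 41, 58] = true := by decide +kernel
theorem comG2 : comL [38, 57, 45, 59] = true := by decide +kernel
theorem comS3e1 : comL [40, 43, 45, 59] = true := by decide +kernel
theorem comS3e2 : comL [40, 43, 41, 58] = true := by decide +kernel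
theorem comS4e1 : comL [37, 42, 45, 59] = true := by decide +kernel

theorem inApp (l : List ℕ) (a : VV (Fin 3) σ) : In (l ++ LA) (wA a) :=
  In_mono (fun _ h => List.mem_append_right l h) (inA a)

theorem eA1 (s : K) (a : VV (Fin 3) σ) : W (e1 σ s) * W (wA a) = W (wA a) * W (e1 σ s) :=
  W_comm comEA (by simp [In, e1]) (inApp _ a)
theorem eA2 (s : K) (a : VV (Fin 3) σ) : W (e2 σ s) * W (wA a) = W (wA a) * W (e2 σ s) :=
  W_comm comEA (by simp [In, e2]) (inApp _ a)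
theorem e12 (s t : K) : W (e1 σ s) * W (e2 σ t) = W (e2 σ t) * W (e1 σ s) :=
  W_comm comEA (by simp [In, e1]) (by simp [In, e2])
theorem h3A (s : K) (a : VV (Fin 3) σ) : W (h3 σ s) * W (wA a) = W (wA a) * W (h3 σ s) :=
  W_comm comH3A (by simp [In, h3]) (inApp _ a)
theorem h4A (s : K) (a : VV (Fin 3) σ) : W (h4 σ s) * W (wA a) = W (wA a) * W (h4 σ s) :=
  W_comm comH4A (by simp [In, h4]) (inApp _ a)
theorem g1A (s : K) (a : VV (Fin 3) σ) : W (g1 σ s) * W (wA a) = W (wA a) * W (g1 σ s) :=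
  W_comm comG1A (by simp [In, g1]) (inApp _ a)
theorem g2A (s : K) (a : VV (Fin 3) σ) : W (g2 σ s) * W (wA a) = W (wA a) * W (g2 σ s) :=
  W_comm comG2A (by simp [In, g2]) (inApp _ a)
theorem g1e2 (s t : K) : W (g1 σ s) * W (e2 σ t) = W (e2 σ t) * W (g1 σ s) :=
  W_comm comG1 (by simp [In, g1]) (by simp [In, e2])
theorem g2e1 (s t : K) : W (g2 σ s) * W (e1 σ t) = W (e1 σ t) * W (g2 σ s) :=
  W_comm comG2 (by simp [In, g2]) (by simp [In, e1])
theorem s3e1 (s t : K) : W (s3 σ s) * W (e1 σ t) = W (e1 σ t) * W (s3 σ s) :=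
  W_comm comS3e1 (by simp [In, s3]) (by simp [In, e1])
theorem s3e2 (s t : K) : W (s3 σ s) * W (e2 σ t) = W (e2 σ t) * W (s3 σ s) :=
  W_comm comS3e2 (by simp [In, s3]) (by simp [In, e2])
theorem s4e1 (s t : K) : W (s4 σ s) * W (e1 σ t) = W (e1 σ t) * W (s4 σ s) :=
  W_comm comS4e1 (by simp [In, s4]) (by simp [In, e1])

theorem conj_of_comm {G : Type*} [Group G] {g x : G} (h : g * x = x * g) : g⁻¹ * x * g = x := by
  rw [mul_assoc, ← h, inv_mul_cancel_left]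

/-! stabilizers -/

theorem okBA : (LB.all fun r => okS r LA) = true := by decide +kernel
theorem okCA : (LC.all fun r => okS r LA) = true := by decide +kernel
theorem okCB : (LC.all fun r => okS r LB) = true := by decide +kernel
theorem okSA : ([40, 43, 28, 31, 37, 42, 29, 34, 46, 25].all fun r => okS r LA) = true := by decide +kernel
theorem okSB : ([37, 42, 29, 34].all fun r => okS r LB) = true := by decide +kernel

theorem staA2 {a b : ℕ} (ha : a ∈ [40, 43, 28, 31, 37, 42, 29, 34, 46, 25])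
    (hb : b ∈ [40, 43, 28, 31, 37, 42, 29, 34, 46, 25]) (u v : K) : Sta LA (X a u * X b v) :=
  Sta_mul (Sta_X (List.all_eq_true.1 okSA a ha) u) (Sta_X (List.all_eq_true.1 okSA b hb) v)

theorem staB2 {a b : ℕ} (ha : a ∈ [37, 42, 29, 34]) (hb : b ∈ [37, 42, 29, 34]) (u v : K) :
    Sta LB (X a u * X b v) :=
  Sta_mul (Sta_X (List.all_eq_true.1 okSB a ha) u) (Sta_X (List.all_eq_true.1 okSB b hb) v)

theorem sta46 : Sta LA (n46 K) :=
  Sta_mul (Sta_X (List.all_eq_true.1 okSA 46 (by decide)) 1)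
    (Sta_mul (Sta_X (List.all_eq_true.1 okSA 25 (by decide)) _) (Sta_X (List.all_eq_true.1 okSA 46 (by decide)) 1))

end Lev

section Inst

variable {K : Type u} [Field K] [Fintype K] {q : ℕ} {φ : K →+* K} (hφ : ∀ t, φ t = t ^ q)
  (hφφ : ∀ t, φ (φ t) = t) {σ : K ≃+* K} [Quad.Inv σ] (hσ : ∀ t, σ t = φ t)

include hφ hφφ hσ

/-! membership of the short root elements -/

theorem mp {a b : ℕ} (h : (pr a b && decide (eps a = 1)) = true) (u : K) : X a u * X b (σ u) ∈ twistedE6 K q := by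
  rw [Bool.and_eq_true, decide_eq_true_eq] at h
  have := mem2 hφ hφφ h.1 u
  rwa [h.2, Int.cast_one, one_mul, ← hσ] at this

theorem mn {a b : ℕ} (h : (pr a b && decide (eps a = -1)) = true) (u : K) :
    X a u * X b (-σ u) ∈ twistedE6 K q := by
  rw [Bool.and_eq_true, decide_eq_true_eq] at h
  have := mem2 hφ hφφ h.1 u
  rwa [h.2, Int.cast_neg, Int.cast_one, neg_one_mul, ← hσ] at this

theorem mm2 (u : K) : X 21 u * X 23 (σ u) ∈ twistedE6 K q := by rw [hσ]; exact mem_m2 hφ hφφ u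
theorem mm3 (u : K) : X 28 u * X 31 (-σ u) ∈ twistedE6 K q := by rw [hσ]; exact mem_m3 hφ hφφ u
theorem mm4 (u : K) : X 29 u * X 34 (σ u) ∈ twistedE6 K q := by rw [hσ]; exact mem_m4 hφ hφφ u
theorem ms2 (u : K) : W (s2 σ u) ∈ twistedE6 K q := by rw [s2, WS]; exact mp hφ hφφ hσ (by decide +kernel) u
theorem ms3 (u : K) : W (s3 σ u) ∈ twistedE6 K q := by rw [s3, WS]; exact mn hφ hφφ hσ (by decide +kernel) u
theorem ms4 (u : K) : W (s4 σ u) ∈ twistedE6 K q := by rw [s4, WS]; exact mp hφ hφφ hσ (by decide +kernel) u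
theorem me1 (u : K) : W (e1 σ u) ∈ twistedE6 K q := by rw [e1, WS]; exact mn hφ hφφ hσ (by decide +kernel) u
theorem me2 (u : K) : W (e2 σ u) ∈ twistedE6 K q := by rw [e2, WS]; exact mp hφ hφφ hσ (by decide +kernel) u
theorem mh1 (u : K) : W (h1 σ u) ∈ twistedE6 K q := by rw [h1, WS]; exact mn hφ hφφ hσ (by decide +kernel) u
theorem mh2 (u : K) : W (h2 σ u) ∈ twistedE6 K q := by rw [h2, WS]; exact mn hφ hφφ hσ (by decide +kernel) u
theorem mh3 (u : K) : W (h3 σ u) ∈ twistedE6 K q := by rw [h3, WS]; exact mn hφ hφφ hσ (by decide +kernel) u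
theorem mh4 (u : K) : W (h4 σ u) ∈ twistedE6 K q := by rw [h4, WS]; exact mn hφ hφφ hσ (by decide +kernel) u
theorem mg1 (u : K) : W (g1 σ u) ∈ twistedE6 K q := by rw [g1, WS]; exact mp hφ hφφ hσ (by decide +kernel) u
theorem mg2 (u : K) : W (g2 σ u) ∈ twistedE6 K q := by rw [g2, WS]; exact mn hφ hφφ hσ (by decide +kernel) u

theorem fix_conj {g x : GL chevE6.Idx K} (hg : g ∈ twistedE6 K q) (hx : x ∈ twistedE6 K q) :
    sig symmE6 φ (g * x * g⁻¹) = g * x * g⁻¹ :=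
  mem_fixS.1 (twistedE6_le_fix hφ hφφ (mul_mem (mul_mem hg hx) (inv_mem hg)))

theorem norA (g : twistedE6 K q) (hg : Sta LA (g : GL chevE6.Idx K)) :
    Nor (fun a : VV (Fin 3) σ => (⟨W (wA a), mem_wA hφ hφφ hσ a⟩ : twistedE6 K q)) g := by
  have h : ∀ a : VV (Fin 3) σ, ∃ b : VV (Fin 3) σ, (g : GL chevE6.Idx K) * W (wA a) * (g : GL chevE6.Idx K)⁻¹ = W (wA b) :=
    fun a => coordA hσ (hg _ (W_mem (inA a))) (fix_conj hφ hφφ hσ g.2 (mem_wA hφ hφφ hσ a))
  choose f hf using h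
  have hinj : Function.Injective f := by
    intro a b hab
    apply injA
    have h1 := hf a
    rw [hab, ← hf b] at h1
    exact mul_left_cancel (mul_right_cancel h1)
  exact ⟨f, Finite.injective_iff_bijective.1 hinj, fun a => Subtype.ext (by
    show (g : GL chevE6.Idx K) * W (wA a) = W (wA (f a)) * (g : GL chevE6.Idx K)
    rw [← hf]; group)⟩

theorem norB (g : twistedE6 K q) (hg : Sta LB (g : GL chevE6.Idx K)) :
    Nor (fun a : VV (Fin 2) σ => (⟨W (wB a), mem_wB hφ hφφ hσ a⟩ : twistedE6 K q)) g := by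
  have h : ∀ a : VV (Fin 2) σ, ∃ b : VV (Fin 2) σ, (g : GL chevE6.Idx K) * W (wB a) * (g : GL chevE6.Idx K)⁻¹ = W (wB b) :=
    fun a => coordB hσ (hg _ (W_mem (inB a))) (fix_conj hφ hφφ hσ g.2 (mem_wB hφ hφφ hσ a))
  choose f hf using h
  have hinj : Function.Injective f := by
    intro a b hab
    apply injB
    have h1 := hf a
    rw [hab, ← hf b] at h1
    exact mul_left_cancel (mul_right_cancel h1)
  exact ⟨f, Finite.injective_iff_bijective.1 hinj, fun a => Subtype.ext (by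
    show (g : GL chevE6.Idx K) * W (wB a) = W (wB (f a)) * (g : GL chevE6.Idx K)
    rw [← hf]; group)⟩

/-- the relations -/
theorem f4 (hne : ∃ a : K, σ a ≠ a) :
    F4Aux (σ := σ) (G := twistedE6 K q) (fun a => ⟨W (wA a), mem_wA hφ hφφ hσ a⟩)
      (fun a => ⟨W (wB a), mem_wB hφ hφφ hσ a⟩)
      (fun a => ⟨W (wC a), mem_wC hφ hφφ hσ a⟩) (fun s => ⟨W (e1 σ s), me1 hφ hφφ hσ s⟩)
      (fun s => ⟨W (e2 σ s), me2 hφ hφφ hσ s⟩) (fun s => ⟨W (h1 σ s), mh1 hφ hφφ hσ s⟩)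
      (fun s => ⟨W (h2 σ s), mh2 hφ hφφ hσ s⟩) (fun s => ⟨W (h3 σ s), mh3 hφ hφφ hσ s⟩)
      (fun s => ⟨W (h4 σ s), mh4 hφ hφφ hσ s⟩) (fun s => ⟨W (s2 σ s), ms2 hφ hφφ hσ s⟩)
      (fun s => ⟨W (s3 σ s), ms3 hφ hφφ hσ s⟩) (fun s => ⟨W (s4 σ s), ms4 hφ hφφ hσ s⟩)
      (⟨n5 K, mem_n5 hφ hφφ⟩⁻¹) where
  addA a b := Subtype.ext (addA a b)
  addB a b := Subtype.ext (addB a b)
  addC a b := Subtype.ext (addC a b)
  addE1 a b := Subtype.ext (addE1 a b)
  addE2 a b := Subtype.ext (addE2 a b)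
  pA i u := by
    fin_cases i
    · exact ⟨⟨_, mp hφ hφφ hσ (a := 48) (b := 50) (by decide +kernel) (-u)⟩, fun a => Subtype.ext (by
        have := c48A (-u) a; rwa [neg_neg] at this)⟩
    · exact ⟨⟨_, mn hφ hφφ hσ (a := 40) (b := 43) (by decide +kernel) u⟩, fun a => Subtype.ext (c40A u a)⟩
    · exact ⟨⟨_, mp hφ hφφ hσ (a := 37) (b := 42) (by decide +kernel) (-u)⟩, fun a => Subtype.ext (by
        have := c37A (-u) a; rwa [neg_neg] at this)⟩
  mA i u := by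
    fin_cases i
    · exact ⟨⟨_, mm2 hφ hφφ hσ u⟩, fun a => Subtype.ext (c21A u a)⟩
    · exact ⟨⟨_, mm3 hφ hφφ hσ u⟩, fun a => Subtype.ext (c28A u a)⟩
    · exact ⟨⟨_, mm4 hφ hφφ hσ u⟩, fun a => Subtype.ext (c29A u a)⟩
  nB b := norA hφ hφφ hσ _ (Sta_W okBA (inB b))
  pB i u := by
    fin_cases i
    · exact ⟨⟨_, mn hφ hφφ hσ (a := 40) (b := 43) (by decide +kernel) u⟩,
        norA hφ hφφ hσ _ (staA2 (by decide) (by decide) _ _), fun a => Subtype.ext (c40B u a)⟩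
    · exact ⟨⟨_, mp hφ hφφ hσ (a := 37) (b := 42) (by decide +kernel) (-u)⟩,
        norA hφ hφφ hσ _ (staA2 (by decide) (by decide) _ _), fun a => Subtype.ext (by
        have := c37B (-u) a; rwa [neg_neg] at this)⟩
  mB i u := by
    fin_cases i
    · exact ⟨⟨_, mm3 hφ hφφ hσ u⟩, norA hφ hφφ hσ _ (staA2 (by decide) (by decide) _ _),
        fun a => Subtype.ext (c28B u a)⟩
    · exact ⟨⟨_, mm4 hφ hφφ hσ u⟩, norA hφ hφφ hσ _ (staA2 (by decide) (by decide) _ _),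
        fun a => Subtype.ext (c29B u a)⟩
  nC c := ⟨norA hφ hφφ hσ _ (Sta_W okCA (inC c)), norB hφ hφφ hσ _ (Sta_W okCB (inC c))⟩
  pC i u := by
    fin_cases i
    exact ⟨⟨_, mp hφ hφφ hσ (a := 37) (b := 42) (by decide +kernel) u⟩,
        norA hφ hφφ hσ _ (staA2 (by decide) (by decide) _ _), norB hφ hφφ hσ _ (staB2 (by decide) (by decide) _ _),
        fun a => Subtype.ext (c37C u a)⟩
  mC i u := by
    fin_cases i
    exact ⟨⟨_, mm4 hφ hφφ hσ (-u)⟩, norA hφ hφφ hσ _ (staA2 (by decide) (by decide) _ _),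
        norB hφ hφφ hσ _ (staB2 (by decide) (by decide) _ _),
        fun a => Subtype.ext (by have := c29C (-u) a; rwa [neg_neg] at this)⟩
  eA1 s a := Subtype.ext (eA1 s a)
  eA2 s a := Subtype.ext (eA2 s a)
  e12 s t := Subtype.ext (e12 s t)
  f1 z := ⟨⟨_, mg1 hφ hφφ hσ z⟩, fun a => Subtype.ext (g1A z a), fun s => Subtype.ext (by
      have h := rf1 (σ := σ) z s
      rw [W_append, mul_inv_eq_iff_eq_mul] at h
      exact h), fun s => Subtype.ext (g1e2 z s)⟩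
  f2 z := ⟨⟨_, mg2 hφ hφφ hσ (-z)⟩, fun a => Subtype.ext (g2A (-z) a), fun s => Subtype.ext (by
      have h := rf2 (σ := σ) z s
      rw [W_append, mul_inv_eq_iff_eq_mul] at h
      exact h), fun s => Subtype.ext (g2e1 (-z) s)⟩
  s2A u := ⟨-u, fun a => Subtype.ext (by
    show W (s2 σ u) * W (wA a) = W (wA (rp 0 (-u) a)) * W (s2 σ u)
    rw [s2, WS]; exact c48A u a)⟩
  s3A u := ⟨u, fun a => Subtype.ext (by
    show W (s3 σ u) * W (wA a) = W (wA (rp 1 u a)) * W (s3 σ u)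
    rw [s3, WS]; exact c40A u a)⟩
  s4A u := ⟨-u, fun a => Subtype.ext (by
    show W (s4 σ u) * W (wA a) = W (wA (rp 2 (-u) a)) * W (s4 σ u)
    rw [s4, WS]; exact c37A u a)⟩
  s3B u := ⟨u, fun a => Subtype.ext (by
    show W (s3 σ u) * W (wB a) = W (wB (rp 0 u a)) * W (s3 σ u)
    rw [s3, WS]; exact c40B u a)⟩
  s4B u := ⟨-u, fun a => Subtype.ext (by
    show W (s4 σ u) * W (wB a) = W (wB (rp 1 (-u) a)) * W (s4 σ u)
    rw [s4, WS]; exact c37B u a)⟩
  s2e1 u s := ⟨_, Subtype.ext (by have h := rs2e1 (σ := σ) u s; rw [W_append] at h; exact h)⟩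
  s2e2 u s := ⟨_, Subtype.ext (by have h := rs2e2 (σ := σ) u s; rw [W_append] at h; exact h)⟩
  s3e1 u s := Subtype.ext (conj_of_comm (s3e1 u s))
  s3e2 u s := Subtype.ext (conj_of_comm (s3e2 u s))
  s4e1 u s := Subtype.ext (conj_of_comm (s4e1 u s))
  s4e2 u s := ⟨_, Subtype.ext (by have h := rs4e2 (σ := σ) u s; rw [W_append] at h; exact h)⟩
  h3A z a := Subtype.ext (h3A z a)
  h4A z a := Subtype.ext (h4A z a)
  h3e1 z s := ⟨_, rfl, Subtype.ext (by have h := rh3e1 (σ := σ) z s; rw [W_append] at h; exact h)⟩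
  h3e2 z s := ⟨vy 2 (-T σ (z * σ s)), by simp [vy], Subtype.ext (by have h := rh3e2 (σ := σ) z s; rw [W_append] at h; exact h)⟩
  h4e1 z s := ⟨vx 2 (-T σ (z * σ s)), by simp [vx], Subtype.ext (by have h := rh4e1 (σ := σ) z s; rw [W_append] at h; exact h)⟩
  h4e2 z s := ⟨_, rfl, Subtype.ext (by have h := rh4e2 (σ := σ) z s; rw [W_append] at h; exact h)⟩
  s3h4 z := ⟨1, z, Subtype.ext (by
    have h := rs3h4 (σ := σ) 1 z
    rw [W_append, one_mul] at h
    show W (s3 σ 1) * W (h4 σ z) * (W (s3 σ 1))⁻¹ * (W (h4 σ z))⁻¹ = W (h1 σ z)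
    rw [h, mul_inv_cancel_right])⟩
  s3h3 z := ⟨1, -z, Subtype.ext (by
    have h := rs3h3 (σ := σ) 1 (-z)
    rw [W_append, map_one, mul_one, neg_neg] at h
    show W (s3 σ 1) * W (h3 σ (-z)) * (W (s3 σ 1))⁻¹ * (W (h3 σ (-z)))⁻¹ = W (h2 σ z)
    rw [h, mul_inv_cancel_right])⟩
  c23 t := by
    obtain ⟨v, hv⟩ := exists_T_eq hne t
    refine ⟨1, v, Subtype.ext ?_⟩
    have h := rc23 (σ := σ) 1 v
    rw [W_append, map_one, mul_one, hv, W_single] at h
    show W (s2 σ 1) * W (s3 σ v) * (W (s2 σ 1))⁻¹ * (W (s3 σ v))⁻¹ = W (wB (vx 0 t))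
    rw [h, mul_inv_cancel_right, B53]
  c24 t := by
    obtain ⟨v, hv⟩ := exists_T_eq hne (-t)
    refine ⟨1, v, Subtype.ext ?_⟩
    have h := rc24 (σ := σ) 1 v
    rw [W_append, map_one, mul_one, hv, W_single, NegMemClass.coe_neg, neg_neg] at h
    show W (s2 σ 1) * W (s4 σ v) * (W (s2 σ 1))⁻¹ * (W (s4 σ v))⁻¹ = W (wB (vx 1 t))
    rw [h, mul_inv_cancel_right, B51]
  c34 t := by
    obtain ⟨v, hv⟩ := exists_T_eq hne t
    refine ⟨1, v, Subtype.ext ?_⟩
    have h := rc34 (σ := σ) 1 v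
    rw [W_append, map_one, mul_one, hv, W_single] at h
    show W (s3 σ 1) * W (s4 σ v) * (W (s3 σ 1))⁻¹ * (W (s4 σ v))⁻¹ = W (wC (vx 0 t))
    rw [h, mul_inv_cancel_right, C44]
  d34 t := by
    refine ⟨⟨n46 K, mem_n46 hφ hφφ⟩, vx 1 (-t), norA hφ hφφ hσ _ sta46, Subtype.ext ?_⟩
    show W (wC (vx 0 t)) = n46 K * W (wB (vx 1 (-t))) * (n46 K)⁻¹
    rw [C44, B51, c51, NegMemClass.coe_neg, neg_neg]
  wx j t := by
    refine ⟨t, Subtype.ext ?_⟩
    show (n5 K)⁻¹⁻¹ * W (wA (vx j t)) * (n5 K)⁻¹ = W (wA (vx j t))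
    rw [inv_inv]
    fin_cases j
    · show n5 K * W (wA (vx 0 t)) * (n5 K)⁻¹ = W (wA (vx 0 t))
      rw [A71, n5_71]
    · show n5 K * W (wA (vx 1 t)) * (n5 K)⁻¹ = W (wA (vx 1 t))
      rw [A70, n5_70]
    · show n5 K * W (wA (vx 2 t)) * (n5 K)⁻¹ = W (wA (vx 2 t))
      rw [A69, n5_69]
  wy0 t := by
    refine ⟨t, Subtype.ext ?_⟩
    show (n5 K)⁻¹⁻¹ * W (wA (vy 0 t)) * (n5 K)⁻¹ = W (wC (vx 0 t))
    rw [inv_inv, A60, n5_60, C44, neg_neg]
  wy1 t := by
    refine ⟨-t, Subtype.ext ?_⟩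
    show (n5 K)⁻¹⁻¹ * W (wA (vy 1 t)) * (n5 K)⁻¹ = W (wB (vx 1 (-t)))
    rw [inv_inv, A63, n5_63, B51, NegMemClass.coe_neg]
  wy2 t := by
    refine ⟨t, Subtype.ext ?_⟩
    show (n5 K)⁻¹⁻¹ * W (wA (vy 2 t)) * (n5 K)⁻¹ = W (wB (vx 0 t))
    rw [inv_inv, A65, n5_65, B53, neg_neg]
  w23 t := by
    refine ⟨t, Subtype.ext ?_⟩
    show (n5 K)⁻¹⁻¹ * W (wB (vx 0 t)) * (n5 K)⁻¹ = W (wA (vy 2 t))
    rw [inv_inv, B53, n5_53, A65]
  w24 t := by
    refine ⟨-t, Subtype.ext ?_⟩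
    show (n5 K)⁻¹⁻¹ * W (wB (vx 1 t)) * (n5 K)⁻¹ = W (wA (vy 1 (-t)))
    rw [inv_inv, B51, n5_51, A63, NegMemClass.coe_neg]
  w34 := by
    refine ⟨1, one_ne_zero, fun t => Subtype.ext ?_⟩
    show (n5 K)⁻¹⁻¹ * W (wC (vx 0 t)) * (n5 K)⁻¹ = W (wA (vy 0 (1 * t)))
    rw [inv_inv, C44, n5_44, A60, one_mul]

end Inst

end Cfsg.Agent.H121.E6I
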