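import Cfsg.Agent.H121.F4Aux

/-!
# Lower bounds for the degrees of complex representations of `²E₆(q)`: the proof

`main`: if `xA` acts non-trivially then `q (q⁶ - q³ + 1)(q⁴ + 1) ≤ dim V + 2`.
-/

set_option autoImplicit false
set_option linter.unusedSectionVars false

namespace Cfsg.Agent.H121.F4

open Module
open Cfsg.Agent.H121.HexMin (fx mem_fx coe_fx map_pr)
open Cfsg.Agent.H121.Quad Cfsg.Agent.H121.Wt Cfsg.Agent.H121.Chr Cfsg.Agent.H121.Orth Cfsg.Agent.H121.Sub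

variable {K : Type*} [Field K] {σ : K ≃+* K} [Quad.Inv σ] {G : Type*} [Group G] [Fintype K]
  {xA : VV (Fin 3) σ → G} {xB : VV (Fin 2) σ → G} {xC : VV (Fin 1) σ → G}
  {e1 e2 h1 h2 h3 h4 s2 s3 s4 : K → G} {w : G}
  {V : Type*} [AddCommGroup V] [Module ℂ V] [FiniteDimensional ℂ V] (ρ : Representation ℂ G V)
  (D : F4Aux xA xB xC e1 e2 h1 h2 h3 h4 s2 s3 s4 w)

include D

/-- The vector `m`. -/
theorem exists_m {l : AddChar (fx σ) ℂ} {m0 : V} (hm0 : m0 ≠ 0) (hA : ∀ a, ρ (xA a) m0 = chr l (cc 0 0) a • m0)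
    (hE1 : ∀ s, ρ (e1 s) m0 = m0) (hE2 : ∀ s, ρ (e2 s) m0 = m0)
    (hun : ∀ m : V, (∀ a, ρ (xA a) m = chr l (cc 0 0) a • m) → (∀ s, ρ (e1 s) m = m) →
        (∀ s, ρ (e2 s) m = m) → ∃ d : ℂ, m = d • m0) :
    ∃ m : V, m ≠ 0 ∧ (∀ (j : Fin 3) t, ρ (xA (vx j t)) m = m) ∧ (∀ (j : Fin 3) t, ρ (xA (vy j t)) m = m) ∧
      (∀ t, ρ (xB (vx 0 t)) m = m) ∧ (∀ t, ρ (xB (vx 1 t)) m = m) ∧
      ∃ c : fx σ, c ≠ 0 ∧ ∀ t, ρ (xC (vx 0 t)) m = l (c * t) • m := by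
  -- elements of `xA` with `y 0 = 0` fix `m0`
  have hA0 : ∀ a : VV (Fin 3) σ, (a.1 0).2 = 0 → ρ (xA a) m0 = m0 := by
    intro a ha
    rw [hA, chr_cc, ha, AddChar.map_zero_eq_one, one_smul]
  -- criterion
  have crit : ∀ g : G, (∀ a, ρ (xA a) (ρ g m0) = chr l (cc 0 0) a • ρ g m0) →
      (∀ s, ρ (g⁻¹ * e1 s * g) m0 = m0) → (∀ s, ρ (g⁻¹ * e2 s * g) m0 = m0) → ∃ d : ℂ, ρ g m0 = d • m0 := by
    intro g k1 k2 k3
    refine hun _ k1 (fun s => ?_) fun s => ?_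
    · rw [← Module.End.mul_apply, ← map_mul]
      have e : e1 s * g = g * (g⁻¹ * e1 s * g) := by group
      rw [e, map_mul, Module.End.mul_apply, k2]
    · rw [← Module.End.mul_apply, ← map_mul]
      have e : e2 s * g = g * (g⁻¹ * e2 s * g) := by group
      rw [e, map_mul, Module.End.mul_apply, k3]
  have critA : ∀ (g : G) (f : VV (Fin 3) σ → VV (Fin 3) σ), Function.Surjective f → (∀ a, g * xA a = xA (f a) * g) →
      (∀ a, ((f a).1 0).2 = (a.1 0).2) → ∀ a, ρ (xA a) (ρ g m0) = chr l (cc 0 0) a • ρ g m0 := by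
    intro g f hf hg hy a
    obtain ⟨a, rfl⟩ := hf a
    rw [← Module.End.mul_apply, ← map_mul, ← hg, map_mul, Module.End.mul_apply, hA, map_smul, chr_cc, chr_cc, hy]
  have critAc : ∀ (g : G), (∀ a, g * xA a = xA a * g) → ∀ a, ρ (xA a) (ρ g m0) = chr l (cc 0 0) a • ρ g m0 :=
    fun g hg => critA g id Function.surjective_id hg fun _ => rfl
  -- `s3`, `s4`, `h3`, `h4`
  have S3 : ∀ u, ∃ d : ℂ, ρ (s3 u) m0 = d • m0 := by
    intro u
    obtain ⟨u', hu'⟩ := D.s3A u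
    exact crit _ (critA _ _ (rp_bijective _ _).2 hu' fun a => rp_y0 _ _ _ _) (fun s => by rw [D.s3e1, hE1])
      fun s => by rw [D.s3e2, hE2]
  have S4 : ∀ u, ∃ d : ℂ, ρ (s4 u) m0 = d • m0 := by
    intro u
    obtain ⟨u', hu'⟩ := D.s4A u
    refine crit _ (critA _ _ (rp_bijective _ _).2 hu' fun a => rp_y0 _ _ _ _) (fun s => by rw [D.s4e1, hE1])
      fun s => ?_
    obtain ⟨z, hz⟩ := D.s4e2 u s
    rw [hz, map_mul, Module.End.mul_apply, hE1, hE2]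
  have H3 : ∀ u, ∃ d : ℂ, ρ (h3 u) m0 = d • m0 := by
    intro u
    refine crit _ (critAc _ (D.h3A u)) (fun s => ?_) fun s => ?_
    · obtain ⟨a, ha, h⟩ := D.h3e1 u s
      rw [h, map_mul, Module.End.mul_apply, hA0 a ha, hE1]
    · obtain ⟨a, ha, h⟩ := D.h3e2 u s
      rw [h, map_mul, Module.End.mul_apply, hA0 a ha, hE2]
  have H4 : ∀ u, ∃ d : ℂ, ρ (h4 u) m0 = d • m0 := by
    intro u
    refine crit _ (critAc _ (D.h4A u)) (fun s => ?_) fun s => ?_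
    · obtain ⟨a, ha, h⟩ := D.h4e1 u s
      rw [h, map_mul, Module.End.mul_apply, hA0 a ha, hE1]
    · obtain ⟨a, ha, h⟩ := D.h4e2 u s
      rw [h, map_mul, Module.End.mul_apply, hA0 a ha, hE2]
  have H1 : ∀ z, ρ (h1 z) m0 = m0 := by
    intro z
    obtain ⟨u, v, h⟩ := D.s3h4 z
    obtain ⟨c, hc⟩ := S3 u
    obtain ⟨c', hc'⟩ := H4 v
    rw [← h]
    exact comm_fix ρ hc hc'
  have H2 : ∀ z, ρ (h2 z) m0 = m0 := by
    intro z
    obtain ⟨u, v, h⟩ := D.s3h3 z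
    obtain ⟨c, hc⟩ := S3 u
    obtain ⟨c', hc'⟩ := H3 v
    rw [← h]
    exact comm_fix ρ hc hc'
  have S2 : ∀ u, ∃ d : ℂ, ρ (s2 u) m0 = d • m0 := by
    intro u
    obtain ⟨u', hu'⟩ := D.s2A u
    refine crit _ (critA _ _ (rp_bijective _ _).2 hu' fun a => rp_y0 _ _ _ _) (fun s => ?_) fun s => ?_
    · obtain ⟨z, hz⟩ := D.s2e1 u s
      rw [hz, map_mul, Module.End.mul_apply, H1, hE1]
    · obtain ⟨z, hz⟩ := D.s2e2 u s
      rw [hz, map_mul, Module.End.mul_apply, H2, hE2]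
  have Y23 : ∀ t, ρ (xB (vx 0 t)) m0 = m0 := by
    intro t
    obtain ⟨u, v, h⟩ := D.c23 t
    obtain ⟨c, hc⟩ := S2 u
    obtain ⟨c', hc'⟩ := S3 v
    rw [← h]
    exact comm_fix ρ hc hc'
  have Y24 : ∀ t, ρ (xB (vx 1 t)) m0 = m0 := by
    intro t
    obtain ⟨u, v, h⟩ := D.c24 t
    obtain ⟨c, hc⟩ := S2 u
    obtain ⟨c', hc'⟩ := S4 v
    rw [← h]
    exact comm_fix ρ hc hc'
  have Y34 : ∀ t, ρ (xC (vx 0 t)) m0 = m0 := by
    intro t
    obtain ⟨u, v, h⟩ := D.c34 t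
    obtain ⟨c, hc⟩ := S3 u
    obtain ⟨c', hc'⟩ := S4 v
    rw [← h]
    exact comm_fix ρ hc hc'
  -- the conjugate vector
  have conj : ∀ g : G, ∀ d : ℂ, ρ (w⁻¹ * g * w) m0 = d • m0 → ρ g (ρ w m0) = d • ρ w m0 := by
    intro g d h
    have e : g * w = w * (w⁻¹ * g * w) := by group
    rw [← Module.End.mul_apply, ← map_mul, e, map_mul, Module.End.mul_apply, h, map_smul]
  have conj1 : ∀ g : G, ρ (w⁻¹ * g * w) m0 = m0 → ρ g (ρ w m0) = ρ w m0 := by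
    intro g h
    have := conj g 1 (by rw [h, one_smul])
    rwa [one_smul] at this
  refine ⟨ρ w m0, ?_, ?_, ?_, ?_, ?_, ?_⟩
  · intro h
    apply hm0
    have : ρ w⁻¹ (ρ w m0) = m0 := by
      rw [← Module.End.mul_apply, ← map_mul, inv_mul_cancel, map_one, Module.End.one_apply]
    rw [← this, h, map_zero]
  · intro j t
    obtain ⟨t', ht'⟩ := D.wx j t
    refine conj1 _ ?_
    rw [ht']
    apply hA0
    by_cases hj : j = 0
    · subst hj; simp [vx]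
    · simp [vx, Pi.single_eq_of_ne (Ne.symm hj)]
  · intro j t
    apply conj1
    fin_cases j
    · obtain ⟨t', ht'⟩ := D.wy0 t
      show ρ (w⁻¹ * xA (vy 0 t) * w) m0 = m0
      rw [ht', Y34]
    · obtain ⟨t', ht'⟩ := D.wy1 t
      show ρ (w⁻¹ * xA (vy 1 t) * w) m0 = m0
      rw [ht', Y24]
    · obtain ⟨t', ht'⟩ := D.wy2 t
      show ρ (w⁻¹ * xA (vy 2 t) * w) m0 = m0
      rw [ht', Y23]
  · intro t
    obtain ⟨t', ht'⟩ := D.w23 t
    apply conj1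
    rw [ht']
    apply hA0
    simp [vy]
  · intro t
    obtain ⟨t', ht'⟩ := D.w24 t
    apply conj1
    rw [ht']
    apply hA0
    simp [vy]
  · obtain ⟨c, hc, h⟩ := D.w34
    refine ⟨c, hc, fun t => conj _ _ ?_⟩
    rw [h, hA, chr_cc]
    simp [vy]

section Levels

variable {q : ℕ} (hK : Nat.card K = q ^ 2) (hσ : ∀ a, σ a = a ^ q) (hq : 1 < q) {l : AddChar (fx σ) ℂ} (hl : l ≠ 1)

include hK hσ hq hl

/-- The vector `m` lies in `V₀`. -/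
theorem mem_V0 (hns : ∀ c : fx σ, c ≠ 0 → mu (fun a => ρ (xA a)) l (cc 0 c) = 0) {m : V}
    (h1 : ∀ (j : Fin 3) t, ρ (xA (vx j t)) m = m) (h2 : ∀ (j : Fin 3) t, ρ (xA (vy j t)) m = m) :
    m ∈ wt (fun a => ρ (xA a)) 1 := by
  have hne := exists_ne hK hσ hq
  have hinv := invA ρ D
  have hl' : ∀ s : fx σ, s ≠ 0 → ∃ t, l (s * t) ≠ 1 := by
    intro s hs
    by_contra hcon
    push Not at hcon
    apply hl
    apply DFunLike.ext
    intro t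
    have := hcon (s⁻¹ * t)
    rw [mul_inv_cancel_left₀ hs] at this
    rw [this, AddChar.one_apply]
  refine mem_wt_one hinv.act fun χ hχ => ?_
  obtain ⟨v, rfl⟩ := (chr_bijective hne hl).2 χ
  have hv : v ≠ 0 := by
    rintro rfl
    exact hχ (chr_zero l)
  by_contra hp
  -- the coordinates vanish
  have hx : ∀ j, (v.1 j).1 = 0 := by
    intro j
    by_contra h
    obtain ⟨t, ht⟩ := hl' _ h
    exact hp (pr_eq_zero_of hinv.act (a := vy j t) (h2 j t) (by rw [chr_vy]; exact ht))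
  have hy : ∀ j, (v.1 j).2 = 0 := by
    intro j
    by_contra h
    obtain ⟨t, ht⟩ := hl' _ h
    exact hp (pr_eq_zero_of hinv.act (a := vx j t) (h1 j t) (by rw [chr_vx]; exact ht))
  have hQ : Q v = N σ v.2 := by
    unfold Q
    rw [Finset.sum_eq_zero, zero_add]
    intro i _
    rw [hx i, zero_mul]
  have hz : v.2 ≠ 0 := by
    intro h
    exact hv (Prod.ext (funext fun i => Prod.ext (hx i) (hy i)) h)
  have hmu : mu (fun a => ρ (xA a)) l v = 0 := by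
    rw [mu_eq hinv l hne (exists_N_eq hK hσ) 0 hv]
    exact hns _ (by rw [hQ]; exact fun h => hz (N_eq_zero.1 h))
  rw [mu, Submodule.finrank_eq_zero] at hmu
  have := pr_mem hinv.act (chr l v) m
  rw [hmu, Submodule.mem_bot] at this
  exact hp this

end Levels

/-! ### Level B -/

omit D in
/-- the fixed points of `xA` -/
def V0 (ρ : Representation ℂ G V) (xA : VV (Fin 3) σ → G) : Submodule ℂ V := wt (fun a => ρ (xA a)) 1

/-- `xB` as elements of the stabilizer -/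
def xB0 (b : VV (Fin 2) σ) : stab ρ (V0 ρ xA) := ⟨xB b, mem_stab_one ρ (D.nB b)⟩

/-- the operators of level B -/
def RB (b : VV (Fin 2) σ) : End ℂ (V0 ρ xA) := sub ρ (V0 ρ xA) (xB0 ρ D b)

theorem nor0 {g : stab ρ (V0 ρ xA)} (h : Nor xB (g : G)) : Nor (xB0 ρ D) g := by
  obtain ⟨f, hf, h⟩ := h
  exact ⟨f, hf, fun a => Subtype.ext (h a)⟩

theorem invB : Inva (RB ρ D) where
  act := isAct_of (sub ρ (V0 ρ xA)) (x := xB0 ρ D) fun a b => Subtype.ext (D.addB a b)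
  p i u := by
    obtain ⟨g, hg, h⟩ := D.pB i u
    have hg' : g ∈ stab ρ (V0 ρ xA) := mem_stab_one ρ hg
    refine ⟨sub ρ _ ⟨g, hg'⟩, sub ρ _ ⟨g, hg'⟩⁻¹, ?_, fun a => ?_⟩
    · rw [← map_mul, inv_mul_cancel, map_one]
    · rw [RB, RB, ← map_mul, ← map_mul]
      congr 1
      exact Subtype.ext (h a)
  m i u := by
    obtain ⟨g, hg, h⟩ := D.mB i u
    have hg' : g ∈ stab ρ (V0 ρ xA) := mem_stab_one ρ hg
    refine ⟨sub ρ _ ⟨g, hg'⟩, sub ρ _ ⟨g, hg'⟩⁻¹, ?_, fun a => ?_⟩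
    · rw [← map_mul, inv_mul_cancel, map_one]
    · rw [RB, RB, ← map_mul, ← map_mul]
      congr 1
      exact Subtype.ext (h a)

/-- the fixed points of `xB` -/
def V00 : Submodule ℂ (V0 ρ xA) := wt (RB ρ D) 1

/-- `xC` as elements of the stabilizer -/
def xC0 (c : VV (Fin 1) σ) : stab ρ (V0 ρ xA) := ⟨xC c, mem_stab_one ρ (D.nC c).1⟩

/-- `xC` as elements of the second stabilizer -/
def xC1 (c : VV (Fin 1) σ) : stab (sub ρ (V0 ρ xA)) (V00 ρ D) :=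
  ⟨xC0 ρ D c, mem_stab_one (sub ρ (V0 ρ xA)) (x := xB0 ρ D) (nor0 ρ D (D.nC c).2)⟩

/-- the operators of level C -/
def RC (c : VV (Fin 1) σ) : End ℂ (V00 ρ D) := sub (sub ρ (V0 ρ xA)) (V00 ρ D) (xC1 ρ D c)

theorem invC : Inva (RC ρ D) where
  act := isAct_of (sub (sub ρ (V0 ρ xA)) (V00 ρ D)) (x := xC1 ρ D) fun a b => Subtype.ext (Subtype.ext (D.addC a b))
  p i u := by
    obtain ⟨g, hg, hg', h⟩ := D.pC i u
    have h1 : g ∈ stab ρ (V0 ρ xA) := mem_stab_one ρ hg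
    have h2 : (⟨g, h1⟩ : stab ρ (V0 ρ xA)) ∈ stab (sub ρ (V0 ρ xA)) (V00 ρ D) :=
      mem_stab_one (sub ρ (V0 ρ xA)) (x := xB0 ρ D) (nor0 ρ D (g := ⟨g, h1⟩) hg')
    refine ⟨sub (sub ρ (V0 ρ xA)) (V00 ρ D) ⟨⟨g, h1⟩, h2⟩,
      sub (sub ρ (V0 ρ xA)) (V00 ρ D) ⟨⟨g, h1⟩, h2⟩⁻¹, ?_, fun a => ?_⟩
    · rw [← map_mul, inv_mul_cancel, map_one]
    · rw [RC, RC, ← map_mul, ← map_mul]
      congr 1
      exact Subtype.ext (Subtype.ext (h a))
  m i u := by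
    obtain ⟨g, hg, hg', h⟩ := D.mC i u
    have h1 : g ∈ stab ρ (V0 ρ xA) := mem_stab_one ρ hg
    have h2 : (⟨g, h1⟩ : stab ρ (V0 ρ xA)) ∈ stab (sub ρ (V0 ρ xA)) (V00 ρ D) :=
      mem_stab_one (sub ρ (V0 ρ xA)) (x := xB0 ρ D) (nor0 ρ D (g := ⟨g, h1⟩) hg')
    refine ⟨sub (sub ρ (V0 ρ xA)) (V00 ρ D) ⟨⟨g, h1⟩, h2⟩,
      sub (sub ρ (V0 ρ xA)) (V00 ρ D) ⟨⟨g, h1⟩, h2⟩⁻¹, ?_, fun a => ?_⟩
    · rw [← map_mul, inv_mul_cancel, map_one]
    · rw [RC, RC, ← map_mul, ← map_mul]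
      congr 1
      exact Subtype.ext (Subtype.ext (h a))

section Levels2

variable {q : ℕ} (hK : Nat.card K = q ^ 2) (hσ : ∀ a, σ a = a ^ q) (hq : 1 < q) {l : AddChar (fx σ) ℂ} (hl : l ≠ 1)

include hK hσ hq hl

omit D in
theorem exists_l {s : fx σ} (hs : s ≠ 0) : ∃ t, l (s * t) ≠ 1 := by
  by_contra hcon
  push Not at hcon
  apply hl
  apply DFunLike.ext
  intro t
  have := hcon (s⁻¹ * t)
  rw [mul_inv_cancel_left₀ hs] at this
  rw [this, AddChar.one_apply]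

/-- **Level C.** -/
theorem levelC {m : V00 ρ D} {t : fx σ}
    (hm : ρ (xC (vx 0 t)) ((m : V0 ρ xA) : V) ≠ ((m : V0 ρ xA) : V)) :
    cnt σ 1 0 - 1 ≤ finrank ℂ (V00 ρ D) := by
  have hinv := invC ρ D
  obtain ⟨c, hc⟩ := exists_cc hK hσ hq hinv hl 0 (a := vx 0 t) (by
    intro h
    apply hm
    have := congrArg (fun T : End ℂ (V00 ρ D) => ((T m : V00 ρ D) : V0 ρ xA)) h
    exact congrArg Subtype.val this)
  have h0 := cnt_zero hK hσ hq 1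
  by_cases hc0 : c = 0
  · subst hc0
    have := le_of_sing hK hσ hq hinv hl 0 (r := 1) (Nat.one_le_iff_ne_zero.2 hc)
    omega
  · have h1 := le_of_nonsing hK hσ hq hinv hl 0 hc0 (r := 1) (Nat.one_le_iff_ne_zero.2 hc)
    rw [cnt_ne hK hσ hq 1 hc0] at h1
    omega

/-- **Level B.** -/
theorem levelB {m : V} (hm0 : m ≠ 0) (hm : m ∈ V0 ρ xA)
    (k1 : ∀ t, ρ (xB (vx 0 t)) m = m) (k2 : ∀ t, ρ (xB (vx 1 t)) m = m) {c : fx σ} (hc : c ≠ 0)
    (k3 : ∀ t, ρ (xC (vx 0 t)) m = l (c * t) • m) :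
    q ^ 5 + q ^ 2 ≤ finrank ℂ (V0 ρ xA) ∨
      2 * (cnt σ 2 0 - 1) ≤ finrank ℂ (V0 ρ xA) ∨
      (cnt σ 1 0 - 1) + (cnt σ 2 0 - 1) ≤ finrank ℂ (V0 ρ xA) := by
  have hne := exists_ne hK hσ hq
  have hinv := invB ρ D
  obtain ⟨t0, ht0⟩ := exists_l hK hσ hq hl hc
  -- some non-trivial weight
  obtain ⟨b0, hb0⟩ : ∃ b, RB ρ D b ≠ 1 := by
    by_contra hcon
    push Not at hcon
    obtain ⟨g, b, hg, h⟩ := D.d34 t0
    have hgs := mem_stab_one ρ hg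
    have h1 : xC0 ρ D (vx 0 t0) = ⟨g, hgs⟩ * xB0 ρ D b * ⟨g, hgs⟩⁻¹ := Subtype.ext h
    have h2 : sub ρ (V0 ρ xA) (xC0 ρ D (vx 0 t0)) = 1 := by
      rw [h1, map_mul, map_mul, show sub ρ (V0 ρ xA) (xB0 ρ D b) = 1 from hcon b, mul_one, ← map_mul, mul_inv_cancel, map_one]
    have h3 := congrArg (fun T : End ℂ (V0 ρ xA) => ((T ⟨m, hm⟩ : V0 ρ xA) : V)) h2
    have h4 : ρ (xC (vx 0 t0)) m = m := h3
    rw [k3] at h4
    have h5 : (l (c * t0) - 1) • m = 0 := by rw [sub_smul, one_smul, h4, sub_self]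
    rcases smul_eq_zero.1 h5 with h5 | h5
    · exact ht0 (sub_eq_zero.1 h5)
    · exact hm0 h5
  obtain ⟨d, hd⟩ := exists_cc hK hσ hq hinv hl 0 hb0
  by_cases hns : ∀ d : fx σ, d ≠ 0 → mu (RB ρ D) l (cc 0 d) = 0
  swap
  · left
    push Not at hns
    obtain ⟨d, hd0, hd⟩ := hns
    have h1 := le_of_nonsing hK hσ hq hinv hl 0 hd0 (r := 1) (Nat.one_le_iff_ne_zero.2 hd)
    rw [cnt_ne hK hσ hq 2 hd0, one_mul] at h1
    exact h1
  right
  have hd0 : d = 0 := by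
    by_contra h
    exact hd (hns d h)
  subst hd0
  by_cases hr : 2 ≤ mu (RB ρ D) l (cc 0 0)
  · left
    have := le_of_sing hK hσ hq hinv hl 0 hr
    omega
  right
  have hr1 : mu (RB ρ D) l (cc 0 0) = 1 := by omega
  have hs := le_of_sing hK hσ hq hinv hl 0 (r := 1) (by rw [hr1])
  -- `m ∈ V₀₀`
  have hm1 : (⟨m, hm⟩ : V0 ρ xA) ∈ wt (RB ρ D) 1 := by
    refine mem_wt_one hinv.act fun χ hχ => ?_
    obtain ⟨v, rfl⟩ := (chr_bijective hne hl).2 χ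
    have hv : v ≠ 0 := by
      rintro rfl
      exact hχ (chr_zero l)
    by_contra hp
    set p := pr (RB ρ D) (chr l v) ⟨m, hm⟩ with hpdef
    have hpw : p ∈ wt (RB ρ D) (chr l v) := pr_mem hinv.act _ _
    have hy0 : (v.1 0).2 = 0 := by
      by_contra h
      obtain ⟨t, ht⟩ := exists_l hK hσ hq hl h
      exact hp (pr_eq_zero_of hinv.act (a := vx 0 t) (Subtype.ext (k1 t)) (by rw [chr_vx]; exact ht))
    have hy1 : (v.1 1).2 = 0 := by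
      by_contra h
      obtain ⟨t, ht⟩ := exists_l hK hσ hq hl h
      exact hp (pr_eq_zero_of hinv.act (a := vx 1 t) (Subtype.ext (k2 t)) (by rw [chr_vx]; exact ht))
    have hmu : mu (RB ρ D) l v ≠ 0 := by
      intro h
      rw [mu, Submodule.finrank_eq_zero] at h
      rw [h, Submodule.mem_bot] at hpw
      exact hp hpw
    have hQ : Q v = N σ v.2 := by
      unfold Q
      rw [Fin.sum_univ_two, hy0, hy1, mul_zero, mul_zero, zero_add, zero_add]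
    have hmu' := mu_eq hinv l hne (exists_N_eq hK hσ) 0 hv
    have hz : v.2 = 0 := by
      by_contra hz
      apply hmu
      rw [hmu']
      exact hns _ (by rw [hQ]; exact fun h => hz (N_eq_zero.1 h))
    have hmu1 : mu (RB ρ D) l v = 1 := by
      rw [hmu', hQ, hz, N_zero, hr1]
    -- the elements fixing `v` act by scalars on `p`
    have hfix : ∀ (i : Fin 2) (u : K), rp i u v = v := by
      intro i u
      have hyi : (v.1 i).2 = 0 := by fin_cases i; exacts [hy0, hy1]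
      refine Prod.ext ?_ ?_
      · simp only [rp]
        rw [Function.update_eq_self_iff]
        refine Prod.ext ?_ rfl
        simp only [hz, hyi, zero_mul, T_zero, sub_zero, mul_zero]
      · simp only [rp, hyi, hz]
        simp
    have hchr : ∀ (i : Fin 2) (u : K) (b : VV (Fin 2) σ), chr l v (rp i u b) = chr l v b := by
      intro i u b
      conv_lhs => rw [← hfix i u]
      rw [chr_rp]
    have hline : ∀ y ∈ wt (RB ρ D) (chr l v), ∃ d : ℂ, y = d • p := by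
      intro y hy
      rw [mu] at hmu1
      obtain ⟨d, hd⟩ := (finrank_eq_one_iff_of_nonzero' (⟨p, hpw⟩ : wt (RB ρ D) (chr l v))
        (fun h => hp (congrArg Subtype.val h))).1 hmu1 ⟨y, hy⟩
      exact ⟨d, (congrArg Subtype.val hd).symm⟩
    have E3 : ∀ u, ∃ g : stab ρ (V0 ρ xA), (g : G) = s3 u ∧
        sub ρ (V0 ρ xA) g * pr (RB ρ D) (chr l v) =
          pr (RB ρ D) (chr l v) * sub ρ (V0 ρ xA) g ∧ ∃ d : ℂ, sub ρ (V0 ρ xA) g p = d • p := by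
      intro u
      obtain ⟨u', hu'⟩ := D.s3A u
      obtain ⟨u'', hu''⟩ := D.s3B u
      have hg : s3 u ∈ stab ρ (V0 ρ xA) := mem_stab_one ρ ⟨_, rp_bijective _ _, hu'⟩
      have hg' : ∀ b, (⟨s3 u, hg⟩ : stab ρ (V0 ρ xA)) * xB0 ρ D b = xB0 ρ D (rp 0 u'' b) * ⟨s3 u, hg⟩ :=
        fun b => Subtype.ext (hu'' b)
      exact ⟨⟨s3 u, hg⟩, rfl, map_pr _ hg' (rp_bijective _ _) (hchr 0 u''),
        hline _ (map_wt _ hg' (rp_bijective _ _).2 (hchr 0 u'') hpw)⟩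
    have E4 : ∀ u, ∃ g : stab ρ (V0 ρ xA), (g : G) = s4 u ∧
        sub ρ (V0 ρ xA) g * pr (RB ρ D) (chr l v) =
          pr (RB ρ D) (chr l v) * sub ρ (V0 ρ xA) g ∧ ∃ d : ℂ, sub ρ (V0 ρ xA) g p = d • p := by
      intro u
      obtain ⟨u', hu'⟩ := D.s4A u
      obtain ⟨u'', hu''⟩ := D.s4B u
      have hg : s4 u ∈ stab ρ (V0 ρ xA) := mem_stab_one ρ ⟨_, rp_bijective _ _, hu'⟩
      have hg' : ∀ b, (⟨s4 u, hg⟩ : stab ρ (V0 ρ xA)) * xB0 ρ D b = xB0 ρ D (rp 1 u'' b) * ⟨s4 u, hg⟩ :=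
        fun b => Subtype.ext (hu'' b)
      exact ⟨⟨s4 u, hg⟩, rfl, map_pr _ hg' (rp_bijective _ _) (hchr 1 u''),
        hline _ (map_wt _ hg' (rp_bijective _ _).2 (hchr 1 u'') hpw)⟩
    obtain ⟨u, u', huu⟩ := D.c34 t0
    obtain ⟨g, hg, hgp, d1, hd1⟩ := E3 u
    obtain ⟨g', hg', hgp', d2, hd2⟩ := E4 u'
    have hC : xC0 ρ D (vx 0 t0) = g * g' * g⁻¹ * g'⁻¹ := by
      apply Subtype.ext
      show xC (vx 0 t0) = (g : G) * g' * (g : G)⁻¹ * (g' : G)⁻¹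
      rw [hg, hg', huu]
    have hfixp : sub ρ (V0 ρ xA) (xC0 ρ D (vx 0 t0)) p = p := by
      rw [hC]
      exact comm_fix _ hd1 hd2
    -- commuting with the projection
    have hinv' : ∀ g : stab ρ (V0 ρ xA), sub ρ (V0 ρ xA) g * pr (RB ρ D) (chr l v) =
          pr (RB ρ D) (chr l v) * sub ρ (V0 ρ xA) g →
        sub ρ (V0 ρ xA) g⁻¹ * pr (RB ρ D) (chr l v) =
          pr (RB ρ D) (chr l v) * sub ρ (V0 ρ xA) g⁻¹ := by
      intro g hg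
      have i1 : sub ρ (V0 ρ xA) g⁻¹ * sub ρ (V0 ρ xA) g = 1 := by rw [← map_mul, inv_mul_cancel, map_one]
      have i2 : sub ρ (V0 ρ xA) g * sub ρ (V0 ρ xA) g⁻¹ = 1 := by rw [← map_mul, mul_inv_cancel, map_one]
      calc sub ρ (V0 ρ xA) g⁻¹ * pr (RB ρ D) (chr l v) =
          sub ρ (V0 ρ xA) g⁻¹ * (pr (RB ρ D) (chr l v) * sub ρ (V0 ρ xA) g) * sub ρ (V0 ρ xA) g⁻¹ := by
            rw [mul_assoc, mul_assoc, i2, mul_one]
        _ = sub ρ (V0 ρ xA) g⁻¹ * (sub ρ (V0 ρ xA) g * pr (RB ρ D) (chr l v)) * sub ρ (V0 ρ xA) g⁻¹ := by rw [hg]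
        _ = _ := by rw [← mul_assoc (sub ρ (V0 ρ xA) g⁻¹), i1, one_mul]
    have hCp : sub ρ (V0 ρ xA) (xC0 ρ D (vx 0 t0)) * pr (RB ρ D) (chr l v) =
        pr (RB ρ D) (chr l v) * sub ρ (V0 ρ xA) (xC0 ρ D (vx 0 t0)) := by
      rw [hC, map_mul, map_mul, map_mul, mul_assoc, hinv' _ hgp', ← mul_assoc, mul_assoc _ (sub ρ (V0 ρ xA) g⁻¹),
        hinv' _ hgp, ← mul_assoc, mul_assoc _ (sub ρ (V0 ρ xA) g'), hgp', ← mul_assoc, hgp]
      simp only [mul_assoc]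
    have h1 : sub ρ (V0 ρ xA) (xC0 ρ D (vx 0 t0)) p = l (c * t0) • p := by
      rw [hpdef, ← Module.End.mul_apply, hCp, Module.End.mul_apply]
      have : sub ρ (V0 ρ xA) (xC0 ρ D (vx 0 t0)) ⟨m, hm⟩ = l (c * t0) • (⟨m, hm⟩ : V0 ρ xA) := Subtype.ext (k3 t0)
      rw [this, map_smul]
    rw [hfixp] at h1
    have h5 : (l (c * t0) - 1) • p = 0 := by rw [sub_smul, one_smul, ← h1, sub_self]
    rcases smul_eq_zero.1 h5 with h5 | h5
    · exact ht0 (sub_eq_zero.1 h5)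
    · exact hp h5
  have hC := levelC ρ D hK hσ hq hl (m := ⟨⟨m, hm⟩, hm1⟩) (t := t0) (by
    show ρ (xC (vx 0 t0)) m ≠ m
    rw [k3]
    intro h4
    have h5 : (l (c * t0) - 1) • m = 0 := by rw [sub_smul, one_smul, h4, sub_self]
    rcases smul_eq_zero.1 h5 with h5 | h5
    · exact ht0 (sub_eq_zero.1 h5)
    · exact hm0 h5)
  have h0 : mu (RB ρ D) l 0 = finrank ℂ (V00 ρ D) := by
    rw [mu, chr_zero, V00]
  rw [h0, one_mul] at hs
  omega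

end Levels2

omit D in
/-- the arithmetic -/
theorem arith {q : ℕ} (hq : 1 < q) : q * (q ^ 6 - q ^ 3 + 1) * (q ^ 4 + 1) + q ^ 8 + q ^ 4 =
    q ^ 11 + q ^ 7 + q ^ 5 + q ∧ (∀ n : ℕ, 2 * q ^ n ≤ q ^ (n + 1)) := by
  constructor
  · have h : q ^ 3 ≤ q ^ 6 := Nat.pow_le_pow_right (by omega) (by norm_num)
    obtain ⟨r, hr⟩ := Nat.exists_eq_add_of_le h
    have e : q ^ 6 - q ^ 3 + 1 = r + 1 := by omega
    rw [e]
    have e2 : q ^ 11 = q ^ 5 * (q ^ 3 + r) := by rw [← hr]; ring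
    have e3 : q ^ 7 = q * (q ^ 3 + r) := by rw [← hr]; ring
    rw [e2, e3]
    ring
  · intro n
    rw [pow_succ, mul_comm]
    exact Nat.mul_le_mul_left _ hq

/-- **The lower bound.** -/
theorem main {q : ℕ} (hK : Nat.card K = q ^ 2) (hσ : ∀ a, σ a = a ^ q) (hq : 1 < q)
    (hρ : ∃ a, ρ (xA a) ≠ 1) : q * (q ^ 6 - q ^ 3 + 1) * (q ^ 4 + 1) ≤ finrank ℂ V + 2 := by
  have hne := exists_ne hK hσ hq
  have hinv := invA ρ D
  obtain ⟨l, hl⟩ : ∃ l : AddChar (fx σ) ℂ, l ≠ 1 := by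
    have hc : 1 < Fintype.card (AddChar (fx σ) ℂ) := by
      rw [card_addChar, card_F hK hσ hq]
      exact hq
    exact Fintype.exists_ne_of_one_lt_card hc 1
  obtain ⟨N, hN⟩ : ∃ N, N = q * (q ^ 6 - q ^ 3 + 1) * (q ^ 4 + 1) := ⟨_, rfl⟩
  obtain ⟨ha, hp⟩ := arith hq
  rw [← hN] at ha ⊢
  have hKc : Fintype.card K ^ 2 = q ^ 4 := by rw [← Nat.card_eq_fintype_card, hK]; ring
  have c3 := cnt_zero hK hσ hq 3
  have c2 := cnt_zero hK hσ hq 2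
  have c1 := cnt_zero hK hσ hq 1
  norm_num at c3 c2 c1
  have p0 := hp 0
  have p1 := hp 1
  have p2 := hp 2
  have p3 := hp 3
  have p4 := hp 4
  have p5 := hp 5
  have p6 := hp 6
  have p7 := hp 7
  have p8 := hp 8
  have p9 := hp 9
  have p10 := hp 10
  norm_num at p0 p1 p2 p3 p4 p5 p6 p7 p8 p9 p10
  have c3' : 1 ≤ cnt σ 3 0 := by omega
  have e3 : q ^ 4 * (cnt σ 3 0 - 1) + q ^ 8 + q ^ 4 = q ^ 11 + q ^ 7 := by
    obtain ⟨r, hr⟩ := Nat.exists_eq_add_of_le c3'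
    rw [hr, Nat.add_sub_cancel_left]
    have : q ^ 4 * (cnt σ 3 0 + q ^ 4) = q ^ 4 * (q ^ 7 + q ^ 3) := by rw [c3]
    rw [hr] at this
    have e1 : q ^ 4 * (1 + r + q ^ 4) = q ^ 4 * r + q ^ 8 + q ^ 4 := by ring
    have e2 : q ^ 4 * (q ^ 7 + q ^ 3) = q ^ 11 + q ^ 7 := by ring
    rw [← e1, this, e2]
  -- no non-singular weights
  by_cases hns : ∀ c : fx σ, c ≠ 0 → mu (fun a => ρ (xA a)) l (cc 0 c) = 0
  swap
  · push Not at hns
    obtain ⟨c, hc0, hc⟩ := hns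
    obtain ⟨f, hf, -⟩ := heisA ρ D hne hl c
    have hf0 : f ≠ 0 := by
      rintro rfl
      exact hc (by rw [hf, mul_zero])
    have h1 := le_of_nonsing hK hσ hq hinv hl 0 hc0 (r := q ^ 4) (by
      rw [hf, hKc]
      exact Nat.le_mul_of_pos_right _ (Nat.pos_of_ne_zero hf0))
    rw [cnt_ne hK hσ hq 3 hc0] at h1
    have e2 : q ^ 4 * (q ^ (2 * 3 + 1) + q ^ 3) = q ^ 11 + q ^ 7 := by ring
    rw [e2] at h1
    omega
  obtain ⟨a0, ha0⟩ := hρ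
  obtain ⟨c, hc⟩ := exists_cc hK hσ hq hinv hl 0 ha0
  have hc0 : c = 0 := by
    by_contra h
    exact hc (hns c h)
  subst hc0
  obtain ⟨f, hf, hm⟩ := heisA ρ D hne hl 0
  have hf0 : f ≠ 0 := by
    rintro rfl
    exact hc (by rw [hf, mul_zero])
  by_cases hf2 : 2 ≤ f
  · have h1 := le_of_sing hK hσ hq hinv hl 0 (r := q ^ 4 * 2) (by
      rw [hf, hKc]
      exact Nat.mul_le_mul_left _ hf2)
    rw [mul_assoc, mul_comm 2, ← mul_assoc] at h1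
    omega
  have hf1 : f = 1 := by omega
  obtain ⟨m0, hm0, hA, hE1, hE2, hun⟩ := hm hf1
  obtain ⟨m, hmne, m1, m2, m3, m4, c, hc0, m5⟩ := exists_m ρ D hm0 hA hE1 hE2 hun
  have hmV := mem_V0 ρ D hK hσ hq hl hns m1 m2
  have h1 := le_of_sing hK hσ hq hinv hl 0 (r := q ^ 4) (by rw [hf, hKc, hf1, mul_one])
  have h0 : mu (fun a => ρ (xA a)) l 0 = finrank ℂ (V0 ρ xA) := by
    rw [mu, chr_zero, V0]
  rw [h0] at h1
  rcases levelB ρ D hK hσ hq hl hmne hmV m3 m4 hc0 m5 with h2 | h2 | h2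
  · omega
  · omega
  · omega

end Cfsg.Agent.H121.F4
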