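import Cfsg.Agent.ChevalleyStructure.TwistedE6Rel

/-!
# Computations with words of root elements in `E₆`

`conj_W`: conjugation of a word by a root element; `W_eq_lprod`: words in commuting root elements.
-/

set_option autoImplicit false
set_option linter.unusedSectionVars false

namespace Cfsg.Agent.H121.E6Eng

open Cfsg.Lie
open Cfsg.Agent.ChevalleyStructure
open Cfsg.Agent.ChevalleyStructure.GraphSymm
open Cfsg.Agent.ChevalleyStructure.TwistedU
open Cfsg.Agent.ChevalleyStructure.TwistedFix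
open Cfsg.Agent.ChevalleyStructure.TwistedE6Sigma
open Cfsg.Agent.ChevalleyStructure.TwistedE6U

/-- the root and the constant of the commutator of two root elements -/
def cj (r s : ℕ) : Option (ℕ × ℤ) :=
  match chevE6.commTerms r s with
  | [] => none
  | c :: _ => some (c.1, c.2.1)

/-- `x_r`, `x_s` commute -/
def com (r s : ℕ) : Bool :=
  decide (r < 72) && decide (s < 72) && decide (s ≠ r) && decide (s ≠ chevE6.neg r) &&
    (chevE6.commTerms r s).isEmpty

/-- the commutator formula of `x_r`, `x_s` has at most one term -/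
def okc (r s : ℕ) : Bool :=
  decide (r < 72) && decide (s < 72) && decide (s ≠ r) && decide (s ≠ chevE6.neg r) &&
    (match chevE6.commTerms r s with
      | [] => true
      | [(k, _, 1, 1)] => com r k
      | _ => false)

variable {K : Type*} [Field K]

theorem X_zero (r : ℕ) : X r (0 : K) = 1 := by
  have h := X_add r (0 : K) 0
  rw [add_zero] at h
  exact (mul_eq_left.1 h.symm)

theorem X_neg (r : ℕ) (t : K) : X r (-t) = (X r t)⁻¹ := by
  rw [eq_inv_iff_mul_eq_one, ← X_add, neg_add_cancel, X_zero]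

theorem commute_of_com {r s : ℕ} (h : com r s = true) (t u : K) : Commute (X r t) (X s u) := by
  simp only [com, Bool.and_eq_true, decide_eq_true_eq, List.isEmpty_iff] at h
  obtain ⟨⟨⟨⟨h1, h2⟩, h3⟩, h4⟩, h5⟩ := h
  exact commute_of_nil h1 h2 h3 h4 h5 t u

theorem conj_X_none {r s : ℕ} (h : okc r s = true) (hc : cj r s = none) (t u : K) :
    X r t * X s u * (X r t)⁻¹ = X s u := by
  simp only [okc, Bool.and_eq_true, decide_eq_true_eq] at h
  obtain ⟨⟨⟨⟨h1, h2⟩, h3⟩, h4⟩, h5⟩ := h
  have h6 : chevE6.commTerms r s = [] := by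
    unfold cj at hc
    split at hc
    · assumption
    · simp at hc
  rw [(commute_of_nil h1 h2 h3 h4 h6 t u).eq]
  group

theorem conj_X_some {r s k : ℕ} {c : ℤ} (h : okc r s = true) (hc : cj r s = some (k, c)) (t u : K) :
    X r t * X s u * (X r t)⁻¹ = X s u * X k ((c : K) * t * u) := by
  simp only [okc, Bool.and_eq_true, decide_eq_true_eq] at h
  obtain ⟨⟨⟨⟨h1, h2⟩, h3⟩, h4⟩, h5⟩ := h
  obtain ⟨h6, h7⟩ : chevE6.commTerms r s = [(k, c, 1, 1)] ∧ com r k = true := by
    unfold cj at hc
    generalize chevE6.commTerms r s = L at h5 hc ⊢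
    split at h5
    · simp at hc
    · simp only [Option.some.injEq, Prod.mk.injEq] at hc
      obtain ⟨rfl, rfl⟩ := hc
      exact ⟨rfl, h5⟩
    · simp at h5
  have hf := comm_formula h1 h2 h3 h4 t u
  have e : Elts.wordG hE6 (chevE6.commWord K r s t u) = (X k ((c : K) * t * u))⁻¹ := by
    unfold ChevalleyDatum.commWord
    rw [h6, List.map_cons, List.map_nil, Elts.wordG_cons, Elts.wordG_nil, mul_one, ← X_neg]
    simp only [pow_one]
    congr 1
    ring
  rw [e] at hf
  have hk := (commute_of_com h7 t ((c : K) * t * u)).eq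
  have h8 : X r t * X s u = X s u * X r t * X k ((c : K) * t * u) := by rw [hf]; group
  rw [h8, mul_assoc (X s u), hk]
  group

/-! ### Words -/

/-- the product of a word -/
noncomputable def W (w : List (ℕ × K)) : GL chevE6.Idx K := (w.map fun p => X p.1 p.2).prod

theorem W_nil : W ([] : List (ℕ × K)) = 1 := rfl

theorem W_cons (p : ℕ × K) (w : List (ℕ × K)) : W (p :: w) = X p.1 p.2 * W w := by simp [W]

theorem W_append (w w' : List (ℕ × K)) : W (w ++ w') = W w * W w' := by simp [W]

/-- lookup in a table of commutators -/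
def ft : List (ℕ × ℕ × ℤ) → ℕ → Option (ℕ × ℤ)
  | [], _ => none
  | p :: T, s => if p.1 = s then some p.2 else ft T s

/-- conjugation of a word by `x_r(u)`, `T` the table of commutators -/
def cw (T : List (ℕ × ℕ × ℤ)) (u : K) : List (ℕ × K) → List (ℕ × K)
  | [] => []
  | p :: w => match ft T p.1 with
    | none => p :: cw T u w
    | some kc => p :: (kc.1, (kc.2 : K) * u * p.2) :: cw T u w

theorem cw_none {T : List (ℕ × ℕ × ℤ)} {p : ℕ × K} (h : ft T p.1 = none) (u : K) (w : List (ℕ × K)) :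
    cw T u (p :: w) = p :: cw T u w := by simp [cw, h]

theorem cw_some {T : List (ℕ × ℕ × ℤ)} {p : ℕ × K} {kc : ℕ × ℤ} (h : ft T p.1 = some kc) (u : K)
    (w : List (ℕ × K)) : cw T u (p :: w) = p :: (kc.1, (kc.2 : K) * u * p.2) :: cw T u w := by simp [cw, h]

/-- the table `T` contains the commutators of `x_r` with the letters of `l`, and `l` is closed -/
def chk (r : ℕ) (T : List (ℕ × ℕ × ℤ)) (l : List ℕ) : Bool :=
  l.all fun s => okc r s && decide (cj r s = ft T s) &&
    (match ft T s with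
      | none => true
      | some kc => decide (kc.1 ∈ l))

/-- the word has letters in `l` -/
def In (l : List ℕ) (w : List (ℕ × K)) : Prop := ∀ p ∈ w, p.1 ∈ l

theorem chk_of {r : ℕ} {T : List (ℕ × ℕ × ℤ)} {l : List ℕ} (h : chk r T l = true) {s : ℕ} (hs : s ∈ l) :
    okc r s = true ∧ cj r s = ft T s ∧ ∀ kc, ft T s = some kc → kc.1 ∈ l := by
  have h1 := List.all_eq_true.1 h s hs
  rw [Bool.and_eq_true, Bool.and_eq_true, decide_eq_true_eq] at h1
  refine ⟨h1.1.1, h1.1.2, fun kc hkc => ?_⟩
  have h2 := h1.2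
  rw [hkc] at h2
  exact of_decide_eq_true h2

theorem In_cons {l : List ℕ} {p : ℕ × K} {w : List (ℕ × K)} : In l (p :: w) ↔ p.1 ∈ l ∧ In l w := by
  unfold In
  rw [List.forall_mem_cons]

theorem In_nil (l : List ℕ) : In l ([] : List (ℕ × K)) := by
  intro p hp
  simp at hp

theorem In_append {l : List ℕ} {w w' : List (ℕ × K)} (h : In l w) (h' : In l w') : In l (w ++ w') := by
  intro p hp
  rcases List.mem_append.1 hp with hp | hp
  · exact h p hp
  · exact h' p hp

theorem In_mono {l l' : List ℕ} (hl : ∀ r ∈ l, r ∈ l') {w : List (ℕ × K)} (h : In l w) : In l' w :=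
  fun p hp => hl _ (h p hp)

theorem conj_W {r : ℕ} {T : List (ℕ × ℕ × ℤ)} {l : List ℕ} (h : chk r T l = true) (u : K) :
    ∀ {w : List (ℕ × K)}, In l w → X r u * W w * (X r u)⁻¹ = W (cw T u w) ∧ In l (cw T u w) := by
  intro w
  induction w with
  | nil => intro _; rw [W_nil, cw, W_nil, mul_one, mul_inv_cancel]; exact ⟨rfl, In_nil l⟩
  | cons p w ih =>
    intro hw
    rw [In_cons] at hw
    obtain ⟨h1, h2, h3⟩ := chk_of h hw.1
    obtain ⟨h4, h5⟩ := ih hw.2
    have e : X r u * W (p :: w) * (X r u)⁻¹ = X r u * X p.1 p.2 * (X r u)⁻¹ * (X r u * W w * (X r u)⁻¹) := by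
      rw [W_cons]; group
    rw [e, h4]
    cases hf : ft T p.1 with
    | none =>
      rw [hf] at h2
      rw [cw_none hf, W_cons, conj_X_none h1 h2]
      exact ⟨rfl, In_cons.2 ⟨hw.1, h5⟩⟩
    | some kc =>
      rw [hf] at h2
      obtain ⟨k, c⟩ := kc
      rw [cw_some hf, W_cons, W_cons, conj_X_some h1 h2]
      exact ⟨mul_assoc _ _ _, In_cons.2 ⟨hw.1, In_cons.2 ⟨h3 _ hf, h5⟩⟩⟩

/-- conjugation by the product of two root elements -/
theorem conj2 {r₁ r₂ : ℕ} {T₁ T₂ : List (ℕ × ℕ × ℤ)} {l : List ℕ} (h₁ : chk r₁ T₁ l = true)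
    (h₂ : chk r₂ T₂ l = true) (u v : K) {w : List (ℕ × K)} (hw : In l w) :
    X r₁ u * X r₂ v * W w * (X r₁ u * X r₂ v)⁻¹ = W (cw T₁ u (cw T₂ v w)) ∧ In l (cw T₁ u (cw T₂ v w)) := by
  obtain ⟨a1, a2⟩ := conj_W h₂ v hw
  obtain ⟨b1, b2⟩ := conj_W h₁ u a2
  refine ⟨?_, b2⟩
  rw [← b1, ← a1]
  group

theorem conj2' {r₁ r₂ : ℕ} {T₁ T₂ : List (ℕ × ℕ × ℤ)} {l : List ℕ} (h₁ : chk r₁ T₁ l = true)
    (h₂ : chk r₂ T₂ l = true) (u v : K) {w : List (ℕ × K)} (hw : In l w) :
    (X r₁ u * X r₂ v)⁻¹ * W w * (X r₁ u * X r₂ v) = W (cw T₂ (-v) (cw T₁ (-u) w)) ∧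
      In l (cw T₂ (-v) (cw T₁ (-u) w)) := by
  obtain ⟨a1, a2⟩ := conj_W h₁ (-u) hw
  obtain ⟨b1, b2⟩ := conj_W h₂ (-v) a2
  refine ⟨?_, b2⟩
  rw [← b1, ← a1, X_neg, X_neg]
  group

theorem conj3 {r m : ℕ} {T T' : List (ℕ × ℕ × ℤ)} {l : List ℕ} (h : chk r T l = true)
    (h' : chk m T' l = true) (u v u' : K) {w : List (ℕ × K)} (hw : In l w) :
    X r u * (X m v * X r u') * W w * (X r u * (X m v * X r u'))⁻¹ = W (cw T u (cw T' v (cw T u' w))) ∧
      In l (cw T u (cw T' v (cw T u' w))) := by
  obtain ⟨a1, a2⟩ := conj_W h u' hw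
  obtain ⟨b1, b2⟩ := conj_W h' v a2
  obtain ⟨c1, c2⟩ := conj_W h u b2
  refine ⟨?_, c2⟩
  rw [← c1, ← b1, ← a1]
  group

/-- the coordinate of a word at the root `k` -/
def co (k : ℕ) : List (ℕ × K) → K
  | [] => 0
  | p :: w => if p.1 = k then p.2 + co k w else co k w

/-- the roots of the list have commuting root elements -/
def comL (l : List ℕ) : Bool := l.all fun r => l.all fun s => decide (s = r) || com r s

theorem commute_comL {l : List ℕ} (h : comL l = true) {r s : ℕ} (hr : r ∈ l) (hs : s ∈ l) (t u : K) :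
    Commute (X r t) (X s u) := by
  have h1 := List.all_eq_true.1 (List.all_eq_true.1 h r hr) s hs
  rw [Bool.or_eq_true, decide_eq_true_eq] at h1
  rcases h1 with rfl | h1
  · rw [commute_iff_eq, ← X_add, ← X_add, add_comm]
  · exact commute_of_com h1 t u

theorem X_mul_lprod {r : ℕ} (t : K) (g : ℕ → K) : ∀ {l : List ℕ}, (∀ s ∈ l, ∀ t u : K, Commute (X r t) (X s u)) →
    l.Nodup → r ∈ l → X r t * lprod (X (K := K)) l g = lprod X l fun k => if r = k then t + g k else g k := by
  intro l
  induction l with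
  | nil => intro _ _ hr; simp at hr
  | cons s l ih =>
    intro hc hn hr
    rw [lprod_cons, lprod_cons]
    rw [List.nodup_cons] at hn
    by_cases hrs : r = s
    · subst hrs
      rw [if_pos rfl, ← mul_assoc, ← X_add]
      congr 1
      refine lprod_congr _ fun k hk => ?_
      rw [if_neg]
      rintro rfl
      exact hn.1 hk
    · rw [if_neg hrs]
      have hr' : r ∈ l := by
        rcases List.mem_cons.1 hr with h | h
        · exact absurd h hrs
        · exact h
      rw [← ih (fun s hs => hc s (List.mem_cons_of_mem _ hs)) hn.2 hr', ← mul_assoc, ← mul_assoc,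
        (hc s List.mem_cons_self t (g s)).eq]

theorem lprod_zero (l : List ℕ) : lprod (X (K := K)) l (fun _ => 0) = 1 := by
  induction l with
  | nil => rfl
  | cons r l ih => rw [lprod_cons, ih, X_zero, mul_one]

theorem W_eq_lprod {l : List ℕ} (hc : comL l = true) (hn : l.Nodup) : ∀ {w : List (ℕ × K)}, In l w →
    W w = lprod X l fun k => co k w := by
  intro w
  induction w with
  | nil => intro _; exact (lprod_zero l).symm
  | cons p w ih =>
    intro hw
    have hp := hw p List.mem_cons_self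
    rw [W_cons, ih fun p' hp' => hw p' (List.mem_cons_of_mem _ hp'),
      X_mul_lprod p.2 _ (fun s hs t u => commute_comL hc hp hs t u) hn hp]
    rfl

theorem W_eq {l : List ℕ} (hc : comL l = true) (hn : l.Nodup) {w w' : List (ℕ × K)} (hw : In l w)
    (hw' : In l w') (h : ∀ k ∈ l, co k w = co k w') : W w = W w' := by
  rw [W_eq_lprod hc hn hw, W_eq_lprod hc hn hw']
  exact lprod_congr _ h

theorem W_comm {l : List ℕ} (hc : comL l = true) {w w' : List (ℕ × K)} (hw : In l w) (hw' : In l w') :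
    W w * W w' = W w' * W w := by
  induction w with
  | nil => rw [W_nil, one_mul, mul_one]
  | cons p w ih =>
    rw [In_cons] at hw
    have h1 : Commute (X p.1 p.2) (W w') := by
      clear ih
      induction w' with
      | nil => rw [W_nil]; exact Commute.one_right _
      | cons p' w' ih' =>
        rw [In_cons] at hw'
        rw [W_cons]
        exact (commute_comL hc hw.1 hw'.1 _ _).mul_right (ih' hw'.2)
    rw [W_cons, mul_assoc, ih hw.2, ← mul_assoc, h1.eq, mul_assoc]

theorem lprod_mul {l : List ℕ} (hc : comL l = true) (hn : l.Nodup) (f g : ℕ → K) :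
    lprod (X (K := K)) l f * lprod X l g = lprod X l fun k => f k + g k := by
  suffices H : ∀ l', (∀ r ∈ l', r ∈ l) → l'.Nodup → lprod (X (K := K)) l' f * lprod X l g =
      lprod X l fun k => (if k ∈ l' then f k else 0) + g k by
    rw [H l (fun _ h => h) hn]
    refine lprod_congr _ fun k hk => ?_
    rw [if_pos hk]
  intro l'
  induction l' with
  | nil =>
    intro _ _
    rw [lprod_nil, one_mul]
    refine lprod_congr _ fun k _ => ?_
    rw [if_neg (by simp), zero_add]
  | cons r l' ih =>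
    intro hl hn'
    rw [List.nodup_cons] at hn'
    have hr := hl r List.mem_cons_self
    rw [lprod_cons, mul_assoc, ih (fun s hs => hl s (List.mem_cons_of_mem _ hs)) hn'.2,
      X_mul_lprod _ _ (fun s hs t u => commute_comL hc hr hs t u) hn hr]
    refine lprod_congr _ fun k _ => ?_
    by_cases hk : r = k
    · subst hk
      rw [if_pos rfl, if_neg hn'.1, if_pos List.mem_cons_self, zero_add]
    · rw [if_neg hk]
      congr 1
      by_cases hk' : k ∈ l'
      · rw [if_pos hk', if_pos (List.mem_cons_of_mem _ hk')]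
      · rw [if_neg hk', if_neg]
        intro h
        rcases List.mem_cons.1 h with h | h
        · exact hk h.symm
        · exact hk' h

/-! ### Coordinates of the elements fixed by `σ` -/

section Coords

variable [Fintype K] (φ : K →+* K)

theorem coords {l : List ℕ} (hc : comL l = true) (hn : l.Nodup) (hL : ∀ r ∈ l, r ∈ L.flatten)
    (hfil : (L.flatten.filter fun r => decide (r ∈ l)) = l) (hρ : ∀ r ∈ l, rho r ∈ l) {g : GL chevE6.Idx K}
    (hg : g ∈ rspan (X (K := K)) {k | k ∈ l}) (hσ : sig symmE6 φ g = g) :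
    ∃ t : ℕ → K, (∀ r ∈ l, t (rho r) = ((eps r : ℤ) : K) * φ (t r)) ∧ g = lprod X l t := by
  have hcom : l.Pairwise fun r s => ∀ t u : K, Commute (X r t) (X s u) := by
    rw [List.pairwise_iff_forall_sublist]
    intro a b hab t u
    have ha := hab.subset List.mem_cons_self
    have hb := hab.subset (List.mem_cons_of_mem _ List.mem_cons_self)
    exact commute_comL hc ha hb t u
  obtain ⟨t, rfl⟩ := exists_lprod X_add hn (TwistedFixOrbit.good_of_commute hcom) hg
  refine ⟨t, ?_, rfl⟩
  have h1 : lprod X l t ∈ rspan (X (K := K)) {k | k ∈ L.flatten} ⊓ fixS (sig symmE6 φ) :=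
    ⟨rspan_mono _ (fun r hr => hL r hr) hg, hσ⟩
  obtain ⟨t', h2, h3⟩ := (setup φ).mem_fix_iff.1 h1
  have h4 : lprod X l t = lprod X L.flatten fun r => if r ∈ l then t r else 0 := by
    rw [TwistedFixOrbit.lprod_filter X_add (fun r => r ∈ l) L.flatten t, hfil]
  rw [h4] at h3
  have h5 := lprod_inj _ _ h3
  intro r hr
  have h6 := h5 r (hL r hr)
  have h7 := h5 (rho r) (hL _ (hρ r hr))
  rw [if_pos hr] at h6
  rw [if_pos (hρ r hr)] at h7
  rw [h7, h6, h2 r (hL r hr)]

theorem lprod_inj' {l : List ℕ} (hL : ∀ r ∈ l, r ∈ L.flatten)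
    (hfil : (L.flatten.filter fun r => decide (r ∈ l)) = l) {t t' : ℕ → K}
    (h : lprod (X (K := K)) l t = lprod X l t') : ∀ r ∈ l, t r = t' r := by
  have h4 : ∀ t : ℕ → K, lprod X l t = lprod X L.flatten fun r => if r ∈ l then t r else 0 := by
    intro t
    rw [TwistedFixOrbit.lprod_filter X_add (fun r => r ∈ l) L.flatten t, hfil]
  rw [h4, h4] at h
  intro r hr
  have := lprod_inj _ _ h r (hL r hr)
  rwa [if_pos hr, if_pos hr] at this

end Coords

end Cfsg.Agent.H121.E6Eng
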