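import Cfsg.Agent.H121.HexBase

/-!
# Restriction of representations to invariant subspaces; Heisenberg type arguments
-/

set_option autoImplicit false
set_option linter.unusedSectionVars false

namespace Cfsg.Agent.H121.Sub

open Module Cfsg.Agent.H121.Wt Cfsg.Agent.H121.Chr

variable {G : Type*} [Group G] {V : Type*} [AddCommGroup V] [Module ℂ V] (ρ : Representation ℂ G V)

/-- the stabilizer of a subspace -/
def stab (W : Submodule ℂ V) : Subgroup G where
  carrier := {g | ∀ v ∈ W, ρ g v ∈ W ∧ ρ g⁻¹ v ∈ W}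
  mul_mem' := by
    intro a b ha hb v hv
    refine ⟨?_, ?_⟩
    · rw [map_mul, Module.End.mul_apply]
      exact (ha _ (hb v hv).1).1
    · rw [mul_inv_rev, map_mul, Module.End.mul_apply]
      exact (hb _ (ha v hv).2).2
  one_mem' := by
    intro v hv
    rw [inv_one, map_one, Module.End.one_apply]
    exact ⟨hv, hv⟩
  inv_mem' := by
    intro a ha v hv
    rw [inv_inv]
    exact (ha v hv).symm

/-- the restriction -/
def sub (W : Submodule ℂ V) : Representation ℂ (stab ρ W) W where
  toFun g := (ρ (g : G)).restrict fun v hv => (g.2 v hv).1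
  map_one' := by
    ext v
    simp
  map_mul' a b := by
    ext v
    simp

@[simp] theorem coe_sub (W : Submodule ℂ V) (g : stab ρ W) (v : W) : ((sub ρ W g v : W) : V) = ρ (g : G) v := rfl

section Wt

variable {A : Type*} [AddCommGroup A]

/-- normalising a parametrised family -/
def Nor (x : A → G) (g : G) : Prop := ∃ f : A → A, Function.Bijective f ∧ ∀ a, g * x a = x (f a) * g

theorem mem_stab_wt {x : A → G} {g : G} {f : A → A} (hg : ∀ a, g * x a = x (f a) * g)
    (hf : Function.Bijective f) {χ : AddChar A ℂ} (hχ : ∀ a, χ (f a) = χ a) :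
    g ∈ stab ρ (wt (fun a => ρ (x a)) χ) := by
  intro v hv
  refine ⟨map_wt ρ hg hf.2 hχ hv, ?_⟩
  obtain ⟨f', hl, hr⟩ := Function.bijective_iff_has_inverse.mp hf
  refine map_wt ρ (g := g⁻¹) (f := f') ?_ hl.surjective ?_ hv
  · intro a
    have h1 := hg (f' a)
    rw [hr a] at h1
    rw [inv_mul_eq_iff_eq_mul, ← mul_assoc, h1, mul_assoc, mul_inv_cancel, mul_one]
  · intro a
    rw [← hχ, hr a]

theorem mem_stab_one {x : A → G} {g : G} (hg : Nor x g) : g ∈ stab ρ (wt (fun a => ρ (x a)) 1) := by
  obtain ⟨f, hf, h⟩ := hg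
  exact mem_stab_wt ρ h hf fun a => by rw [AddChar.one_apply, AddChar.one_apply]

end Wt

section Heis

variable {A : Type*} [AddCommGroup A] [Fintype A] {W : Type*} [AddCommGroup W] [Module ℂ W] [FiniteDimensional ℂ W]

/-- if all characters are conjugate then they have the same multiplicity -/
theorem heis {R : A → Module.End ℂ W} (h : IsAct R)
    (hS : ∀ χ : AddChar A ℂ, ∃ S S' : Module.End ℂ W, S' * S = 1 ∧ ∀ a, S * R a = χ a • (R a * S)) :
    finrank ℂ W = Fintype.card A * finrank ℂ (wt R 1) := by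
  have key : ∀ β χ : AddChar A ℂ, finrank ℂ (wt R β) ≤ finrank ℂ (wt R (β * χ⁻¹)) := by
    intro β χ
    obtain ⟨S, S', h1, h2⟩ := hS χ
    refine finrank_wt_le h1 fun v hv a => ?_
    have h3 : S (R a v) = χ a • R a (S v) := by
      have := congrArg (fun T : Module.End ℂ W => T v) (h2 a)
      exact this
    rw [hv a, map_smul] at h3
    have h4 : χ a ≠ 0 := ne_zero' χ a
    rw [AddChar.mul_apply, AddChar.inv_apply', mul_comm, mul_smul, h3, smul_smul, inv_mul_cancel₀ h4, one_smul]
  have hall : ∀ β : AddChar A ℂ, finrank ℂ (wt R β) = finrank ℂ (wt R 1) := by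
    intro β
    apply le_antisymm
    · have := key β β
      rwa [mul_inv_cancel] at this
    · have := key 1 β⁻¹
      rwa [one_mul, inv_inv] at this
  rw [← sum_finrank h, Finset.sum_congr rfl fun β _ => hall β, Finset.sum_const, Finset.card_univ, card_addChar,
    smul_eq_mul]

theorem pr_mul_act {R : A → Module.End ℂ W} (h : IsAct R) (χ : AddChar A ℂ) (a : A) :
    pr R χ * R a = χ a • pr R χ := by
  classical
  rw [act_eq_sum h, Finset.mul_sum, Finset.sum_eq_single χ]
  · rw [mul_smul_comm, pr_mul_self h]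
  · intro χ' _ hne
    rw [mul_smul_comm, pr_mul_ne h hne.symm, smul_zero]
  · intro hn
    exact absurd (Finset.mem_univ _) hn

/-- a vector fixed by `R a` has no component at `χ` with `χ a ≠ 1` -/
theorem pr_eq_zero_of {R : A → Module.End ℂ W} (h : IsAct R) {χ : AddChar A ℂ} {a : A} {w : W} (hw : R a w = w)
    (hχ : χ a ≠ 1) : pr R χ w = 0 := by
  have h1 : (pr R χ * R a) w = χ a • pr R χ w := by rw [pr_mul_act h]; rfl
  rw [Module.End.mul_apply, hw] at h1
  have h2 : (1 - χ a) • pr R χ w = 0 := by rw [sub_smul, one_smul, ← h1, sub_self]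
  exact (smul_eq_zero.1 h2).resolve_left (sub_ne_zero.2 (Ne.symm hχ))

/-- a vector without components at the non-trivial characters is fixed -/
theorem mem_wt_one {R : A → Module.End ℂ W} (h : IsAct R) {w : W} (hw : ∀ χ : AddChar A ℂ, χ ≠ 1 → pr R χ w = 0) :
    w ∈ wt R 1 := by
  classical
  have h1 : w = ∑ χ : AddChar A ℂ, pr R χ w := by
    have := congrArg (fun T : Module.End ℂ W => T w) (sum_pr h)
    simp only [LinearMap.sum_apply, Module.End.one_apply] at this
    exact this.symm
  rw [Finset.sum_eq_single 1 (fun χ _ hχ => hw χ hχ) (fun hn => absurd (Finset.mem_univ _) hn)] at h1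
  rw [h1]
  exact pr_mem h 1 w

end Heis

/-- commutators fix common eigenvectors -/
theorem comm_fix {g g' : G} {c c' : ℂ} {v : V} (h : ρ g v = c • v) (h' : ρ g' v = c' • v) :
    ρ (g * g' * g⁻¹ * g'⁻¹) v = v := by
  by_cases hv : v = 0
  · rw [hv, map_zero]
  have hc : c ≠ 0 := by
    rintro rfl
    rw [zero_smul] at h
    apply hv
    have : ρ g⁻¹ (ρ g v) = v := by rw [← Module.End.mul_apply, ← map_mul, inv_mul_cancel, map_one, Module.End.one_apply]
    rw [← this, h, map_zero]
  have hc' : c' ≠ 0 := by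
    rintro rfl
    rw [zero_smul] at h'
    apply hv
    have : ρ g'⁻¹ (ρ g' v) = v := by
      rw [← Module.End.mul_apply, ← map_mul, inv_mul_cancel, map_one, Module.End.one_apply]
    rw [← this, h', map_zero]
  have i1 : ρ g⁻¹ v = c⁻¹ • v := by
    have : ρ g⁻¹ (ρ g v) = v := by rw [← Module.End.mul_apply, ← map_mul, inv_mul_cancel, map_one, Module.End.one_apply]
    rw [h, map_smul] at this
    rw [← this, smul_smul, inv_mul_cancel₀ hc, one_smul, this]
  have i2 : ρ g'⁻¹ v = c'⁻¹ • v := by
    have : ρ g'⁻¹ (ρ g' v) = v := by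
      rw [← Module.End.mul_apply, ← map_mul, inv_mul_cancel, map_one, Module.End.one_apply]
    rw [h', map_smul] at this
    rw [← this, smul_smul, inv_mul_cancel₀ hc', one_smul, this]
  rw [map_mul, map_mul, map_mul, Module.End.mul_apply, Module.End.mul_apply, Module.End.mul_apply, i2]
  simp only [map_smul, i1, h', h, smul_smul]
  have : c'⁻¹ * c⁻¹ * c' * c = 1 := by field_simp
  rw [this, one_smul]

end Cfsg.Agent.H121.Sub
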