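import Cfsg.Agent.H121.OrthMod
import Cfsg.Agent.H121.Sub

/-!
# Lower bounds for the degrees of complex representations of `²E₆(q)`: the abstract situation

`F4Aux`: three abelian groups `xA`, `xB`, `xC` which are orthogonal modules of minus type of dimensions 8, 6, 4, and
some more root elements.
-/

set_option autoImplicit false
set_option linter.unusedSectionVars false

namespace Cfsg.Agent.H121.F4

open Module
open Cfsg.Agent.H121.HexMin (fx mem_fx coe_fx)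
open Cfsg.Agent.H121.Quad Cfsg.Agent.H121.Wt Cfsg.Agent.H121.Chr Cfsg.Agent.H121.Orth Cfsg.Agent.H121.Sub

variable {K : Type*} [Field K] {σ : K ≃+* K} [Quad.Inv σ] {G : Type*} [Group G]

/-- the vector with `x i = t` -/
def vx {m : ℕ} (i : Fin m) (t : fx σ) : VV (Fin m) σ := (Pi.single i (t, 0), 0)

/-- the vector with `y i = t` -/
def vy {m : ℕ} (i : Fin m) (t : fx σ) : VV (Fin m) σ := (Pi.single i (0, t), 0)

/-- the relations -/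
structure F4Aux (xA : VV (Fin 3) σ → G) (xB : VV (Fin 2) σ → G) (xC : VV (Fin 1) σ → G)
    (e1 e2 h1 h2 h3 h4 s2 s3 s4 : K → G) (w : G) : Prop where
  addA : ∀ a b, xA (a + b) = xA a * xA b
  addB : ∀ a b, xB (a + b) = xB a * xB b
  addC : ∀ a b, xC (a + b) = xC a * xC b
  addE1 : ∀ a b, e1 (a + b) = e1 a * e1 b
  addE2 : ∀ a b, e2 (a + b) = e2 a * e2 b
  -- level A
  pA : ∀ i u, ∃ g, ∀ a, g * xA a = xA (rp i u a) * g
  mA : ∀ i u, ∃ g, ∀ a, g * xA a = xA (rm i u a) * g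
  -- level B
  nB : ∀ b, Nor xA (xB b)
  pB : ∀ i u, ∃ g, Nor xA g ∧ ∀ b, g * xB b = xB (rp i u b) * g
  mB : ∀ i u, ∃ g, Nor xA g ∧ ∀ b, g * xB b = xB (rm i u b) * g
  -- level C
  nC : ∀ c, Nor xA (xC c) ∧ Nor xB (xC c)
  pC : ∀ i u, ∃ g, Nor xA g ∧ Nor xB g ∧ ∀ c, g * xC c = xC (rp i u c) * g
  mC : ∀ i u, ∃ g, Nor xA g ∧ Nor xB g ∧ ∀ c, g * xC c = xC (rm i u c) * g
  -- the Heisenberg pairs
  eA1 : ∀ s a, e1 s * xA a = xA a * e1 s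
  eA2 : ∀ s a, e2 s * xA a = xA a * e2 s
  e12 : ∀ s t, e1 s * e2 t = e2 t * e1 s
  f1 : ∀ z, ∃ g, (∀ a, g * xA a = xA a * g) ∧ (∀ s, g * e1 s = e1 s * xA (vy 0 (T σ (z * σ s))) * g) ∧
    ∀ s, g * e2 s = e2 s * g
  f2 : ∀ z, ∃ g, (∀ a, g * xA a = xA a * g) ∧ (∀ s, g * e2 s = e2 s * xA (vy 0 (T σ (z * σ s))) * g) ∧
    ∀ s, g * e1 s = e1 s * g
  -- the short root elements `2, 3, 4`
  s2A : ∀ u, ∃ u', ∀ a, s2 u * xA a = xA (rp 0 u' a) * s2 u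
  s3A : ∀ u, ∃ u', ∀ a, s3 u * xA a = xA (rp 1 u' a) * s3 u
  s4A : ∀ u, ∃ u', ∀ a, s4 u * xA a = xA (rp 2 u' a) * s4 u
  s3B : ∀ u, ∃ u', ∀ b, s3 u * xB b = xB (rp 0 u' b) * s3 u
  s4B : ∀ u, ∃ u', ∀ b, s4 u * xB b = xB (rp 1 u' b) * s4 u
  s2e1 : ∀ u s, ∃ z, (s2 u)⁻¹ * e1 s * s2 u = e1 s * h1 z
  s2e2 : ∀ u s, ∃ z, (s2 u)⁻¹ * e2 s * s2 u = e2 s * h2 z
  s3e1 : ∀ u s, (s3 u)⁻¹ * e1 s * s3 u = e1 s
  s3e2 : ∀ u s, (s3 u)⁻¹ * e2 s * s3 u = e2 s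
  s4e1 : ∀ u s, (s4 u)⁻¹ * e1 s * s4 u = e1 s
  s4e2 : ∀ u s, ∃ z, (s4 u)⁻¹ * e2 s * s4 u = e2 s * e1 z
  h3A : ∀ z a, h3 z * xA a = xA a * h3 z
  h4A : ∀ z a, h4 z * xA a = xA a * h4 z
  h3e1 : ∀ z s, ∃ a : VV (Fin 3) σ, (a.1 0).2 = 0 ∧ (h3 z)⁻¹ * e1 s * h3 z = e1 s * xA a
  h3e2 : ∀ z s, ∃ a : VV (Fin 3) σ, (a.1 0).2 = 0 ∧ (h3 z)⁻¹ * e2 s * h3 z = e2 s * xA a
  h4e1 : ∀ z s, ∃ a : VV (Fin 3) σ, (a.1 0).2 = 0 ∧ (h4 z)⁻¹ * e1 s * h4 z = e1 s * xA a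
  h4e2 : ∀ z s, ∃ a : VV (Fin 3) σ, (a.1 0).2 = 0 ∧ (h4 z)⁻¹ * e2 s * h4 z = e2 s * xA a
  s3h4 : ∀ z, ∃ u v, s3 u * h4 v * (s3 u)⁻¹ * (h4 v)⁻¹ = h1 z
  s3h3 : ∀ z, ∃ u v, s3 u * h3 v * (s3 u)⁻¹ * (h3 v)⁻¹ = h2 z
  c23 : ∀ t, ∃ u v, s2 u * s3 v * (s2 u)⁻¹ * (s3 v)⁻¹ = xB (vx 0 t)
  c24 : ∀ t, ∃ u v, s2 u * s4 v * (s2 u)⁻¹ * (s4 v)⁻¹ = xB (vx 1 t)
  c34 : ∀ t, ∃ u v, s3 u * s4 v * (s3 u)⁻¹ * (s4 v)⁻¹ = xC (vx 0 t)
  d34 : ∀ t, ∃ g b, Nor xA g ∧ xC (vx 0 t) = g * xB b * g⁻¹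
  -- the Weyl element
  wx : ∀ (j : Fin 3) t, ∃ t', w⁻¹ * xA (vx j t) * w = xA (vx j t')
  wy0 : ∀ t, ∃ t', w⁻¹ * xA (vy 0 t) * w = xC (vx 0 t')
  wy1 : ∀ t, ∃ t', w⁻¹ * xA (vy 1 t) * w = xB (vx 1 t')
  wy2 : ∀ t, ∃ t', w⁻¹ * xA (vy 2 t) * w = xB (vx 0 t')
  w23 : ∀ t, ∃ t', w⁻¹ * xB (vx 0 t) * w = xA (vy 2 t')
  w24 : ∀ t, ∃ t', w⁻¹ * xB (vx 1 t) * w = xA (vy 1 t')
  w34 : ∃ c : fx σ, c ≠ 0 ∧ ∀ t, w⁻¹ * xC (vx 0 t) * w = xA (vy 0 (c * t))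

variable {xA : VV (Fin 3) σ → G} {xB : VV (Fin 2) σ → G} {xC : VV (Fin 1) σ → G}
  {e1 e2 h1 h2 h3 h4 s2 s3 s4 : K → G} {w : G}

theorem chr_vy {m : ℕ} (l : AddChar (fx σ) ℂ) (i : Fin m) (v : VV (Fin m) σ) (t : fx σ) :
    chr l v (vy i t) = l ((v.1 i).1 * t) := by rw [chr_apply, vy, B_x]

theorem chr_vx {m : ℕ} (l : AddChar (fx σ) ℂ) (i : Fin m) (v : VV (Fin m) σ) (t : fx σ) :
    chr l v (vx i t) = l ((v.1 i).2 * t) := by rw [chr_apply, vx, B_y]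

theorem rp_y0 (i : Fin 3) (u : K) (a : VV (Fin 3) σ) (j : Fin 3) : ((rp i u a).1 j).2 = (a.1 j).2 := by
  by_cases h : j = i
  · subst h; simp [rp]
  · simp [rp, Function.update_of_ne h]

/-- `chr l (cc 0 0) a` depends on `y 0` only -/
theorem chr_cc (l : AddChar (fx σ) ℂ) (a : VV (Fin 3) σ) : chr l (cc 0 0) a = l (a.1 0).2 := by
  have h : B a (cc 0 0) = (a.1 0).2 * 1 := B_y 0 a 1
  rw [chr_apply, B_comm, h, mul_one]

theorem chr_cc_vy (l : AddChar (fx σ) ℂ) (c t : fx σ) : chr l (cc (0 : Fin 3) c) (vy 0 t) = l t := by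
  rw [chr_vy, cc]
  simp

/-! ### Characters of `K` -/

/-- the character `s ↦ l (T (z s))` -/
def kchr (l : AddChar (fx σ) ℂ) (z : K) : AddChar K ℂ where
  toFun s := l (T σ (z * σ s))
  map_zero_eq_one' := by rw [map_zero, mul_zero, T_zero, AddChar.map_zero_eq_one]
  map_add_eq_mul' a b := by rw [map_add, mul_add, T_add, AddChar.map_add_eq_mul]

theorem kchr_apply (l : AddChar (fx σ) ℂ) (z s : K) : kchr l z s = l (T σ (z * σ s)) := rfl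

theorem kchr_bijective [Fintype K] (hne : ∃ a : K, σ a ≠ a) {l : AddChar (fx σ) ℂ} (hl : l ≠ 1) :
    Function.Bijective (kchr l : K → AddChar K ℂ) := by
  refine (Fintype.bijective_iff_injective_and_card _).2 ⟨?_, (card_addChar _).symm⟩
  intro z z' h
  by_contra hzz
  apply hl
  apply DFunLike.ext
  intro t
  obtain ⟨u, hu⟩ := exists_T_mul_eq hne (sub_ne_zero.2 hzz) t
  have h1 : kchr l z u = kchr l z' u := by rw [h]
  rw [kchr_apply, kchr_apply] at h1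
  rw [← hu, sub_mul, T_sub, sub_eq_add_neg, AddChar.map_add_eq_mul, AddChar.map_neg_eq_inv, h1, AddChar.one_apply]
  exact mul_inv_cancel₀ (ne_zero' _ _)

/-! ### Level A -/

section LevelA

variable [Fintype K] {V : Type*} [AddCommGroup V] [Module ℂ V] [FiniteDimensional ℂ V] (ρ : Representation ℂ G V)
  (D : F4Aux xA xB xC e1 e2 h1 h2 h3 h4 s2 s3 s4 w)

include D

theorem invA : Inva fun a => ρ (xA a) where
  act := isAct_of ρ D.addA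
  p i u := by
    obtain ⟨g, hg⟩ := D.pA i u
    exact ⟨ρ g, ρ g⁻¹, by rw [← map_mul, inv_mul_cancel, map_one], fun a => by rw [← map_mul, hg, map_mul]⟩
  m i u := by
    obtain ⟨g, hg⟩ := D.mA i u
    exact ⟨ρ g, ρ g⁻¹, by rw [← map_mul, inv_mul_cancel, map_one], fun a => by rw [← map_mul, hg, map_mul]⟩

/-- elements commuting with `xA` stabilise the weight spaces -/
theorem mem_stab_of_comm {g : G} (hg : ∀ a, g * xA a = xA a * g) (χ : AddChar (VV (Fin 3) σ) ℂ) :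
    g ∈ stab ρ (wt (fun a => ρ (xA a)) χ) :=
  mem_stab_wt ρ (f := id) hg Function.bijective_id fun _ => rfl

variable (hne : ∃ a : K, σ a ≠ a) {l : AddChar (fx σ) ℂ} (hl : l ≠ 1)

include hne hl

/-- **The multiplicities are divisible by `|K|²`.** -/
theorem heisA (c : fx σ) : ∃ f : ℕ, mu (fun a => ρ (xA a)) l (cc 0 c) = Fintype.card K ^ 2 * f ∧
    (f = 1 → ∃ m0 : V, m0 ≠ 0 ∧ (∀ a, ρ (xA a) m0 = chr l (cc 0 c) a • m0) ∧ (∀ s, ρ (e1 s) m0 = m0) ∧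
      (∀ s, ρ (e2 s) m0 = m0) ∧ ∀ m : V, (∀ a, ρ (xA a) m = chr l (cc 0 c) a • m) → (∀ s, ρ (e1 s) m = m) →
        (∀ s, ρ (e2 s) m = m) → ∃ d : ℂ, m = d • m0) := by
  set χ : AddChar (VV (Fin 3) σ) ℂ := chr l (cc 0 c) with hχ
  set W := wt (fun a => ρ (xA a)) χ with hW
  have hm : ∀ p : K × K, e1 p.1 * e2 p.2 ∈ stab ρ W := fun p =>
    mul_mem (mem_stab_of_comm ρ D (D.eA1 p.1) χ) (mem_stab_of_comm ρ D (D.eA2 p.2) χ)
  let x : K × K → stab ρ W := fun p => ⟨e1 p.1 * e2 p.2, hm p⟩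
  have hx : ∀ a b, x (a + b) = x a * x b := by
    intro a b
    apply Subtype.ext
    show e1 (a.1 + b.1) * e2 (a.2 + b.2) = e1 a.1 * e2 a.2 * (e1 b.1 * e2 b.2)
    rw [D.addE1, D.addE2]
    calc e1 a.1 * e1 b.1 * (e2 a.2 * e2 b.2) = e1 a.1 * (e1 b.1 * e2 a.2) * e2 b.2 := by group
      _ = e1 a.1 * (e2 a.2 * e1 b.1) * e2 b.2 := by rw [D.e12]
      _ = _ := by group
  have hact : IsAct fun p => sub ρ W (x p) := isAct_of (sub ρ W) hx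
  have hyA : ∀ (t : fx σ) (v : V), v ∈ W → ρ (xA (vy 0 t)) v = l t • v := by
    intro t v hv
    rw [hv (vy 0 t), hχ, chr_cc_vy]
  -- the conjugating elements
  have key1 : ∀ z : K, ∃ S S' : End ℂ W, S' * S = 1 ∧
      ∀ p : K × K, S * sub ρ W (x p) = kchr l z p.1 • (sub ρ W (x p) * S) := by
    intro z
    obtain ⟨g, g1, g2, g3⟩ := D.f1 z
    have hg := mem_stab_of_comm ρ D g1 χ
    refine ⟨sub ρ W ⟨g, hg⟩, sub ρ W ⟨g, hg⟩⁻¹, by rw [← map_mul, inv_mul_cancel, map_one], fun p => ?_⟩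
    ext v
    have hv1 : ρ g v ∈ W := (hg v v.2).1
    show ρ g (ρ (e1 p.1 * e2 p.2) v) = kchr l z p.1 • (ρ (e1 p.1 * e2 p.2) (ρ g v))
    have e : g * (e1 p.1 * e2 p.2) = e1 p.1 * e2 p.2 * xA (vy 0 (T σ (z * σ p.1))) * g := by
      calc g * (e1 p.1 * e2 p.2) = g * e1 p.1 * e2 p.2 := by group
        _ = e1 p.1 * xA (vy 0 (T σ (z * σ p.1))) * (g * e2 p.2) := by rw [g2]; group
        _ = e1 p.1 * (xA (vy 0 (T σ (z * σ p.1))) * e2 p.2) * g := by rw [g3]; group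
        _ = e1 p.1 * (e2 p.2 * xA (vy 0 (T σ (z * σ p.1)))) * g := by rw [← D.eA2]
        _ = _ := by group
    rw [← Module.End.mul_apply, ← map_mul, e, map_mul, map_mul, Module.End.mul_apply, Module.End.mul_apply,
      hyA _ _ hv1, map_smul, kchr_apply]
  have key2 : ∀ z : K, ∃ S S' : End ℂ W, S' * S = 1 ∧
      ∀ p : K × K, S * sub ρ W (x p) = kchr l z p.2 • (sub ρ W (x p) * S) := by
    intro z
    obtain ⟨g, g1, g2, g3⟩ := D.f2 z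
    have hg := mem_stab_of_comm ρ D g1 χ
    refine ⟨sub ρ W ⟨g, hg⟩, sub ρ W ⟨g, hg⟩⁻¹, by rw [← map_mul, inv_mul_cancel, map_one], fun p => ?_⟩
    ext v
    have hv1 : ρ g v ∈ W := (hg v v.2).1
    show ρ g (ρ (e1 p.1 * e2 p.2) v) = kchr l z p.2 • (ρ (e1 p.1 * e2 p.2) (ρ g v))
    have e : g * (e1 p.1 * e2 p.2) = e1 p.1 * e2 p.2 * xA (vy 0 (T σ (z * σ p.2))) * g := by
      calc g * (e1 p.1 * e2 p.2) = g * e1 p.1 * e2 p.2 := by group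
        _ = e1 p.1 * (g * e2 p.2) := by rw [g3]; group
        _ = _ := by rw [g2]; group
    rw [← Module.End.mul_apply, ← map_mul, e, map_mul, map_mul, Module.End.mul_apply, Module.End.mul_apply,
      hyA _ _ hv1, map_smul, kchr_apply]
  have hall := heis hact (by
    intro ψ
    obtain ⟨z, hz⟩ := (kchr_bijective hne hl).2 (fc ψ)
    obtain ⟨z', hz'⟩ := (kchr_bijective hne hl).2 (sc ψ)
    obtain ⟨S, S', a1, a2⟩ := key1 z
    obtain ⟨R, R', b1, b2⟩ := key2 z'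
    refine ⟨S * R, R' * S', ?_, fun p => ?_⟩
    · calc R' * S' * (S * R) = R' * (S' * S) * R := by simp only [mul_assoc]
        _ = 1 := by rw [a1, mul_one, b1]
    · have hψ : ψ p = kchr l z p.1 * kchr l z' p.2 := by
        rw [hz, hz', ← pc_apply, pc_fc_sc]
      calc S * R * sub ρ W (x p) = S * (R * sub ρ W (x p)) := mul_assoc _ _ _
        _ = kchr l z' p.2 • (S * sub ρ W (x p) * R) := by rw [b2, mul_smul_comm, mul_assoc]
        _ = kchr l z' p.2 • (kchr l z p.1 • (sub ρ W (x p) * S * R)) := by rw [a2, smul_mul_assoc]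
        _ = ψ p • (sub ρ W (x p) * (S * R)) := by rw [smul_smul, hψ, mul_comm, mul_assoc])
  refine ⟨finrank ℂ (wt (fun p => sub ρ W (x p)) 1), ?_, ?_⟩
  · rw [mu, hall, Fintype.card_prod]; ring
  · intro h1
    obtain ⟨v, hv0, hv⟩ := finrank_eq_one_iff'.1 h1
    have hfix : ∀ p : K × K, ρ (e1 p.1 * e2 p.2) (v : W) = (v : W) := by
      intro p
      have := v.2 p
      rw [AddChar.one_apply, one_smul] at this
      exact congrArg Subtype.val this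
    have he10 : e1 0 = 1 := by
      have := D.addE1 0 0
      rw [add_zero] at this
      exact (mul_eq_left.1 this.symm)
    have he20 : e2 0 = 1 := by
      have := D.addE2 0 0
      rw [add_zero] at this
      exact (mul_eq_left.1 this.symm)
    refine ⟨((v : W) : V), ?_, v.1.2, ?_, ?_, ?_⟩
    · intro h
      exact hv0 (Subtype.ext (Subtype.ext h))
    · intro s
      have := hfix (s, 0)
      simpa [he20] using this
    · intro s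
      have := hfix (0, s)
      simpa [he10] using this
    · intro m hm1 hm2 hm3
      have hmW : m ∈ W := hm1
      have hm' : (⟨m, hmW⟩ : W) ∈ wt (fun p => sub ρ W (x p)) 1 := by
        intro p
        rw [AddChar.one_apply, one_smul]
        apply Subtype.ext
        show ρ (e1 p.1 * e2 p.2) m = m
        rw [map_mul, Module.End.mul_apply, hm3, hm2]
      obtain ⟨d, hd⟩ := hv ⟨⟨m, hmW⟩, hm'⟩
      exact ⟨d, (congrArg (fun y : wt (fun p => sub ρ W (x p)) 1 => ((y : W) : V)) hd).symm⟩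

end LevelA

end Cfsg.Agent.H121.F4
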