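import Cfsg.Agent.H121.E6Eng
import Cfsg.Agent.H121.F4Aux

/-!
# Relations in `²E₆(q)`

The words `wA`, `wB`, `wC` and the action of the short root elements on them.
-/

set_option autoImplicit false
set_option linter.unusedSectionVars false
set_option linter.unusedSimpArgs false
set_option linter.unusedTactic false
set_option linter.unreachableTactic false

namespace Cfsg.Agent.H121.E6R

open Cfsg.Lie
open Cfsg.Agent.ChevalleyStructure.TwistedE6U (X)
open Cfsg.Agent.H121.HexMin (fx mem_fx coe_fx)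
open Cfsg.Agent.H121.Quad Cfsg.Agent.H121.Orth Cfsg.Agent.H121.F4 Cfsg.Agent.H121.E6Eng

variable {K : Type*} [Field K] {σ : K ≃+* K} [Quad.Inv σ]

def LA : List ℕ := [60, 63, 65, 66, 68, 69, 70, 71]
def LB : List ℕ := [46, 47, 48, 50, 51, 53]
def LC : List ℕ := [39, 40, 43, 44]

theorem comA : comL LA = true := by decide +kernel
theorem nodA : LA.Nodup := by decide
theorem comB : comL LB = true := by decide +kernel
theorem nodB : LB.Nodup := by decide
theorem comC : comL LC = true := by decide +kernel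
theorem nodC : LC.Nodup := by decide

def wA (a : VV (Fin 3) σ) : List (ℕ × K) :=
  [(60, -((a.1 0).2 : K)), (63, ((a.1 1).2 : K)), (65, -((a.1 2).2 : K)), (66, a.2), (68, σ a.2),
    (69, ((a.1 2).1 : K)), (70, ((a.1 1).1 : K)), (71, ((a.1 0).1 : K))]

def wB (b : VV (Fin 2) σ) : List (ℕ × K) :=
  [(46, ((b.1 0).2 : K)), (47, -((b.1 1).2 : K)), (48, b.2), (50, σ b.2), (51, ((b.1 1).1 : K)),
    (53, ((b.1 0).1 : K))]

def wC (c : VV (Fin 1) σ) : List (ℕ × K) :=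
  [(39, ((c.1 0).2 : K)), (40, c.2), (43, -σ c.2), (44, ((c.1 0).1 : K))]

theorem inA (a : VV (Fin 3) σ) : In LA (wA a) := by simp [In, wA, LA]
theorem inB (b : VV (Fin 2) σ) : In LB (wB b) := by simp [In, wB, LB]
theorem inC (c : VV (Fin 1) σ) : In LC (wC c) := by simp [In, wC, LC]

theorem k48A : chk 48 [(60, 66, 1), (68, 71, 1)] LA = true := by decide +kernel
theorem k50A : chk 50 [(60, 68, 1), (66, 71, 1)] LA = true := by decide +kernel

theorem c48A (u : K) (a : VV (Fin 3) σ) :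
    X 48 u * X 50 (σ u) * W (wA a) = W (wA (rp 0 (-u) a)) * (X 48 u * X 50 (σ u)) := by
  obtain ⟨h1, h2⟩ := conj2 k48A k50A u (σ u) (inA a)
  rw [← mul_inv_eq_iff_eq_mul, h1]
  refine W_eq comA nodA h2 (inA _) ?_
  simp only [LA, List.forall_mem_cons]
  refine ⟨?_, ?_, ?_, ?_, ?_, ?_, ?_, ?_, ?_⟩
  all_goals simp [co, cw, ft, wA, rp, rm, coe_T, coe_N, ss, coe_fx]
  all_goals try ring

theorem k21A : chk 21 [(68, 60, 1), (71, 66, 1)] LA = true := by decide +kernel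
theorem k23A : chk 23 [(66, 60, 1), (71, 68, 1)] LA = true := by decide +kernel

theorem c21A (u : K) (a : VV (Fin 3) σ) :
    X 21 u * X 23 (σ u) * W (wA a) = W (wA (rm 0 u a)) * (X 21 u * X 23 (σ u)) := by
  obtain ⟨h1, h2⟩ := conj2 k21A k23A u (σ u) (inA a)
  rw [← mul_inv_eq_iff_eq_mul, h1]
  refine W_eq comA nodA h2 (inA _) ?_
  simp only [LA, List.forall_mem_cons]
  refine ⟨?_, ?_, ?_, ?_, ?_, ?_, ?_, ?_, ?_⟩
  all_goals simp [co, cw, ft, wA, rp, rm, coe_T, coe_N, ss, coe_fx]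
  all_goals try ring

theorem k40A : chk 40 [(63, 66, 1), (68, 70, -1)] LA = true := by decide +kernel
theorem k43A : chk 43 [(63, 68, -1), (66, 70, 1)] LA = true := by decide +kernel

theorem c40A (u : K) (a : VV (Fin 3) σ) :
    X 40 u * X 43 (-σ u) * W (wA a) = W (wA (rp 1 u a)) * (X 40 u * X 43 (-σ u)) := by
  obtain ⟨h1, h2⟩ := conj2 k40A k43A u (-σ u) (inA a)
  rw [← mul_inv_eq_iff_eq_mul, h1]
  refine W_eq comA nodA h2 (inA _) ?_
  simp only [LA, List.forall_mem_cons]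
  refine ⟨?_, ?_, ?_, ?_, ?_, ?_, ?_, ?_, ?_⟩
  all_goals simp [co, cw, ft, wA, rp, rm, coe_T, coe_N, ss, coe_fx]
  all_goals try ring

theorem k28A : chk 28 [(68, 63, -1), (70, 66, 1)] LA = true := by decide +kernel
theorem k31A : chk 31 [(66, 63, 1), (70, 68, -1)] LA = true := by decide +kernel

theorem c28A (u : K) (a : VV (Fin 3) σ) :
    X 28 u * X 31 (-σ u) * W (wA a) = W (wA (rm 1 u a)) * (X 28 u * X 31 (-σ u)) := by
  obtain ⟨h1, h2⟩ := conj2 k28A k31A u (-σ u) (inA a)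
  rw [← mul_inv_eq_iff_eq_mul, h1]
  refine W_eq comA nodA h2 (inA _) ?_
  simp only [LA, List.forall_mem_cons]
  refine ⟨?_, ?_, ?_, ?_, ?_, ?_, ?_, ?_, ?_⟩
  all_goals simp [co, cw, ft, wA, rp, rm, coe_T, coe_N, ss, coe_fx]
  all_goals try ring

theorem k37A : chk 37 [(65, 66, 1), (68, 69, 1)] LA = true := by decide +kernel
theorem k42A : chk 42 [(65, 68, 1), (66, 69, 1)] LA = true := by decide +kernel

theorem c37A (u : K) (a : VV (Fin 3) σ) :
    X 37 u * X 42 (σ u) * W (wA a) = W (wA (rp 2 (-u) a)) * (X 37 u * X 42 (σ u)) := by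
  obtain ⟨h1, h2⟩ := conj2 k37A k42A u (σ u) (inA a)
  rw [← mul_inv_eq_iff_eq_mul, h1]
  refine W_eq comA nodA h2 (inA _) ?_
  simp only [LA, List.forall_mem_cons]
  refine ⟨?_, ?_, ?_, ?_, ?_, ?_, ?_, ?_, ?_⟩
  all_goals simp [co, cw, ft, wA, rp, rm, coe_T, coe_N, ss, coe_fx]
  all_goals try ring

theorem k29A : chk 29 [(68, 65, 1), (69, 66, 1)] LA = true := by decide +kernel
theorem k34A : chk 34 [(66, 65, 1), (69, 68, 1)] LA = true := by decide +kernel

theorem c29A (u : K) (a : VV (Fin 3) σ) :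
    X 29 u * X 34 (σ u) * W (wA a) = W (wA (rm 2 u a)) * (X 29 u * X 34 (σ u)) := by
  obtain ⟨h1, h2⟩ := conj2 k29A k34A u (σ u) (inA a)
  rw [← mul_inv_eq_iff_eq_mul, h1]
  refine W_eq comA nodA h2 (inA _) ?_
  simp only [LA, List.forall_mem_cons]
  refine ⟨?_, ?_, ?_, ?_, ?_, ?_, ?_, ?_, ?_⟩
  all_goals simp [co, cw, ft, wA, rp, rm, coe_T, coe_N, ss, coe_fx]
  all_goals try ring

theorem k40B : chk 40 [(46, 48, 1), (50, 53, -1)] LB = true := by decide +kernel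
theorem k43B : chk 43 [(46, 50, -1), (48, 53, 1)] LB = true := by decide +kernel

theorem c40B (u : K) (a : VV (Fin 2) σ) :
    X 40 u * X 43 (-σ u) * W (wB a) = W (wB (rp 0 u a)) * (X 40 u * X 43 (-σ u)) := by
  obtain ⟨h1, h2⟩ := conj2 k40B k43B u (-σ u) (inB a)
  rw [← mul_inv_eq_iff_eq_mul, h1]
  refine W_eq comB nodB h2 (inB _) ?_
  simp only [LB, List.forall_mem_cons]
  refine ⟨?_, ?_, ?_, ?_, ?_, ?_, ?_⟩
  all_goals simp [co, cw, ft, wB, rp, rm, coe_T, coe_N, ss, coe_fx]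
  all_goals try ring

theorem k28B : chk 28 [(50, 46, -1), (53, 48, 1)] LB = true := by decide +kernel
theorem k31B : chk 31 [(48, 46, 1), (53, 50, -1)] LB = true := by decide +kernel

theorem c28B (u : K) (a : VV (Fin 2) σ) :
    X 28 u * X 31 (-σ u) * W (wB a) = W (wB (rm 0 u a)) * (X 28 u * X 31 (-σ u)) := by
  obtain ⟨h1, h2⟩ := conj2 k28B k31B u (-σ u) (inB a)
  rw [← mul_inv_eq_iff_eq_mul, h1]
  refine W_eq comB nodB h2 (inB _) ?_
  simp only [LB, List.forall_mem_cons]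
  refine ⟨?_, ?_, ?_, ?_, ?_, ?_, ?_⟩
  all_goals simp [co, cw, ft, wB, rp, rm, coe_T, coe_N, ss, coe_fx]
  all_goals try ring

theorem k37B : chk 37 [(47, 48, 1), (50, 51, 1)] LB = true := by decide +kernel
theorem k42B : chk 42 [(47, 50, 1), (48, 51, 1)] LB = true := by decide +kernel

theorem c37B (u : K) (a : VV (Fin 2) σ) :
    X 37 u * X 42 (σ u) * W (wB a) = W (wB (rp 1 (-u) a)) * (X 37 u * X 42 (σ u)) := by
  obtain ⟨h1, h2⟩ := conj2 k37B k42B u (σ u) (inB a)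
  rw [← mul_inv_eq_iff_eq_mul, h1]
  refine W_eq comB nodB h2 (inB _) ?_
  simp only [LB, List.forall_mem_cons]
  refine ⟨?_, ?_, ?_, ?_, ?_, ?_, ?_⟩
  all_goals simp [co, cw, ft, wB, rp, rm, coe_T, coe_N, ss, coe_fx]
  all_goals try ring

theorem k29B : chk 29 [(50, 47, 1), (51, 48, 1)] LB = true := by decide +kernel
theorem k34B : chk 34 [(48, 47, 1), (51, 50, 1)] LB = true := by decide +kernel

theorem c29B (u : K) (a : VV (Fin 2) σ) :
    X 29 u * X 34 (σ u) * W (wB a) = W (wB (rm 1 u a)) * (X 29 u * X 34 (σ u)) := by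
  obtain ⟨h1, h2⟩ := conj2 k29B k34B u (σ u) (inB a)
  rw [← mul_inv_eq_iff_eq_mul, h1]
  refine W_eq comB nodB h2 (inB _) ?_
  simp only [LB, List.forall_mem_cons]
  refine ⟨?_, ?_, ?_, ?_, ?_, ?_, ?_⟩
  all_goals simp [co, cw, ft, wB, rp, rm, coe_T, coe_N, ss, coe_fx]
  all_goals try ring

theorem k37C : chk 37 [(39, 40, 1), (43, 44, 1)] LC = true := by decide +kernel
theorem k42C : chk 42 [(39, 43, -1), (40, 44, -1)] LC = true := by decide +kernel

theorem c37C (u : K) (a : VV (Fin 1) σ) :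
    X 37 u * X 42 (σ u) * W (wC a) = W (wC (rp 0 u a)) * (X 37 u * X 42 (σ u)) := by
  obtain ⟨h1, h2⟩ := conj2 k37C k42C u (σ u) (inC a)
  rw [← mul_inv_eq_iff_eq_mul, h1]
  refine W_eq comC nodC h2 (inC _) ?_
  simp only [LC, List.forall_mem_cons]
  refine ⟨?_, ?_, ?_, ?_, ?_⟩
  all_goals simp [co, cw, ft, wC, rp, rm, coe_T, coe_N, ss, coe_fx]
  all_goals try ring

theorem k29C : chk 29 [(43, 39, -1), (44, 40, -1)] LC = true := by decide +kernel
theorem k34C : chk 34 [(40, 39, 1), (44, 43, 1)] LC = true := by decide +kernel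

theorem c29C (u : K) (a : VV (Fin 1) σ) :
    X 29 u * X 34 (σ u) * W (wC a) = W (wC (rm 0 (-u) a)) * (X 29 u * X 34 (σ u)) := by
  obtain ⟨h1, h2⟩ := conj2 k29C k34C u (σ u) (inC a)
  rw [← mul_inv_eq_iff_eq_mul, h1]
  refine W_eq comC nodC h2 (inC _) ?_
  simp only [LC, List.forall_mem_cons]
  refine ⟨?_, ?_, ?_, ?_, ?_⟩
  all_goals simp [co, cw, ft, wC, rp, rm, coe_T, coe_N, ss, coe_fx]
  all_goals try ring


end Cfsg.Agent.H121.E6R
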