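import Cfsg.Agent.H121.E6R1

/-!
# More relations in `²E₆(q)`
-/

set_option autoImplicit false
set_option linter.unusedSectionVars false
set_option linter.unusedSimpArgs false
set_option linter.unusedTactic false
set_option linter.unreachableTactic false

namespace Cfsg.Agent.H121.E6R

open Cfsg.Lie
open Cfsg.Agent.ChevalleyStructure.TwistedE6U (X)
open Cfsg.Agent.H121.HexMin (fx mem_fx coe_fx)
open Cfsg.Agent.H121.Quad Cfsg.Agent.H121.Orth Cfsg.Agent.H121.F4 Cfsg.Agent.H121.E6Eng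

variable {K : Type*} [Field K] {σ : K ≃+* K} [Quad.Inv σ]

/-- the word of a short root element -/
def e1 (σ : K ≃+* K) (u : K) : List (ℕ × K) := [(45, u), (59, -σ u)]

/-- the word of a short root element -/
def e2 (σ : K ≃+* K) (u : K) : List (ℕ × K) := [(41, u), (58, σ u)]

/-- the word of a short root element -/
def h1 (σ : K ≃+* K) (u : K) : List (ℕ × K) := [(55, u), (67, -σ u)]

/-- the word of a short root element -/
def h2 (σ : K ≃+* K) (u : K) : List (ℕ × K) := [(54, u), (64, -σ u)]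

/-- the word of a short root element -/
def h3 (σ : K ≃+* K) (u : K) : List (ℕ × K) := [(49, u), (61, -σ u)]

/-- the word of a short root element -/
def h4 (σ : K ≃+* K) (u : K) : List (ℕ × K) := [(52, u), (62, -σ u)]

/-- the word of a short root element -/
def s2 (σ : K ≃+* K) (u : K) : List (ℕ × K) := [(48, u), (50, σ u)]

/-- the word of a short root element -/
def s3 (σ : K ≃+* K) (u : K) : List (ℕ × K) := [(40, u), (43, -σ u)]

/-- the word of a short root element -/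
def s4 (σ : K ≃+* K) (u : K) : List (ℕ × K) := [(37, u), (42, σ u)]

/-- the word of a short root element -/
def g1 (σ : K ≃+* K) (u : K) : List (ℕ × K) := [(36, u), (56, σ u)]

/-- the word of a short root element -/
def g2 (σ : K ≃+* K) (u : K) : List (ℕ × K) := [(38, u), (57, -σ u)]

/-- the word of a short root element -/
def m2 (σ : K ≃+* K) (u : K) : List (ℕ × K) := [(21, u), (23, σ u)]

/-- the word of a short root element -/
def m3 (σ : K ≃+* K) (u : K) : List (ℕ × K) := [(28, u), (31, -σ u)]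

/-- the word of a short root element -/
def m4 (σ : K ≃+* K) (u : K) : List (ℕ × K) := [(29, u), (34, σ u)]

theorem t1 : comL [45, 59, 60, 63, 65, 66, 68, 69, 70, 71] = true := by decide +kernel
theorem t2 : chk 36 [(59, 60, 1)] [45, 59, 60, 63, 65, 66, 68, 69, 70, 71] = true := by decide +kernel
theorem t3 : chk 56 [(45, 60, -1)] [45, 59, 60, 63, 65, 66, 68, 69, 70, 71] = true := by decide +kernel

theorem rf1 (z s : K) : W (g1 σ (z)) * W (e1 σ s) * (W (g1 σ (z)))⁻¹ = W (e1 σ s ++ wA (vy (0 : Fin 3) (T σ (z * σ s)))) := by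
  obtain ⟨H1, H2⟩ := conj2 t2 t3 (z) (σ (z)) (w := e1 σ s) (by simp [In, co, cw, ft, wA, wB, wC, e1, e2, h1, h2, h3, h4, s2, s3, s4, g1, g2, vx, vy, coe_T, coe_N, ss, coe_fx])
  have e : W (g1 σ (z)) = X 36 (z) * X 56 (σ (z)) := by simp [W, g1]
  rw [e, H1]
  refine W_eq t1 (by decide) H2 (by simp [In, co, cw, ft, wA, wB, wC, e1, e2, h1, h2, h3, h4, s2, s3, s4, g1, g2, vx, vy, coe_T, coe_N, ss, coe_fx]) ?_
  simp only [List.forall_mem_cons]
  refine ⟨?_, ?_, ?_, ?_, ?_, ?_, ?_, ?_, ?_, ?_, ?_⟩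
  all_goals simp [co, cw, ft, wA, wB, wC, e1, e2, h1, h2, h3, h4, s2, s3, s4, g1, g2, vx, vy, coe_T, coe_N, ss, coe_fx]
  all_goals try ring

theorem t4 : comL [41, 58, 60, 63, 65, 66, 68, 69, 70, 71] = true := by decide +kernel
theorem t5 : chk 38 [(58, 60, 1)] [41, 58, 60, 63, 65, 66, 68, 69, 70, 71] = true := by decide +kernel
theorem t6 : chk 57 [(41, 60, -1)] [41, 58, 60, 63, 65, 66, 68, 69, 70, 71] = true := by decide +kernel

theorem rf2 (z s : K) : W (g2 σ (-z)) * W (e2 σ s) * (W (g2 σ (-z)))⁻¹ = W (e2 σ s ++ wA (vy (0 : Fin 3) (T σ (z * σ s)))) := by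
  obtain ⟨H1, H2⟩ := conj2 t5 t6 (-z) (-σ (-z)) (w := e2 σ s) (by simp [In, co, cw, ft, wA, wB, wC, e1, e2, h1, h2, h3, h4, s2, s3, s4, g1, g2, vx, vy, coe_T, coe_N, ss, coe_fx])
  have e : W (g2 σ (-z)) = X 38 (-z) * X 57 (-σ (-z)) := by simp [W, g2]
  rw [e, H1]
  refine W_eq t4 (by decide) H2 (by simp [In, co, cw, ft, wA, wB, wC, e1, e2, h1, h2, h3, h4, s2, s3, s4, g1, g2, vx, vy, coe_T, coe_N, ss, coe_fx]) ?_
  simp only [List.forall_mem_cons]
  refine ⟨?_, ?_, ?_, ?_, ?_, ?_, ?_, ?_, ?_, ?_, ?_⟩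
  all_goals simp [co, cw, ft, wA, wB, wC, e1, e2, h1, h2, h3, h4, s2, s3, s4, g1, g2, vx, vy, coe_T, coe_N, ss, coe_fx]
  all_goals try ring

theorem t7 : comL [45, 59, 55, 67] = true := by decide +kernel
theorem t8 : chk 48 [(45, 55, 1)] [45, 59, 55, 67] = true := by decide +kernel
theorem t9 : chk 50 [(59, 67, 1)] [45, 59, 55, 67] = true := by decide +kernel

theorem rs2e1 (u s : K) : (W (s2 σ (u)))⁻¹ * W (e1 σ s) * W (s2 σ (u)) = W (e1 σ s ++ h1 σ (-(u * s))) := by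
  obtain ⟨H1, H2⟩ := conj2' t8 t9 (u) (σ (u)) (w := e1 σ s) (by simp [In, co, cw, ft, wA, wB, wC, e1, e2, h1, h2, h3, h4, s2, s3, s4, g1, g2, vx, vy, coe_T, coe_N, ss, coe_fx])
  have e : W (s2 σ (u)) = X 48 (u) * X 50 (σ (u)) := by simp [W, s2]
  rw [e, H1]
  refine W_eq t7 (by decide) H2 (by simp [In, co, cw, ft, wA, wB, wC, e1, e2, h1, h2, h3, h4, s2, s3, s4, g1, g2, vx, vy, coe_T, coe_N, ss, coe_fx]) ?_
  simp only [List.forall_mem_cons]
  refine ⟨?_, ?_, ?_, ?_, ?_⟩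
  all_goals simp [co, cw, ft, wA, wB, wC, e1, e2, h1, h2, h3, h4, s2, s3, s4, g1, g2, vx, vy, coe_T, coe_N, ss, coe_fx]
  all_goals try ring

theorem t10 : comL [41, 58, 54, 64] = true := by decide +kernel
theorem t11 : chk 48 [(58, 64, -1)] [41, 58, 54, 64] = true := by decide +kernel
theorem t12 : chk 50 [(41, 54, 1)] [41, 58, 54, 64] = true := by decide +kernel

theorem rs2e2 (u s : K) : (W (s2 σ (u)))⁻¹ * W (e2 σ s) * W (s2 σ (u)) = W (e2 σ s ++ h2 σ (-(s * σ u))) := by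
  obtain ⟨H1, H2⟩ := conj2' t11 t12 (u) (σ (u)) (w := e2 σ s) (by simp [In, co, cw, ft, wA, wB, wC, e1, e2, h1, h2, h3, h4, s2, s3, s4, g1, g2, vx, vy, coe_T, coe_N, ss, coe_fx])
  have e : W (s2 σ (u)) = X 48 (u) * X 50 (σ (u)) := by simp [W, s2]
  rw [e, H1]
  refine W_eq t10 (by decide) H2 (by simp [In, co, cw, ft, wA, wB, wC, e1, e2, h1, h2, h3, h4, s2, s3, s4, g1, g2, vx, vy, coe_T, coe_N, ss, coe_fx]) ?_
  simp only [List.forall_mem_cons]
  refine ⟨?_, ?_, ?_, ?_, ?_⟩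
  all_goals simp [co, cw, ft, wA, wB, wC, e1, e2, h1, h2, h3, h4, s2, s3, s4, g1, g2, vx, vy, coe_T, coe_N, ss, coe_fx]
  all_goals try ring

theorem t13 : comL [41, 58, 45, 59] = true := by decide +kernel
theorem t14 : chk 37 [(58, 59, 1)] [41, 58, 45, 59] = true := by decide +kernel
theorem t15 : chk 42 [(41, 45, -1)] [41, 58, 45, 59] = true := by decide +kernel

theorem rs4e2 (u s : K) : (W (s4 σ (u)))⁻¹ * W (e2 σ s) * W (s4 σ (u)) = W (e2 σ s ++ e1 σ (s * σ u)) := by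
  obtain ⟨H1, H2⟩ := conj2' t14 t15 (u) (σ (u)) (w := e2 σ s) (by simp [In, co, cw, ft, wA, wB, wC, e1, e2, h1, h2, h3, h4, s2, s3, s4, g1, g2, vx, vy, coe_T, coe_N, ss, coe_fx])
  have e : W (s4 σ (u)) = X 37 (u) * X 42 (σ (u)) := by simp [W, s4]
  rw [e, H1]
  refine W_eq t13 (by decide) H2 (by simp [In, co, cw, ft, wA, wB, wC, e1, e2, h1, h2, h3, h4, s2, s3, s4, g1, g2, vx, vy, coe_T, coe_N, ss, coe_fx]) ?_
  simp only [List.forall_mem_cons]
  refine ⟨?_, ?_, ?_, ?_, ?_⟩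
  all_goals simp [co, cw, ft, wA, wB, wC, e1, e2, h1, h2, h3, h4, s2, s3, s4, g1, g2, vx, vy, coe_T, coe_N, ss, coe_fx]
  all_goals try ring

theorem t16 : comL [45, 59, 60, 63, 65, 66, 68, 69, 70, 71] = true := by decide +kernel
theorem t17 : chk 49 [(59, 66, -1)] [45, 59, 60, 63, 65, 66, 68, 69, 70, 71] = true := by decide +kernel
theorem t18 : chk 61 [(45, 68, -1)] [45, 59, 60, 63, 65, 66, 68, 69, 70, 71] = true := by decide +kernel

theorem rh3e1 (z s : K) : (W (h3 σ (z)))⁻¹ * W (e1 σ s) * W (h3 σ (z)) = W (e1 σ s ++ wA (((fun _ => (0, 0)), -(σ s * z)) : VV (Fin 3) σ)) := by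
  obtain ⟨H1, H2⟩ := conj2' t17 t18 (z) (-σ (z)) (w := e1 σ s) (by simp [In, co, cw, ft, wA, wB, wC, e1, e2, h1, h2, h3, h4, s2, s3, s4, g1, g2, vx, vy, coe_T, coe_N, ss, coe_fx])
  have e : W (h3 σ (z)) = X 49 (z) * X 61 (-σ (z)) := by simp [W, h3]
  rw [e, H1]
  refine W_eq t16 (by decide) H2 (by simp [In, co, cw, ft, wA, wB, wC, e1, e2, h1, h2, h3, h4, s2, s3, s4, g1, g2, vx, vy, coe_T, coe_N, ss, coe_fx]) ?_
  simp only [List.forall_mem_cons]
  refine ⟨?_, ?_, ?_, ?_, ?_, ?_, ?_, ?_, ?_, ?_, ?_⟩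
  all_goals simp [co, cw, ft, wA, wB, wC, e1, e2, h1, h2, h3, h4, s2, s3, s4, g1, g2, vx, vy, coe_T, coe_N, ss, coe_fx]
  all_goals try ring

theorem t19 : comL [41, 58, 60, 63, 65, 66, 68, 69, 70, 71] = true := by decide +kernel
theorem t20 : chk 49 [(58, 65, -1)] [41, 58, 60, 63, 65, 66, 68, 69, 70, 71] = true := by decide +kernel
theorem t21 : chk 61 [(41, 65, 1)] [41, 58, 60, 63, 65, 66, 68, 69, 70, 71] = true := by decide +kernel

theorem rh3e2 (z s : K) : (W (h3 σ (z)))⁻¹ * W (e2 σ s) * W (h3 σ (z)) = W (e2 σ s ++ wA (vy (2 : Fin 3) (-T σ (z * σ s)))) := by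
  obtain ⟨H1, H2⟩ := conj2' t20 t21 (z) (-σ (z)) (w := e2 σ s) (by simp [In, co, cw, ft, wA, wB, wC, e1, e2, h1, h2, h3, h4, s2, s3, s4, g1, g2, vx, vy, coe_T, coe_N, ss, coe_fx])
  have e : W (h3 σ (z)) = X 49 (z) * X 61 (-σ (z)) := by simp [W, h3]
  rw [e, H1]
  refine W_eq t19 (by decide) H2 (by simp [In, co, cw, ft, wA, wB, wC, e1, e2, h1, h2, h3, h4, s2, s3, s4, g1, g2, vx, vy, coe_T, coe_N, ss, coe_fx]) ?_
  simp only [List.forall_mem_cons]
  refine ⟨?_, ?_, ?_, ?_, ?_, ?_, ?_, ?_, ?_, ?_, ?_⟩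
  all_goals simp [co, cw, ft, wA, wB, wC, e1, e2, h1, h2, h3, h4, s2, s3, s4, g1, g2, vx, vy, coe_T, coe_N, ss, coe_fx]
  all_goals try ring

theorem t22 : comL [45, 59, 60, 63, 65, 66, 68, 69, 70, 71] = true := by decide +kernel
theorem t23 : chk 52 [(59, 69, -1)] [45, 59, 60, 63, 65, 66, 68, 69, 70, 71] = true := by decide +kernel
theorem t24 : chk 62 [(45, 69, -1)] [45, 59, 60, 63, 65, 66, 68, 69, 70, 71] = true := by decide +kernel

theorem rh4e1 (z s : K) : (W (h4 σ (z)))⁻¹ * W (e1 σ s) * W (h4 σ (z)) = W (e1 σ s ++ wA (vx (2 : Fin 3) (-T σ (z * σ s)))) := by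
  obtain ⟨H1, H2⟩ := conj2' t23 t24 (z) (-σ (z)) (w := e1 σ s) (by simp [In, co, cw, ft, wA, wB, wC, e1, e2, h1, h2, h3, h4, s2, s3, s4, g1, g2, vx, vy, coe_T, coe_N, ss, coe_fx])
  have e : W (h4 σ (z)) = X 52 (z) * X 62 (-σ (z)) := by simp [W, h4]
  rw [e, H1]
  refine W_eq t22 (by decide) H2 (by simp [In, co, cw, ft, wA, wB, wC, e1, e2, h1, h2, h3, h4, s2, s3, s4, g1, g2, vx, vy, coe_T, coe_N, ss, coe_fx]) ?_
  simp only [List.forall_mem_cons]
  refine ⟨?_, ?_, ?_, ?_, ?_, ?_, ?_, ?_, ?_, ?_, ?_⟩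
  all_goals simp [co, cw, ft, wA, wB, wC, e1, e2, h1, h2, h3, h4, s2, s3, s4, g1, g2, vx, vy, coe_T, coe_N, ss, coe_fx]
  all_goals try ring

theorem t25 : comL [41, 58, 60, 63, 65, 66, 68, 69, 70, 71] = true := by decide +kernel
theorem t26 : chk 52 [(58, 68, -1)] [41, 58, 60, 63, 65, 66, 68, 69, 70, 71] = true := by decide +kernel
theorem t27 : chk 62 [(41, 66, 1)] [41, 58, 60, 63, 65, 66, 68, 69, 70, 71] = true := by decide +kernel

theorem rh4e2 (z s : K) : (W (h4 σ (z)))⁻¹ * W (e2 σ s) * W (h4 σ (z)) = W (e2 σ s ++ wA (((fun _ => (0, 0)), s * σ z) : VV (Fin 3) σ)) := by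
  obtain ⟨H1, H2⟩ := conj2' t26 t27 (z) (-σ (z)) (w := e2 σ s) (by simp [In, co, cw, ft, wA, wB, wC, e1, e2, h1, h2, h3, h4, s2, s3, s4, g1, g2, vx, vy, coe_T, coe_N, ss, coe_fx])
  have e : W (h4 σ (z)) = X 52 (z) * X 62 (-σ (z)) := by simp [W, h4]
  rw [e, H1]
  refine W_eq t25 (by decide) H2 (by simp [In, co, cw, ft, wA, wB, wC, e1, e2, h1, h2, h3, h4, s2, s3, s4, g1, g2, vx, vy, coe_T, coe_N, ss, coe_fx]) ?_
  simp only [List.forall_mem_cons]
  refine ⟨?_, ?_, ?_, ?_, ?_, ?_, ?_, ?_, ?_, ?_, ?_⟩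
  all_goals simp [co, cw, ft, wA, wB, wC, e1, e2, h1, h2, h3, h4, s2, s3, s4, g1, g2, vx, vy, coe_T, coe_N, ss, coe_fx]
  all_goals try ring

theorem t28 : comL [52, 62, 55, 67] = true := by decide +kernel
theorem t29 : chk 40 [(52, 55, 1)] [52, 62, 55, 67] = true := by decide +kernel
theorem t30 : chk 43 [(62, 67, -1)] [52, 62, 55, 67] = true := by decide +kernel

theorem rs3h4 (u v : K) : W (s3 σ (u)) * W (h4 σ v) * (W (s3 σ (u)))⁻¹ = W (h1 σ (u * v) ++ h4 σ v) := by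
  obtain ⟨H1, H2⟩ := conj2 t29 t30 (u) (-σ (u)) (w := h4 σ v) (by simp [In, co, cw, ft, wA, wB, wC, e1, e2, h1, h2, h3, h4, s2, s3, s4, g1, g2, vx, vy, coe_T, coe_N, ss, coe_fx])
  have e : W (s3 σ (u)) = X 40 (u) * X 43 (-σ (u)) := by simp [W, s3]
  rw [e, H1]
  refine W_eq t28 (by decide) H2 (by simp [In, co, cw, ft, wA, wB, wC, e1, e2, h1, h2, h3, h4, s2, s3, s4, g1, g2, vx, vy, coe_T, coe_N, ss, coe_fx]) ?_
  simp only [List.forall_mem_cons]
  refine ⟨?_, ?_, ?_, ?_, ?_⟩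
  all_goals simp [co, cw, ft, wA, wB, wC, e1, e2, h1, h2, h3, h4, s2, s3, s4, g1, g2, vx, vy, coe_T, coe_N, ss, coe_fx]
  all_goals try ring

theorem t31 : comL [49, 61, 54, 64] = true := by decide +kernel
theorem t32 : chk 40 [(61, 64, -1)] [49, 61, 54, 64] = true := by decide +kernel
theorem t33 : chk 43 [(49, 54, 1)] [49, 61, 54, 64] = true := by decide +kernel

theorem rs3h3 (u v : K) : W (s3 σ (u)) * W (h3 σ v) * (W (s3 σ (u)))⁻¹ = W (h2 σ (-(v * σ u)) ++ h3 σ v) := by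
  obtain ⟨H1, H2⟩ := conj2 t32 t33 (u) (-σ (u)) (w := h3 σ v) (by simp [In, co, cw, ft, wA, wB, wC, e1, e2, h1, h2, h3, h4, s2, s3, s4, g1, g2, vx, vy, coe_T, coe_N, ss, coe_fx])
  have e : W (s3 σ (u)) = X 40 (u) * X 43 (-σ (u)) := by simp [W, s3]
  rw [e, H1]
  refine W_eq t31 (by decide) H2 (by simp [In, co, cw, ft, wA, wB, wC, e1, e2, h1, h2, h3, h4, s2, s3, s4, g1, g2, vx, vy, coe_T, coe_N, ss, coe_fx]) ?_
  simp only [List.forall_mem_cons]
  refine ⟨?_, ?_, ?_, ?_, ?_⟩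
  all_goals simp [co, cw, ft, wA, wB, wC, e1, e2, h1, h2, h3, h4, s2, s3, s4, g1, g2, vx, vy, coe_T, coe_N, ss, coe_fx]
  all_goals try ring

theorem t34 : comL [40, 43, 53] = true := by decide +kernel
theorem t35 : chk 48 [(43, 53, -1)] [40, 43, 53] = true := by decide +kernel
theorem t36 : chk 50 [(40, 53, 1)] [40, 43, 53] = true := by decide +kernel

theorem rc23 (u v : K) : W (s2 σ (u)) * W (s3 σ v) * (W (s2 σ (u)))⁻¹ = W ([(53, (T σ (v * σ u) : K))] ++ s3 σ v) := by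
  obtain ⟨H1, H2⟩ := conj2 t35 t36 (u) (σ (u)) (w := s3 σ v) (by simp [In, co, cw, ft, wA, wB, wC, e1, e2, h1, h2, h3, h4, s2, s3, s4, g1, g2, vx, vy, coe_T, coe_N, ss, coe_fx])
  have e : W (s2 σ (u)) = X 48 (u) * X 50 (σ (u)) := by simp [W, s2]
  rw [e, H1]
  refine W_eq t34 (by decide) H2 (by simp [In, co, cw, ft, wA, wB, wC, e1, e2, h1, h2, h3, h4, s2, s3, s4, g1, g2, vx, vy, coe_T, coe_N, ss, coe_fx]) ?_
  simp only [List.forall_mem_cons]
  refine ⟨?_, ?_, ?_, ?_⟩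
  all_goals simp [co, cw, ft, wA, wB, wC, e1, e2, h1, h2, h3, h4, s2, s3, s4, g1, g2, vx, vy, coe_T, coe_N, ss, coe_fx]
  all_goals try ring

theorem t37 : comL [37, 42, 51] = true := by decide +kernel
theorem t38 : chk 48 [(42, 51, -1)] [37, 42, 51] = true := by decide +kernel
theorem t39 : chk 50 [(37, 51, -1)] [37, 42, 51] = true := by decide +kernel

theorem rc24 (u v : K) : W (s2 σ (u)) * W (s4 σ v) * (W (s2 σ (u)))⁻¹ = W ([(51, -(T σ (v * σ u) : K))] ++ s4 σ v) := by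
  obtain ⟨H1, H2⟩ := conj2 t38 t39 (u) (σ (u)) (w := s4 σ v) (by simp [In, co, cw, ft, wA, wB, wC, e1, e2, h1, h2, h3, h4, s2, s3, s4, g1, g2, vx, vy, coe_T, coe_N, ss, coe_fx])
  have e : W (s2 σ (u)) = X 48 (u) * X 50 (σ (u)) := by simp [W, s2]
  rw [e, H1]
  refine W_eq t37 (by decide) H2 (by simp [In, co, cw, ft, wA, wB, wC, e1, e2, h1, h2, h3, h4, s2, s3, s4, g1, g2, vx, vy, coe_T, coe_N, ss, coe_fx]) ?_
  simp only [List.forall_mem_cons]
  refine ⟨?_, ?_, ?_, ?_⟩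
  all_goals simp [co, cw, ft, wA, wB, wC, e1, e2, h1, h2, h3, h4, s2, s3, s4, g1, g2, vx, vy, coe_T, coe_N, ss, coe_fx]
  all_goals try ring

theorem t40 : comL [37, 42, 44] = true := by decide +kernel
theorem t41 : chk 40 [(42, 44, 1)] [37, 42, 44] = true := by decide +kernel
theorem t42 : chk 43 [(37, 44, -1)] [37, 42, 44] = true := by decide +kernel

theorem rc34 (u v : K) : W (s3 σ (u)) * W (s4 σ v) * (W (s3 σ (u)))⁻¹ = W ([(44, (T σ (v * σ u) : K))] ++ s4 σ v) := by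
  obtain ⟨H1, H2⟩ := conj2 t41 t42 (u) (-σ (u)) (w := s4 σ v) (by simp [In, co, cw, ft, wA, wB, wC, e1, e2, h1, h2, h3, h4, s2, s3, s4, g1, g2, vx, vy, coe_T, coe_N, ss, coe_fx])
  have e : W (s3 σ (u)) = X 40 (u) * X 43 (-σ (u)) := by simp [W, s3]
  rw [e, H1]
  refine W_eq t40 (by decide) H2 (by simp [In, co, cw, ft, wA, wB, wC, e1, e2, h1, h2, h3, h4, s2, s3, s4, g1, g2, vx, vy, coe_T, coe_N, ss, coe_fx]) ?_
  simp only [List.forall_mem_cons]
  refine ⟨?_, ?_, ?_, ?_⟩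
  all_goals simp [co, cw, ft, wA, wB, wC, e1, e2, h1, h2, h3, h4, s2, s3, s4, g1, g2, vx, vy, coe_T, coe_N, ss, coe_fx]
  all_goals try ring


end Cfsg.Agent.H121.E6R
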