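import Cfsg.Agent.H121.E6R2

/-!
# Weyl elements in `²E₆(q)`
-/

set_option autoImplicit false
set_option linter.unusedSectionVars false
set_option linter.unusedSimpArgs false
set_option linter.unusedTactic false
set_option linter.unreachableTactic false

namespace Cfsg.Agent.H121.E6R

open Cfsg.Lie
open Cfsg.Agent.ChevalleyStructure.TwistedE6U (X)
open Cfsg.Agent.H121.E6Eng

variable (K : Type*) [Field K]

/-- the Weyl elements -/
noncomputable def n39 : GL chevE6.Idx K := X 39 1 * (X 32 (-1) * X 39 1)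
noncomputable def n46 : GL chevE6.Idx K := X 46 1 * (X 25 (-1) * X 46 1)
noncomputable def n5 : GL chevE6.Idx K := (X 56 1 * (X 15 (-1) * X 56 1)) * (X 36 1 * (X 35 (-1) * X 36 1))

variable {K}

theorem W_single (r : ℕ) (t : K) : W [(r, t)] = X r t := by simp [W]

theorem t101 : comL [29, 28] = true := by decide +kernel
theorem t102 : chk 39 [(28, 29, -1)] [29, 28] = true := by decide +kernel
theorem t103 : chk 32 [(29, 28, -1)] [29, 28] = true := by decide +kernel

theorem c29 (t : K) : n39 K * X 29 t * (n39 K)⁻¹ = X 28 (t) := by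
  obtain ⟨H1, H2⟩ := conj3 t102 t103 1 (-1) 1 (w := [(29, t)]) (by simp [In])
  rw [← W_single, ← W_single, n39, H1]
  refine W_eq t101 (by decide) H2 (by simp [In]) ?_
  simp only [List.forall_mem_cons]
  refine ⟨?_, ?_, ?_⟩
  all_goals simp [co, cw, ft]
  all_goals try ring

theorem t104 : comL [34, 31] = true := by decide +kernel
theorem t105 : chk 39 [(31, 34, 1)] [34, 31] = true := by decide +kernel
theorem t106 : chk 32 [(34, 31, 1)] [34, 31] = true := by decide +kernel

theorem c34 (t : K) : n39 K * X 34 t * (n39 K)⁻¹ = X 31 (-t) := by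
  obtain ⟨H1, H2⟩ := conj3 t105 t106 1 (-1) 1 (w := [(34, t)]) (by simp [In])
  rw [← W_single, ← W_single, n39, H1]
  refine W_eq t104 (by decide) H2 (by simp [In]) ?_
  simp only [List.forall_mem_cons]
  refine ⟨?_, ?_, ?_⟩
  all_goals simp [co, cw, ft]
  all_goals try ring

theorem t107 : comL [28, 21] = true := by decide +kernel
theorem t108 : chk 46 [(21, 28, -1)] [28, 21] = true := by decide +kernel
theorem t109 : chk 25 [(28, 21, -1)] [28, 21] = true := by decide +kernel

theorem c28 (t : K) : n46 K * X 28 t * (n46 K)⁻¹ = X 21 (t) := by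
  obtain ⟨H1, H2⟩ := conj3 t108 t109 1 (-1) 1 (w := [(28, t)]) (by simp [In])
  rw [← W_single, ← W_single, n46, H1]
  refine W_eq t107 (by decide) H2 (by simp [In]) ?_
  simp only [List.forall_mem_cons]
  refine ⟨?_, ?_, ?_⟩
  all_goals simp [co, cw, ft]
  all_goals try ring

theorem t110 : comL [31, 23] = true := by decide +kernel
theorem t111 : chk 46 [(23, 31, 1)] [31, 23] = true := by decide +kernel
theorem t112 : chk 25 [(31, 23, 1)] [31, 23] = true := by decide +kernel

theorem c31 (t : K) : n46 K * X 31 t * (n46 K)⁻¹ = X 23 (-t) := by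
  obtain ⟨H1, H2⟩ := conj3 t111 t112 1 (-1) 1 (w := [(31, t)]) (by simp [In])
  rw [← W_single, ← W_single, n46, H1]
  refine W_eq t110 (by decide) H2 (by simp [In]) ?_
  simp only [List.forall_mem_cons]
  refine ⟨?_, ?_, ?_⟩
  all_goals simp [co, cw, ft]
  all_goals try ring

theorem t113 : comL [51, 44] = true := by decide +kernel
theorem t114 : chk 46 [(44, 51, 1)] [51, 44] = true := by decide +kernel
theorem t115 : chk 25 [(51, 44, 1)] [51, 44] = true := by decide +kernel

theorem c51 (t : K) : n46 K * X 51 t * (n46 K)⁻¹ = X 44 (-t) := by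
  obtain ⟨H1, H2⟩ := conj3 t114 t115 1 (-1) 1 (w := [(51, t)]) (by simp [In])
  rw [← W_single, ← W_single, n46, H1]
  refine W_eq t113 (by decide) H2 (by simp [In]) ?_
  simp only [List.forall_mem_cons]
  refine ⟨?_, ?_, ?_⟩
  all_goals simp [co, cw, ft]
  all_goals try ring

theorem t116 : comL [60, 45, 59, 44] = true := by decide +kernel
theorem t117 : chk 56 [(45, 60, -1), (44, 59, -1)] [60, 45, 59, 44] = true := by decide +kernel
theorem t118 : chk 15 [(60, 45, -1), (59, 44, -1)] [60, 45, 59, 44] = true := by decide +kernel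
theorem t119 : chk 36 [(59, 60, 1), (44, 45, 1)] [60, 45, 59, 44] = true := by decide +kernel
theorem t120 : chk 35 [(60, 59, 1), (45, 44, 1)] [60, 45, 59, 44] = true := by decide +kernel

theorem n5_60 (t : K) : n5 K * X 60 t * (n5 K)⁻¹ = X 44 (-t) := by
  obtain ⟨H1, H2⟩ := conj3 t119 t120 1 (-1) 1 (w := [(60, t)]) (by simp [In])
  obtain ⟨H3, H4⟩ := conj3 t117 t118 1 (-1) 1 H2
  have e : n5 K * W [(60, t)] * (n5 K)⁻¹ = X 56 1 * (X 15 (-1) * X 56 1) * (X 36 1 * (X 35 (-1) * X 36 1) *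
      W [(60, t)] * (X 36 1 * (X 35 (-1) * X 36 1))⁻¹) * (X 56 1 * (X 15 (-1) * X 56 1))⁻¹ := by
    rw [n5]; group
  rw [← W_single, ← W_single, e, H1, H3]
  refine W_eq t116 (by decide) H4 (by simp [In]) ?_
  simp only [List.forall_mem_cons]
  refine ⟨?_, ?_, ?_, ?_, ?_⟩
  all_goals simp [co, cw, ft]
  all_goals try ring

theorem t121 : comL [63, 52, 62, 51] = true := by decide +kernel
theorem t122 : chk 56 [(52, 63, -1), (51, 62, -1)] [63, 52, 62, 51] = true := by decide +kernel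
theorem t123 : chk 15 [(63, 52, -1), (62, 51, -1)] [63, 52, 62, 51] = true := by decide +kernel
theorem t124 : chk 36 [(62, 63, 1), (51, 52, 1)] [63, 52, 62, 51] = true := by decide +kernel
theorem t125 : chk 35 [(63, 62, 1), (52, 51, 1)] [63, 52, 62, 51] = true := by decide +kernel

theorem n5_63 (t : K) : n5 K * X 63 t * (n5 K)⁻¹ = X 51 (-t) := by
  obtain ⟨H1, H2⟩ := conj3 t124 t125 1 (-1) 1 (w := [(63, t)]) (by simp [In])
  obtain ⟨H3, H4⟩ := conj3 t122 t123 1 (-1) 1 H2
  have e : n5 K * W [(63, t)] * (n5 K)⁻¹ = X 56 1 * (X 15 (-1) * X 56 1) * (X 36 1 * (X 35 (-1) * X 36 1) *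
      W [(63, t)] * (X 36 1 * (X 35 (-1) * X 36 1))⁻¹) * (X 56 1 * (X 15 (-1) * X 56 1))⁻¹ := by
    rw [n5]; group
  rw [← W_single, ← W_single, e, H1, H3]
  refine W_eq t121 (by decide) H4 (by simp [In]) ?_
  simp only [List.forall_mem_cons]
  refine ⟨?_, ?_, ?_, ?_, ?_⟩
  all_goals simp [co, cw, ft]
  all_goals try ring

theorem t126 : comL [65, 54, 64, 53] = true := by decide +kernel
theorem t127 : chk 56 [(54, 65, -1), (53, 64, -1)] [65, 54, 64, 53] = true := by decide +kernel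
theorem t128 : chk 15 [(65, 54, -1), (64, 53, -1)] [65, 54, 64, 53] = true := by decide +kernel
theorem t129 : chk 36 [(64, 65, 1), (53, 54, 1)] [65, 54, 64, 53] = true := by decide +kernel
theorem t130 : chk 35 [(65, 64, 1), (54, 53, 1)] [65, 54, 64, 53] = true := by decide +kernel

theorem n5_65 (t : K) : n5 K * X 65 t * (n5 K)⁻¹ = X 53 (-t) := by
  obtain ⟨H1, H2⟩ := conj3 t129 t130 1 (-1) 1 (w := [(65, t)]) (by simp [In])
  obtain ⟨H3, H4⟩ := conj3 t127 t128 1 (-1) 1 H2
  have e : n5 K * W [(65, t)] * (n5 K)⁻¹ = X 56 1 * (X 15 (-1) * X 56 1) * (X 36 1 * (X 35 (-1) * X 36 1) *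
      W [(65, t)] * (X 36 1 * (X 35 (-1) * X 36 1))⁻¹) * (X 56 1 * (X 15 (-1) * X 56 1))⁻¹ := by
    rw [n5]; group
  rw [← W_single, ← W_single, e, H1, H3]
  refine W_eq t126 (by decide) H4 (by simp [In]) ?_
  simp only [List.forall_mem_cons]
  refine ⟨?_, ?_, ?_, ?_, ?_⟩
  all_goals simp [co, cw, ft]
  all_goals try ring

theorem t131 : comL [44, 59, 45, 60] = true := by decide +kernel
theorem t132 : chk 56 [(44, 59, -1), (45, 60, -1)] [44, 59, 45, 60] = true := by decide +kernel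
theorem t133 : chk 15 [(59, 44, -1), (60, 45, -1)] [44, 59, 45, 60] = true := by decide +kernel
theorem t134 : chk 36 [(44, 45, 1), (59, 60, 1)] [44, 59, 45, 60] = true := by decide +kernel
theorem t135 : chk 35 [(45, 44, 1), (60, 59, 1)] [44, 59, 45, 60] = true := by decide +kernel

theorem n5_44 (t : K) : n5 K * X 44 t * (n5 K)⁻¹ = X 60 (-t) := by
  obtain ⟨H1, H2⟩ := conj3 t134 t135 1 (-1) 1 (w := [(44, t)]) (by simp [In])
  obtain ⟨H3, H4⟩ := conj3 t132 t133 1 (-1) 1 H2
  have e : n5 K * W [(44, t)] * (n5 K)⁻¹ = X 56 1 * (X 15 (-1) * X 56 1) * (X 36 1 * (X 35 (-1) * X 36 1) *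
      W [(44, t)] * (X 36 1 * (X 35 (-1) * X 36 1))⁻¹) * (X 56 1 * (X 15 (-1) * X 56 1))⁻¹ := by
    rw [n5]; group
  rw [← W_single, ← W_single, e, H1, H3]
  refine W_eq t131 (by decide) H4 (by simp [In]) ?_
  simp only [List.forall_mem_cons]
  refine ⟨?_, ?_, ?_, ?_, ?_⟩
  all_goals simp [co, cw, ft]
  all_goals try ring

theorem t136 : comL [51, 62, 52, 63] = true := by decide +kernel
theorem t137 : chk 56 [(51, 62, -1), (52, 63, -1)] [51, 62, 52, 63] = true := by decide +kernel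
theorem t138 : chk 15 [(62, 51, -1), (63, 52, -1)] [51, 62, 52, 63] = true := by decide +kernel
theorem t139 : chk 36 [(51, 52, 1), (62, 63, 1)] [51, 62, 52, 63] = true := by decide +kernel
theorem t140 : chk 35 [(52, 51, 1), (63, 62, 1)] [51, 62, 52, 63] = true := by decide +kernel

theorem n5_51 (t : K) : n5 K * X 51 t * (n5 K)⁻¹ = X 63 (-t) := by
  obtain ⟨H1, H2⟩ := conj3 t139 t140 1 (-1) 1 (w := [(51, t)]) (by simp [In])
  obtain ⟨H3, H4⟩ := conj3 t137 t138 1 (-1) 1 H2
  have e : n5 K * W [(51, t)] * (n5 K)⁻¹ = X 56 1 * (X 15 (-1) * X 56 1) * (X 36 1 * (X 35 (-1) * X 36 1) *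
      W [(51, t)] * (X 36 1 * (X 35 (-1) * X 36 1))⁻¹) * (X 56 1 * (X 15 (-1) * X 56 1))⁻¹ := by
    rw [n5]; group
  rw [← W_single, ← W_single, e, H1, H3]
  refine W_eq t136 (by decide) H4 (by simp [In]) ?_
  simp only [List.forall_mem_cons]
  refine ⟨?_, ?_, ?_, ?_, ?_⟩
  all_goals simp [co, cw, ft]
  all_goals try ring

theorem t141 : comL [53, 64, 54, 65] = true := by decide +kernel
theorem t142 : chk 56 [(53, 64, -1), (54, 65, -1)] [53, 64, 54, 65] = true := by decide +kernel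
theorem t143 : chk 15 [(64, 53, -1), (65, 54, -1)] [53, 64, 54, 65] = true := by decide +kernel
theorem t144 : chk 36 [(53, 54, 1), (64, 65, 1)] [53, 64, 54, 65] = true := by decide +kernel
theorem t145 : chk 35 [(54, 53, 1), (65, 64, 1)] [53, 64, 54, 65] = true := by decide +kernel

theorem n5_53 (t : K) : n5 K * X 53 t * (n5 K)⁻¹ = X 65 (-t) := by
  obtain ⟨H1, H2⟩ := conj3 t144 t145 1 (-1) 1 (w := [(53, t)]) (by simp [In])
  obtain ⟨H3, H4⟩ := conj3 t142 t143 1 (-1) 1 H2
  have e : n5 K * W [(53, t)] * (n5 K)⁻¹ = X 56 1 * (X 15 (-1) * X 56 1) * (X 36 1 * (X 35 (-1) * X 36 1) *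
      W [(53, t)] * (X 36 1 * (X 35 (-1) * X 36 1))⁻¹) * (X 56 1 * (X 15 (-1) * X 56 1))⁻¹ := by
    rw [n5]; group
  rw [← W_single, ← W_single, e, H1, H3]
  refine W_eq t141 (by decide) H4 (by simp [In]) ?_
  simp only [List.forall_mem_cons]
  refine ⟨?_, ?_, ?_, ?_, ?_⟩
  all_goals simp [co, cw, ft]
  all_goals try ring


theorem n5_69 (t : K) : n5 K * X 69 t * (n5 K)⁻¹ = X 69 t := by
  have h (r : ℕ) (hr : com r 69 = true) (u : K) : Commute (X r u) (X 69 t) := commute_of_com hr u t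
  have h1 := h 56 (by decide +kernel)
  have h2 := h 15 (by decide +kernel)
  have h3 := h 36 (by decide +kernel)
  have h4 := h 35 (by decide +kernel)
  have e : Commute (n5 K) (X 69 t) :=
    ((h1 1).mul_left ((h2 (-1)).mul_left (h1 1))).mul_left ((h3 1).mul_left ((h4 (-1)).mul_left (h3 1)))
  rw [e.eq, mul_inv_cancel_right]


theorem n5_70 (t : K) : n5 K * X 70 t * (n5 K)⁻¹ = X 70 t := by
  have h (r : ℕ) (hr : com r 70 = true) (u : K) : Commute (X r u) (X 70 t) := commute_of_com hr u t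
  have h1 := h 56 (by decide +kernel)
  have h2 := h 15 (by decide +kernel)
  have h3 := h 36 (by decide +kernel)
  have h4 := h 35 (by decide +kernel)
  have e : Commute (n5 K) (X 70 t) :=
    ((h1 1).mul_left ((h2 (-1)).mul_left (h1 1))).mul_left ((h3 1).mul_left ((h4 (-1)).mul_left (h3 1)))
  rw [e.eq, mul_inv_cancel_right]


theorem n5_71 (t : K) : n5 K * X 71 t * (n5 K)⁻¹ = X 71 t := by
  have h (r : ℕ) (hr : com r 71 = true) (u : K) : Commute (X r u) (X 71 t) := commute_of_com hr u t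
  have h1 := h 56 (by decide +kernel)
  have h2 := h 15 (by decide +kernel)
  have h3 := h 36 (by decide +kernel)
  have h4 := h 35 (by decide +kernel)
  have e : Commute (n5 K) (X 71 t) :=
    ((h1 1).mul_left ((h2 (-1)).mul_left (h1 1))).mul_left ((h3 1).mul_left ((h4 (-1)).mul_left (h3 1)))
  rw [e.eq, mul_inv_cancel_right]


end Cfsg.Agent.H121.E6R
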