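import Cfsg.Agent.H121.Chr
import Cfsg.Agent.SplitTwo.HexDefs

/-!
# Lower bounds for the degrees of complex representations of groups with the relations of a hexagonal root system

`HexAux σ x₁ … x₆ n h`: the positive relations of `G₂` type over a finite field `E` with an automorphism `σ`, `σ³ = 1`,
with fixed field `F` of order `q`, an element `n` swapping the long root groups `2, 4`, and a torus element `h`.

`main`: if `ρ (x₄ 1) ≠ 1` then the degree of `ρ` is at least `(q² - 1) * |E| + (q - 1)`.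

The weights of `X₂ X₃ X₄` which are nontrivial on `X₂ X₄` are conjugate, so `(q² - 1) * |E|` divides the dimension of
the sum of their weight spaces; if their multiplicity is one then the trace of `x₆ u` on this sum is computable
(a cubic sum), and comparison with the trace of `x₄ u` gives the trace of `x₆ u` on the fixed points of `X₂ X₄`.
-/

set_option autoImplicit false
set_option linter.unusedSectionVars false

namespace Cfsg.Agent.H121.HexMin

open Module Cfsg.Agent.H121.Wt Cfsg.Agent.H121.Chr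
open Cfsg.Agent.SplitTwo (HexRel trc shp crs nrm kk)

/-! ### General lemmas -/

section Gen

variable {A : Type*} [AddCommGroup A] [Fintype A] {V : Type*} [AddCommGroup V] [Module ℂ V]
  {G : Type*} [Group G] (ρ : Representation ℂ G V)

/-- elements normalising the family permute the projections -/
theorem map_pr {x : A → G} {g : G} {f : A → A} (hg : ∀ a, g * x a = x (f a) * g)
    (hf : Function.Bijective f) {χ χ' : AddChar A ℂ} (hχ : ∀ a, χ' (f a) = χ a) :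
    ρ g * pr (fun a => ρ (x a)) χ = pr (fun a => ρ (x a)) χ' * ρ g := by
  rw [pr, pr, mul_smul_comm, smul_mul_assoc, Finset.mul_sum, Finset.sum_mul]
  congr 1
  refine Fintype.sum_bijective f hf _ _ fun a => ?_
  rw [mul_smul_comm, smul_mul_assoc, ← map_mul, hg, map_mul]
  congr 1
  rw [AddChar.map_neg_eq_inv, AddChar.map_neg_eq_inv, hχ]

theorem kk_eq {a b c : G} (h : kk a b = c) : a * b = b * a * c := by
  rw [← h, kk]; group

end Gen

/-! ### The fixed field -/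

section Fix

variable {E : Type*} [Field E] (σ : E ≃+* E)

/-- the fixed field -/
def fx : Subfield E where
  carrier := {t | σ t = t}
  mul_mem' := by intro a b ha hb; rw [Set.mem_ofPred_eq] at *; rw [map_mul, ha, hb]
  one_mem' := map_one σ
  add_mem' := by intro a b ha hb; rw [Set.mem_ofPred_eq] at *; rw [map_add, ha, hb]
  zero_mem' := map_zero σ
  neg_mem' := by intro a ha; rw [Set.mem_ofPred_eq] at *; rw [map_neg, ha]
  inv_mem' := by intro a ha; rw [Set.mem_ofPred_eq] at *; rw [map_inv₀, ha]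

theorem mem_fx {t : E} : t ∈ fx σ ↔ σ t = t := Iff.rfl

theorem coe_fx (t : fx σ) : σ (t : E) = t := t.2

/-- the trace form with values in the fixed field -/
def tr (h3 : ∀ a, σ (σ (σ a)) = a) (a b : E) : fx σ :=
  ⟨trc σ a b, by rw [mem_fx, trc, map_add, map_add, h3]; ring⟩

/-- the norm with values in the fixed field -/
def nm (h3 : ∀ a, σ (σ (σ a)) = a) (a : E) : fx σ :=
  ⟨nrm σ a, by rw [mem_fx, nrm, map_mul, map_mul, h3]; ring⟩

variable {σ}

theorem tr_add (h3 : ∀ a, σ (σ (σ a)) = a) (a b c : E) : tr σ h3 a (b + c) = tr σ h3 a b + tr σ h3 a c := by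
  apply Subtype.ext
  simp only [tr, trc, Subfield.coe_add, mul_add, map_add]
  ring

theorem tr_comm (h3 : ∀ a, σ (σ (σ a)) = a) (a b : E) : tr σ h3 a b = tr σ h3 b a := by
  apply Subtype.ext
  simp only [tr, trc, mul_comm a b]

theorem tr_zero (h3 : ∀ a, σ (σ (σ a)) = a) (a : E) : tr σ h3 a 0 = 0 := by
  apply Subtype.ext
  simp [tr, trc]

theorem tr_smul (h3 : ∀ a, σ (σ (σ a)) = a) (a b : E) (t : fx σ) : tr σ h3 a (t * b) = t * tr σ h3 a b := by
  apply Subtype.ext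
  simp only [tr, trc, Subfield.coe_mul, map_mul, coe_fx]
  ring

theorem tr_sub_left (h3 : ∀ a, σ (σ (σ a)) = a) (a b c : E) : tr σ h3 (a - b) c = tr σ h3 a c - tr σ h3 b c := by
  apply Subtype.ext
  simp only [tr, trc, Subfield.coe_sub, sub_mul, map_sub]
  ring

theorem nm_eq_zero (h3 : ∀ a, σ (σ (σ a)) = a) {a : E} : nm σ h3 a = 0 ↔ a = 0 := by
  constructor
  · intro h
    have h1 : nrm σ a = 0 := congrArg Subtype.val h
    rw [nrm, mul_eq_zero, mul_eq_zero] at h1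
    rcases h1 with (h1 | h1) | h1
    · exact h1
    · exact (map_eq_zero σ).mp h1
    · exact (map_eq_zero σ).mp ((map_eq_zero σ).mp h1)
  · rintro rfl
    apply Subtype.ext
    simp [nm, nrm]

/-- the character `b ↦ λ (tr (a b))` -/
def tc (h3 : ∀ a, σ (σ (σ a)) = a) (l : AddChar (fx σ) ℂ) (a : E) : AddChar E ℂ where
  toFun b := l (tr σ h3 a b)
  map_zero_eq_one' := by rw [tr_zero, AddChar.map_zero_eq_one]
  map_add_eq_mul' b c := by rw [tr_add, AddChar.map_add_eq_mul]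

theorem tc_apply (h3 : ∀ a, σ (σ (σ a)) = a) (l : AddChar (fx σ) ℂ) (a b : E) :
    tc h3 l a b = l (tr σ h3 a b) := rfl

theorem tc_bijective [Finite E] (h3 : ∀ a, σ (σ (σ a)) = a) (hnd : ∀ a : E, a ≠ 0 → ∃ b, trc σ a b ≠ 0)
    {l : AddChar (fx σ) ℂ} (hl : l ≠ 1) : Function.Bijective (tc h3 l) := by
  classical
  have := Fintype.ofFinite E
  have hinj : Function.Injective (tc h3 l) := by
    intro a b hab
    by_contra hne
    obtain ⟨c, hc⟩ := hnd (a - b) (sub_ne_zero.mpr hne)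
    have hc' : tr σ h3 (a - b) c ≠ 0 := fun h => hc (congrArg Subtype.val h)
    apply hl
    apply DFunLike.ext
    intro t
    have h1 : l (tr σ h3 (a - b) ((t / tr σ h3 (a - b) c : fx σ) * c)) = 1 := by
      rw [tr_sub_left, sub_eq_add_neg, AddChar.map_add_eq_mul, AddChar.map_neg_eq_inv, ← tc_apply, ← tc_apply, hab]
      exact mul_inv_cancel₀ (ne_zero' _ _)
    rw [tr_smul, div_mul_cancel₀ _ hc'] at h1
    rw [h1, AddChar.one_apply]
  exact (Fintype.bijective_iff_injective_and_card _).mpr ⟨hinj, (card_addChar E).symm⟩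

end Fix

/-! ### The data -/

variable {E : Type*} [Field E] {σ : E ≃+* E} {G : Type*} [Group G] {x1 x2 x3 x4 x5 x6 : E → G} {n h : G}

/-- the positive relations with an element swapping the long root groups 2, 4 and a torus element -/
structure HexAux (σ : E ≃+* E) (x1 x2 x3 x4 x5 x6 : E → G) (n h : G) : Prop where
  rel : HexRel σ x1 x2 x3 x4 x5 x6
  nondeg : ∀ a : E, a ≠ 0 → ∃ b, trc σ a b ≠ 0
  n2 : ∃ e : E, σ e = e ∧ e ≠ 0 ∧ ∀ s, σ s = s → n * x2 s = x4 (e * s) * n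
  n3 : ∃ f : E ≃+ E, ∀ a, n * x3 a = x3 (f a) * n
  n4 : ∃ e : E, σ e = e ∧ e ≠ 0 ∧ ∀ s, σ s = s → n * x4 s = x2 (e * s) * n
  conj : ∀ u, σ u = u → u ≠ 0 → ∃ u', σ u' = u' ∧ u' ≠ 0 ∧ IsConj (x6 u) (x4 u')
  h2 : ∀ s, σ s = s → h * x2 s = x2 s * h
  h3 : ∃ f : E ≃+ E, ∀ a, h * x3 a = x3 (f a) * h
  h4 : ∃ e : E, σ e = e ∧ e ≠ 0 ∧ ∀ s, σ s = s → h * x4 s = x4 (e * s) * h
  h5 : ∃ c : E, c ≠ 1 ∧ ∀ a, h * x5 a = x5 (c * a) * h
  h6 : Nat.card (fx σ) = 2 ∨ ∃ s : E, σ s = s ∧ s ≠ 1 ∧ ∀ u, σ u = u → h * x6 u = x6 (s * u) * h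

/-- the abelian group `X₂ X₃ X₄` -/
def xx (x2 x3 x4 : E → G) (p : fx σ × E × fx σ) : G := x2 p.1 * (x3 p.2.1 * x4 p.2.2)

section Rel

variable (D : HexRel σ x1 x2 x3 x4 x5 x6)

include D

theorem c23 (s : fx σ) (a : E) : x2 (s : E) * x3 a = x3 a * x2 (s : E) := by
  rw [kk_eq (D.c23 s a s.2), mul_one]

theorem c24 (s t : fx σ) : x2 (s : E) * x4 (t : E) = x4 (t : E) * x2 (s : E) := by
  rw [kk_eq (D.c24 s t s.2 t.2), mul_one]

theorem c34 (a : E) (t : fx σ) : x3 a * x4 (t : E) = x4 (t : E) * x3 a := by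
  rw [kk_eq (D.c34 a t t.2), mul_one]

theorem xx_add (p r : fx σ × E × fx σ) : xx (σ := σ) x2 x3 x4 (p + r) = xx x2 x3 x4 p * xx x2 x3 x4 r := by
  obtain ⟨s, a, t⟩ := p
  obtain ⟨s', a', t'⟩ := r
  simp only [xx, Prod.mk_add_mk, Subfield.coe_add]
  rw [D.add2 _ _ s.2 s'.2, D.add3, D.add4 _ _ t.2 t'.2]
  calc x2 s * x2 s' * (x3 a * x3 a' * (x4 t * x4 t')) = x2 s * (x2 s' * x3 a) * (x3 a' * x4 t) * x4 t' := by group
    _ = x2 s * (x3 a * x2 s') * (x4 t * x3 a') * x4 t' := by rw [c23 D, c34 D]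
    _ = x2 s * x3 a * (x2 s' * x4 t) * x3 a' * x4 t' := by group
    _ = x2 s * x3 a * (x4 t * x2 s') * x3 a' * x4 t' := by rw [c24 D]
    _ = _ := by group

theorem g1 (h3 : ∀ a, σ (σ (σ a)) = a) (c : E) (p : fx σ × E × fx σ) :
    x1 c * xx x2 x3 x4 p = xx x2 x3 x4 (p.1 + tr σ h3 c p.2.1, p.2.1, p.2.2) * x1 c := by
  obtain ⟨s, a, t⟩ := p
  simp only [xx, Subfield.coe_add]
  have e12 : ∀ s : fx σ, x1 c * x2 s = x2 s * x1 c := fun s => by rw [kk_eq (D.c12 c s s.2), mul_one]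
  have e14 : x1 c * x4 t = x4 t * x1 c := by rw [kk_eq (D.c14 c t t.2), mul_one]
  have e13 : x1 c * x3 a = x3 a * x1 c * x2 (tr σ h3 c a : E) := kk_eq (D.c13 c a)
  rw [D.add2 _ _ s.2 (tr σ h3 c a).2]
  calc x1 c * (x2 s * (x3 a * x4 t)) = (x1 c * x2 s) * (x3 a * x4 t) := by group
    _ = x2 s * (x1 c * x3 a) * x4 t := by rw [e12]; group
    _ = x2 s * x3 a * (x1 c * x2 (tr σ h3 c a : E)) * x4 t := by rw [e13]; group
    _ = x2 s * (x3 a * x2 (tr σ h3 c a : E)) * (x1 c * x4 t) := by rw [e12]; group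
    _ = x2 s * (x2 (tr σ h3 c a : E) * x3 a) * (x4 t * x1 c) := by rw [e14, c23 D]
    _ = _ := by group

theorem g5 (h3 : ∀ a, σ (σ (σ a)) = a) (c : E) (p : fx σ × E × fx σ) :
    x5 c * xx x2 x3 x4 p = xx x2 x3 x4 (p.1, p.2.1, p.2.2 - tr σ h3 p.2.1 c) * x5 c := by
  obtain ⟨s, a, t⟩ := p
  simp only [xx, sub_eq_add_neg, Subfield.coe_add]
  have e25 : x2 s * x5 c = x5 c * x2 s := by rw [kk_eq (D.c25 s c s.2), mul_one]
  have e45 : ∀ t : fx σ, x4 t * x5 c = x5 c * x4 t := fun t => by rw [kk_eq (D.c45 t c t.2), mul_one]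
  have e35 : x3 a * x5 c = x5 c * x3 a * x4 (tr σ h3 a c : E) := kk_eq (D.c35 a c)
  have hneg : x4 ((-(tr σ h3 a c) : fx σ) : E) = (x4 (tr σ h3 a c : E))⁻¹ := by
    rw [eq_inv_iff_mul_eq_one, ← D.add4 _ _ (-(tr σ h3 a c)).2 (tr σ h3 a c).2]
    rw [← Subfield.coe_add, neg_add_cancel]
    have := D.add4 0 0 (map_zero σ) (map_zero σ)
    rw [add_zero] at this
    rw [Subfield.coe_zero]
    exact (mul_eq_left.mp this.symm)
  rw [D.add4 _ _ t.2 (-(tr σ h3 a c)).2, hneg]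
  have e35' : x5 c * x3 a = x3 a * x5 c * (x4 (tr σ h3 a c : E))⁻¹ := by rw [e35]; group
  have e45' : x5 c * (x4 (tr σ h3 a c : E))⁻¹ = (x4 (tr σ h3 a c : E))⁻¹ * x5 c := by
    rw [← hneg]; exact (e45 _).symm
  have e4 : (x4 (tr σ h3 a c : E))⁻¹ * x4 t = x4 t * (x4 (tr σ h3 a c : E))⁻¹ := by
    rw [← hneg, ← D.add4 _ _ (-(tr σ h3 a c)).2 t.2, add_comm, D.add4 _ _ t.2 (-(tr σ h3 a c)).2]
  calc x5 c * (x2 s * (x3 a * x4 t)) = (x5 c * x2 s) * (x3 a * x4 t) := by group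
    _ = x2 s * (x5 c * x3 a) * x4 t := by rw [← e25]; group
    _ = x2 s * x3 a * (x5 c * (x4 (tr σ h3 a c : E))⁻¹) * x4 t := by rw [e35']; group
    _ = x2 s * x3 a * (x4 (tr σ h3 a c : E))⁻¹ * (x5 c * x4 t) := by rw [e45']; group
    _ = x2 s * x3 a * ((x4 (tr σ h3 a c : E))⁻¹ * x4 t) * x5 c := by rw [← e45]; group
    _ = _ := by rw [e4]; group

theorem g6 (u : fx σ) (p : fx σ × E × fx σ) :
    x6 u * xx x2 x3 x4 p = xx x2 x3 x4 (p.1, p.2.1, p.2.2 - p.1 * u) * x6 u := by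
  obtain ⟨s, a, t⟩ := p
  simp only [xx, sub_eq_add_neg, Subfield.coe_add]
  have e36 : x3 a * x6 u = x6 u * x3 a := by rw [kk_eq (D.c36 a u u.2), mul_one]
  have e46 : ∀ t : fx σ, x4 t * x6 u = x6 u * x4 t := fun t => by rw [kk_eq (D.c46 t u t.2 u.2), mul_one]
  have e26 : x2 s * x6 u = x6 u * x2 s * x4 ((s * u : fx σ) : E) := kk_eq (D.c26 s u s.2 u.2)
  have hneg : x4 ((-(s * u) : fx σ) : E) = (x4 ((s * u : fx σ) : E))⁻¹ := by
    rw [eq_inv_iff_mul_eq_one, ← D.add4 _ _ (-(s * u)).2 (s * u).2]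
    rw [← Subfield.coe_add, neg_add_cancel]
    have := D.add4 0 0 (map_zero σ) (map_zero σ)
    rw [add_zero] at this
    rw [Subfield.coe_zero]
    exact (mul_eq_left.mp this.symm)
  rw [D.add4 _ _ t.2 (-(s * u)).2, hneg]
  have e26' : x6 u * x2 s = x2 s * x6 u * (x4 ((s * u : fx σ) : E))⁻¹ := by rw [e26]; group
  have e46' : x6 u * (x4 ((s * u : fx σ) : E))⁻¹ = (x4 ((s * u : fx σ) : E))⁻¹ * x6 u := by
    rw [← hneg]; exact (e46 _).symm
  have e34' : (x4 ((s * u : fx σ) : E))⁻¹ * x3 a = x3 a * (x4 ((s * u : fx σ) : E))⁻¹ := by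
    rw [← hneg]; exact (c34 D a _).symm
  have e4 : (x4 ((s * u : fx σ) : E))⁻¹ * x4 t = x4 t * (x4 ((s * u : fx σ) : E))⁻¹ := by
    rw [← hneg, ← D.add4 _ _ (-(s * u)).2 t.2, add_comm, D.add4 _ _ t.2 (-(s * u)).2]
  calc x6 u * (x2 s * (x3 a * x4 t)) = (x6 u * x2 s) * (x3 a * x4 t) := by group
    _ = x2 s * (x6 u * (x4 ((s * u : fx σ) : E))⁻¹) * x3 a * x4 t := by rw [e26']; group
    _ = x2 s * (x4 ((s * u : fx σ) : E))⁻¹ * (x6 u * x3 a) * x4 t := by rw [e46']; group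
    _ = x2 s * ((x4 ((s * u : fx σ) : E))⁻¹ * x3 a) * (x6 u * x4 t) := by rw [← e36]; group
    _ = x2 s * (x3 a * (x4 ((s * u : fx σ) : E))⁻¹) * (x4 t * x6 u) := by rw [← e46, e34']
    _ = x2 s * x3 a * ((x4 ((s * u : fx σ) : E))⁻¹ * x4 t) * x6 u := by group
    _ = _ := by rw [e4]; group

end Rel

end Cfsg.Agent.H121.HexMin
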