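import Cfsg.Agent.H121.Quad

/-!
# Orthogonal spaces of minus type: transitivity

`VV ι σ = (ι → F × F) × K` with the quadratic form `Q (p, z) = ∑ xᵢ yᵢ + N z`; the maps `rp i u`, `rm i u` (Siegel
transformations). `const`: a function invariant under all `rp i u`, `rm i u` is constant on the sets
`{v ≠ 0 | Q v = c}`.
-/

set_option autoImplicit false
set_option linter.unusedSectionVars false

namespace Cfsg.Agent.H121.Orth

open Cfsg.Agent.H121.HexMin (fx mem_fx coe_fx)
open Cfsg.Agent.H121.Quad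

variable {K : Type*} [Field K]

/-- the space -/
abbrev VV (ι : Type*) (σ : K ≃+* K) : Type _ := (ι → fx σ × fx σ) × K

variable {σ : K ≃+* K} [Inv σ] {ι : Type*} [Fintype ι] [DecidableEq ι]

/-- the form of a hyperbolic plane -/
def hb (a b : fx σ × fx σ) : fx σ := a.1 * b.2 + a.2 * b.1

/-- the quadratic form -/
def Q (v : VV ι σ) : fx σ := ∑ i, (v.1 i).1 * (v.1 i).2 + N σ v.2

/-- the polar form -/
def B (v w : VV ι σ) : fx σ := ∑ i, hb (v.1 i) (w.1 i) + T σ (v.2 * σ w.2)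

/-- the transformation `rp i u` -/
def rp (i : ι) (u : K) (v : VV ι σ) : VV ι σ :=
  (Function.update v.1 i ((v.1 i).1 - T σ (v.2 * σ u) - N σ u * (v.1 i).2, (v.1 i).2), v.2 + (v.1 i).2 * u)

/-- the transformation `rm i u` -/
def rm (i : ι) (u : K) (v : VV ι σ) : VV ι σ :=
  (Function.update v.1 i ((v.1 i).1, (v.1 i).2 - T σ (v.2 * σ u) - N σ u * (v.1 i).1), v.2 + (v.1 i).1 * u)

theorem sum_update {X M : Type*} [AddCommGroup M] (g : X → X → M) (v w : ι → X) (i : ι) (a b : X) :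
    ∑ j, g (Function.update v i a j) (Function.update w i b j) = ∑ j, g (v j) (w j) + (g a b - g (v i) (w i)) := by
  rw [← Finset.add_sum_erase _ _ (Finset.mem_univ i), ← Finset.add_sum_erase _ _ (Finset.mem_univ i)]
  rw [Function.update_self, Function.update_self]
  have : ∑ j ∈ Finset.univ.erase i, g (Function.update v i a j) (Function.update w i b j) =
      ∑ j ∈ Finset.univ.erase i, g (v j) (w j) := by
    refine Finset.sum_congr rfl fun j hj => ?_
    rw [Finset.mem_erase] at hj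
    rw [Function.update_of_ne hj.1, Function.update_of_ne hj.1]
  rw [this]
  abel

theorem Q_rp (i : ι) (u : K) (v : VV ι σ) : Q (rp i u v) = Q v := by
  unfold Q rp
  have h := sum_update (fun a _ : fx σ × fx σ => a.1 * a.2) v.1 v.1 i
    ((v.1 i).1 - T σ (v.2 * σ u) - N σ u * (v.1 i).2, (v.1 i).2)
    ((v.1 i).1 - T σ (v.2 * σ u) - N σ u * (v.1 i).2, (v.1 i).2)
  dsimp only at h ⊢
  rw [h, N_add, N_smul, map_mul, coe_fx]
  have e : v.2 * ((v.1 i).2 * σ u) = (v.1 i).2 * (v.2 * σ u) := by ring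
  rw [e, T_smul]
  ring

theorem Q_rm (i : ι) (u : K) (v : VV ι σ) : Q (rm i u v) = Q v := by
  unfold Q rm
  have h := sum_update (fun a _ : fx σ × fx σ => a.1 * a.2) v.1 v.1 i
    ((v.1 i).1, (v.1 i).2 - T σ (v.2 * σ u) - N σ u * (v.1 i).1)
    ((v.1 i).1, (v.1 i).2 - T σ (v.2 * σ u) - N σ u * (v.1 i).1)
  dsimp only at h ⊢
  rw [h, N_add, N_smul, map_mul, coe_fx]
  have e : v.2 * ((v.1 i).1 * σ u) = (v.1 i).1 * (v.2 * σ u) := by ring
  rw [e, T_smul]
  ring

theorem polar (v w : VV ι σ) : Q (v + w) = Q v + Q w + B v w := by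
  unfold Q B hb
  simp only [Prod.fst_add, Prod.snd_add, Pi.add_apply, N_add]
  have : ∑ i, ((v.1 i).1 + (w.1 i).1) * ((v.1 i).2 + (w.1 i).2) =
      ∑ i, (v.1 i).1 * (v.1 i).2 + ∑ i, (w.1 i).1 * (w.1 i).2 +
        ∑ i, ((v.1 i).1 * (w.1 i).2 + (v.1 i).2 * (w.1 i).1) := by
    rw [← Finset.sum_add_distrib, ← Finset.sum_add_distrib]
    exact Finset.sum_congr rfl fun i _ => by ring
  rw [this]
  ring

theorem B_eq (v w : VV ι σ) : B v w = Q (v + w) - Q v - Q w := by rw [polar]; ring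

theorem rp_add (i : ι) (u : K) (v w : VV ι σ) : rp i u (v + w) = rp i u v + rp i u w := by
  unfold rp
  refine Prod.ext ?_ ?_
  · funext j
    by_cases hj : j = i
    · subst hj
      simp only [Prod.fst_add, Prod.snd_add, Pi.add_apply, Function.update_self, add_mul, T_add]
      refine Prod.ext ?_ rfl
      simp only [Prod.fst_add]
      ring
    · simp [Function.update_of_ne hj]
  · simp only [Prod.fst_add, Prod.snd_add, Pi.add_apply, Subfield.coe_add]
    ring

theorem rm_add (i : ι) (u : K) (v w : VV ι σ) : rm i u (v + w) = rm i u v + rm i u w := by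
  unfold rm
  refine Prod.ext ?_ ?_
  · funext j
    by_cases hj : j = i
    · subst hj
      simp only [Prod.fst_add, Prod.snd_add, Pi.add_apply, Function.update_self, add_mul, T_add]
      refine Prod.ext rfl ?_
      simp only [Prod.snd_add]
      ring
    · simp [Function.update_of_ne hj]
  · simp only [Prod.fst_add, Prod.snd_add, Pi.add_apply, Subfield.coe_add]
    ring

theorem B_rp (i : ι) (u : K) (v w : VV ι σ) : B (rp i u v) (rp i u w) = B v w := by
  rw [B_eq, B_eq, ← rp_add, Q_rp, Q_rp, Q_rp]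

theorem B_rm (i : ι) (u : K) (v w : VV ι σ) : B (rm i u v) (rm i u w) = B v w := by
  rw [B_eq, B_eq, ← rm_add, Q_rm, Q_rm, Q_rm]

theorem B_comm (v w : VV ι σ) : B v w = B w v := by
  rw [B_eq, B_eq, add_comm]; ring

theorem B_add (v w w' : VV ι σ) : B v (w + w') = B v w + B v w' := by
  unfold B
  simp only [Prod.fst_add, Prod.snd_add, Pi.add_apply, map_add, mul_add, T_add]
  have : ∑ i, hb (v.1 i) (w.1 i + w'.1 i) = ∑ i, hb (v.1 i) (w.1 i) + ∑ i, hb (v.1 i) (w'.1 i) := by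
    rw [← Finset.sum_add_distrib]
    refine Finset.sum_congr rfl fun i _ => ?_
    simp only [hb, Prod.fst_add, Prod.snd_add]
    ring
  rw [this]
  ring

theorem rp_neg_rp (i : ι) (u : K) (v : VV ι σ) : rp i (-u) (rp i u v) = v := by
  unfold rp
  refine Prod.ext ?_ ?_
  · simp only [Function.update_self, Function.update_idem]
    rw [Function.update_eq_self_iff]
    refine Prod.ext ?_ rfl
    simp only [map_neg, mul_neg, T_neg, N_neg, add_mul, T_add]
    have : ((v.1 i).2 : K) * u * σ u = ((v.1 i).2 * N σ u : fx σ) := by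
      rw [Subfield.coe_mul, coe_N]; ring
    rw [this]
    have h2 := T_coe (σ := σ) ((v.1 i).2 * N σ u)
    rw [h2]
    ring
  · simp only [Function.update_self]
    ring

theorem rm_neg_rm (i : ι) (u : K) (v : VV ι σ) : rm i (-u) (rm i u v) = v := by
  unfold rm
  refine Prod.ext ?_ ?_
  · simp only [Function.update_self, Function.update_idem]
    rw [Function.update_eq_self_iff]
    refine Prod.ext rfl ?_
    simp only [map_neg, mul_neg, T_neg, N_neg, add_mul, T_add]
    have : ((v.1 i).1 : K) * u * σ u = ((v.1 i).1 * N σ u : fx σ) := by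
      rw [Subfield.coe_mul, coe_N]; ring
    rw [this]
    have h2 := T_coe (σ := σ) ((v.1 i).1 * N σ u)
    rw [h2]
    ring
  · simp only [Function.update_self]
    ring

theorem rp_bijective (i : ι) (u : K) : Function.Bijective (rp i u : VV ι σ → VV ι σ) :=
  ⟨fun v w h => by rw [← rp_neg_rp i u v, h, rp_neg_rp], fun v => ⟨rp i (-u) v, by
    have := rp_neg_rp i (-u) v
    rwa [neg_neg] at this⟩⟩

theorem rm_bijective (i : ι) (u : K) : Function.Bijective (rm i u : VV ι σ → VV ι σ) :=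
  ⟨fun v w h => by rw [← rm_neg_rm i u v, h, rm_neg_rm], fun v => ⟨rm i (-u) v, by
    have := rm_neg_rm i (-u) v
    rwa [neg_neg] at this⟩⟩

/-! ### Transitivity -/

section Trans

variable {α : Type*} {f : VV ι σ → α} (hp : ∀ i u v, f (rp i u v) = f v) (hm : ∀ i u v, f (rm i u v) = f v)

include hp hm

/-- make `z = 0` -/
theorem stepZ (i : ι) (v : VV ι σ) (hv : (v.1 i).1 ≠ 0) : ∃ w : VV ι σ, f w = f v ∧ Q w = Q v ∧ (w.1 i).1 = (v.1 i).1 ∧
    w.2 = 0 ∧ ∀ j, j ≠ i → w.1 j = v.1 j := by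
  refine ⟨rm i (-(v.2 / (v.1 i).1)) v, hm _ _ _, Q_rm _ _ _, ?_, ?_, ?_⟩
  · simp [rm]
  · simp only [rm]
    have : ((v.1 i).1 : K) ≠ 0 := fun h => hv (Subtype.ext h)
    field_simp
    ring
  · intro j hj
    simp [rm, Function.update_of_ne hj]

variable (hne : ∃ a : K, σ a ≠ a) (hN : ∀ c : fx σ, ∃ x : K, N σ x = c)

include hne hN

/-- clear the coordinates `j` -/
theorem clear (i j : ι) (hij : j ≠ i) (v : VV ι σ) (hv : (v.1 i).1 ≠ 0) (hz : v.2 = 0) : ∃ w : VV ι σ, f w = f v ∧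
    Q w = Q v ∧ (w.1 i).1 = (v.1 i).1 ∧ w.2 = 0 ∧ w.1 j = 0 ∧ ∀ k, k ≠ i → k ≠ j → w.1 k = v.1 k := by
  -- the case `y j = 0`
  have main1 : ∀ v : VV ι σ, (v.1 i).1 ≠ 0 → v.2 = 0 → (v.1 j).2 = 0 → ∃ w : VV ι σ, f w = f v ∧
    Q w = Q v ∧ (w.1 i).1 = (v.1 i).1 ∧ w.2 = 0 ∧ w.1 j = 0 ∧ ∀ k, k ≠ i → k ≠ j → w.1 k = v.1 k := by
    intro v hv hz hy
    have hv' : ((v.1 i).1 : K) ≠ 0 := fun h => hv (Subtype.ext h)
    obtain ⟨u, hu⟩ := exists_T_mul_eq hne hv' (v.1 j).1
    have hf1 := hp j u (rm i 1 v)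
    have hQ1 := Q_rp j u (rm i 1 v)
    obtain ⟨w, h1, h2, h3, h4, h5⟩ := stepZ hp hm i (rp j u (rm i 1 v)) (by
      simp only [rp, rm]
      rw [Function.update_of_ne hij.symm, Function.update_self]
      exact hv)
    refine ⟨w, by rw [h1, hf1, hm], by rw [h2, hQ1, Q_rm], ?_, h4, ?_, ?_⟩
    · rw [h3]
      simp [rp, rm, Function.update_of_ne hij.symm]
    · rw [h5 j hij]
      simp only [rp, rm, Function.update_self, Function.update_of_ne hij, hz, zero_add, mul_one, hu, hy, mul_zero,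
        sub_self]
      rfl
    · intro k hk hkj
      rw [h5 k hk]
      simp [rp, rm, Function.update_of_ne hk, Function.update_of_ne hkj]
  have main2 : ∀ v : VV ι σ, (v.1 i).1 ≠ 0 → v.2 = 0 → (v.1 j).1 = 0 → ∃ w : VV ι σ, f w = f v ∧
    Q w = Q v ∧ (w.1 i).1 = (v.1 i).1 ∧ w.2 = 0 ∧ w.1 j = 0 ∧ ∀ k, k ≠ i → k ≠ j → w.1 k = v.1 k := by
    intro v hv hz hy
    have hv' : ((v.1 i).1 : K) ≠ 0 := fun h => hv (Subtype.ext h)
    obtain ⟨u, hu⟩ := exists_T_mul_eq hne hv' (v.1 j).2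
    have hf1 := hm j u (rm i 1 v)
    have hQ1 := Q_rm j u (rm i 1 v)
    obtain ⟨w, h1, h2, h3, h4, h5⟩ := stepZ hp hm i (rm j u (rm i 1 v)) (by
      simp only [rm]
      rw [Function.update_of_ne hij.symm, Function.update_self]
      exact hv)
    refine ⟨w, by rw [h1, hf1, hm], by rw [h2, hQ1, Q_rm], ?_, h4, ?_, ?_⟩
    · rw [h3]
      simp [rm, Function.update_of_ne hij.symm]
    · rw [h5 j hij]
      simp only [rm, Function.update_self, Function.update_of_ne hij, hz, zero_add, mul_one, hu, hy, mul_zero,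
        sub_self]
      rfl
    · intro k hk hkj
      rw [h5 k hk]
      simp [rm, Function.update_of_ne hk, Function.update_of_ne hkj]
  by_cases hy : (v.1 j).2 = 0
  · exact main1 v hv hz hy
  · have hy' : ((v.1 j).2 : K) ≠ 0 := fun h => hy (Subtype.ext h)
    obtain ⟨ω, hω⟩ := hN ((v.1 j).1 * (v.1 j).2)
    have hNu : N σ (ω / (v.1 j).2) * (v.1 j).2 = (v.1 j).1 := by
      have e1 : ω = (v.1 j).2 * (ω / (v.1 j).2) := by field_simp
      rw [e1, N_smul] at hω
      apply mul_right_cancel₀ hy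
      rw [← hω]; ring
    obtain ⟨w, h1, h2, h3, h4, h5⟩ := stepZ hp hm i (rp j (ω / (v.1 j).2) v) (by
      simp only [rp]
      rw [Function.update_of_ne hij.symm]
      exact hv)
    have h3' : (w.1 i).1 = (v.1 i).1 := by
      rw [h3]; simp [rp, Function.update_of_ne hij.symm]
    have hwj : (w.1 j).1 = 0 := by
      rw [h5 j hij]
      simp only [rp, Function.update_self, hz, zero_mul, T_zero, sub_zero, hNu, sub_self]
    obtain ⟨w', g1, g2, g3, g4, g5, g6⟩ := main2 w (by rw [h3']; exact hv) h4 hwj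
    refine ⟨w', by rw [g1, h1, hp], by rw [g2, h2, Q_rp], by rw [g3, h3'], g4, g5, ?_⟩
    intro k hk hkj
    rw [g6 k hk hkj, h5 k hk]
    simp [rp, Function.update_of_ne hkj]

/-- clear all coordinates but `i` -/
theorem clearAll (i : ι) (v : VV ι σ) (hv : (v.1 i).1 ≠ 0) : ∃ w : VV ι σ, f w = f v ∧
    Q w = Q v ∧ (w.1 i).1 = (v.1 i).1 ∧ w.2 = 0 ∧ ∀ j, j ≠ i → w.1 j = 0 := by
  suffices H : ∀ S : Finset ι, i ∉ S → ∃ w : VV ι σ, f w = f v ∧
      Q w = Q v ∧ (w.1 i).1 = (v.1 i).1 ∧ w.2 = 0 ∧ ∀ j ∈ S, w.1 j = 0 by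
    obtain ⟨w, h1, h2, h3, h4, h5⟩ := H (Finset.univ.erase i) (Finset.notMem_erase _ _)
    exact ⟨w, h1, h2, h3, h4, fun j hj => h5 j (Finset.mem_erase.2 ⟨hj, Finset.mem_univ _⟩)⟩
  intro S
  induction S using Finset.induction_on with
  | empty =>
    intro _
    obtain ⟨w, h1, h2, h3, h4, _⟩ := stepZ hp hm i v hv
    exact ⟨w, h1, h2, h3, h4, by simp⟩
  | insert j S hj ih =>
    intro hi
    rw [Finset.mem_insert, not_or] at hi
    obtain ⟨w, h1, h2, h3, h4, h5⟩ := ih hi.2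
    obtain ⟨w', g1, g2, g3, g4, g5, g6⟩ := clear hp hm hne hN i j (Ne.symm hi.1) w (by rw [h3]; exact hv) h4
    refine ⟨w', by rw [g1, h1], by rw [g2, h2], by rw [g3, h3], g4, ?_⟩
    intro k hk
    rw [Finset.mem_insert] at hk
    by_cases hkj : k = j
    · rw [hkj, g5]
    · have hkS := hk.resolve_left hkj
      rw [g6 k (fun h => hi.2 (h ▸ hkS)) hkj, h5 k hkS]

/-- the representatives -/
def cc (i : ι) (c : fx σ) : VV ι σ := (Pi.single i (1, c), 0)

omit hp hm hne hN in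
theorem Q_cc (i : ι) (c : fx σ) : Q (cc i c) = c := by
  unfold Q cc
  rw [Finset.sum_eq_single i]
  · simp
  · intro j _ hj
    simp [Pi.single_eq_of_ne hj]
  · simp

/-- normal form of vectors with `x i ≠ 0` -/
theorem normal (i : ι) (v : VV ι σ) (hv : (v.1 i).1 ≠ 0) : f v = f (cc i (Q v)) := by
  obtain ⟨w, h1, h2, h3, h4, h5⟩ := clearAll hp hm hne hN i v hv
  have hwi : (w.1 i).1 ≠ 0 := by rw [h3]; exact hv
  have hwi' : ((w.1 i).1 : K) ≠ 0 := fun h => hwi (Subtype.ext h)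
  -- it suffices to reach a vector with `x i = 1` and zero outside of `i`
  have key : ∀ w' : VV ι σ, f w' = f v → Q w' = Q v → (w'.1 i).1 = 1 → (∀ j, j ≠ i → w'.1 j = 0) →
      f v = f (cc i (Q v)) := by
    intro w' g1 g2 g3 g5
    obtain ⟨w'', k1, k2, k3, k4, k5⟩ := stepZ hp hm i w' (by rw [g3]; exact one_ne_zero)
    have hw'' : w'' = cc i (Q v) := by
      have hx : (w''.1 i).1 = 1 := by rw [k3, g3]
      have h0 : ∀ j, j ≠ i → w''.1 j = 0 := fun j hj => by rw [k5 j hj, g5 j hj]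
      have hQ : Q w'' = Q v := by rw [k2, g2]
      have hy : (w''.1 i).2 = Q v := by
        rw [← hQ]
        unfold Q
        rw [Finset.sum_eq_single i, hx, k4, N_zero, add_zero, one_mul]
        · intro j _ hj
          rw [h0 j hj]; simp
        · simp
      refine Prod.ext ?_ k4
      funext j
      by_cases hj : j = i
      · subst hj
        simp only [cc, Pi.single_eq_same]
        exact Prod.ext hx hy
      · simp only [cc, Pi.single_eq_of_ne hj]
        exact h0 j hj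
    rw [← hw'', k1, g1]
  by_cases hy : (w.1 i).2 = 0
  · obtain ⟨ω, hω⟩ := hN ((w.1 i).1)⁻¹
    refine key (rp i (1 - ω) (rm i 1 w)) (by rw [hp, hm, h1]) (by rw [Q_rp, Q_rm, h2]) ?_ ?_
    · simp only [rp, rm, Function.update_self, h4, hy, map_sub, map_one, zero_add, mul_one, N_sub, N_one, hω, one_mul,
        T_zero, zero_sub, sub_zero]
      rw [mul_sub, mul_one, T_sub, T_smul]
      have e1 : T σ ((w.1 i).1 : K) = (w.1 i).1 * T σ 1 := by rw [← T_smul, mul_one]
      have e2 : T σ (σ ω) = T σ ω := T_conj _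
      rw [e1, e2]
      have e3 : (w.1 i).1 * (w.1 i).1⁻¹ = 1 := mul_inv_cancel₀ hwi
      have e4 : T σ (1 : K) = 2 := by
        apply Subtype.ext
        rw [coe_T, map_one]
        have : ((2 : fx σ) : K) = 2 := rfl
        rw [this]; ring
      rw [e4]
      linear_combination e3
    · intro j hj
      simp [rp, rm, Function.update_of_ne hj, h5 j hj]
  · obtain ⟨u, hu⟩ := hN ((w.1 i).2 / (w.1 i).1)
    have hu0 : u ≠ 0 := by
      rintro rfl
      rw [N_zero] at hu
      exact (div_ne_zero hy hwi) hu.symm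
    obtain ⟨u', hu'⟩ := exists_T_mul_eq hne (mul_ne_zero hwi' hu0) ((w.1 i).1 - 1)
    refine key (rp i u' (rm i u w)) (by rw [hp, hm, h1]) (by rw [Q_rp, Q_rm, h2]) ?_ ?_
    · simp only [rp, rm, Function.update_self, h4, zero_add, zero_mul, T_zero, sub_zero, hu, hu']
      rw [div_mul_cancel₀ _ hwi]
      ring
    · intro j hj
      simp [rp, rm, Function.update_of_ne hj, h5 j hj]

/-- make `x i ≠ 0` -/
theorem exists_x_ne (i : ι) (v : VV ι σ) (hv : v ≠ 0) : ∃ w : VV ι σ, f w = f v ∧ Q w = Q v ∧ (w.1 i).1 ≠ 0 := by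
  by_cases hx : (v.1 i).1 = 0
  swap
  · exact ⟨v, rfl, rfl, hx⟩
  -- the case `z ≠ 0`
  have main : ∀ v : VV ι σ, (v.1 i).1 = 0 → v.2 ≠ 0 → ∃ w : VV ι σ, f w = f v ∧ Q w = Q v ∧ (w.1 i).1 ≠ 0 := by
    intro v hx hz
    by_cases hy : (v.1 i).2 = 0
    · obtain ⟨u, hu⟩ := exists_T_mul_eq hne hz 1
      refine ⟨rp i u v, hp _ _ _, Q_rp _ _ _, ?_⟩
      simp [rp, hx, hy, hu]
    · have hy' : ((v.1 i).2 : K) ≠ 0 := fun h => hy (Subtype.ext h)
      refine ⟨rp i (-(v.2 / (v.1 i).2)) v, hp _ _ _, Q_rp _ _ _, ?_⟩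
      simp only [rp, Function.update_self, hx, zero_sub, N_neg]
      have e1 : v.2 * σ (-(v.2 / (v.1 i).2)) = -((v.1 i).2⁻¹ * N σ v.2 : fx σ) := by
        rw [Subfield.coe_mul, Subfield.coe_inv, coe_N, map_neg, map_div₀, coe_fx]
        field_simp
      have e2 : v.2 / (v.1 i).2 = (((v.1 i).2⁻¹ : fx σ) : K) * v.2 := by
        rw [Subfield.coe_inv]; field_simp
      have e3 := T_coe (σ := σ) ((v.1 i).2⁻¹ * N σ v.2)
      rw [e1, T_neg, e3, e2, N_smul]
      have e4 : - -(2 * ((v.1 i).2⁻¹ * N σ v.2)) - ((v.1 i).2⁻¹) ^ 2 * N σ v.2 * (v.1 i).2 =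
          (v.1 i).2⁻¹ * N σ v.2 := by
        field_simp
        ring
      rw [e4]
      exact mul_ne_zero (inv_ne_zero hy) (fun h => hz (N_eq_zero.1 h))
  by_cases hz : v.2 = 0
  swap
  · exact main v hx hz
  -- `z = 0`: some `v.1 j ≠ 0`
  obtain ⟨j, hj⟩ : ∃ j, v.1 j ≠ 0 := by
    by_contra hcon
    push Not at hcon
    exact hv (Prod.ext (funext hcon) hz)
  by_cases hyj : (v.1 j).2 = 0
  · have hxj : (v.1 j).1 ≠ 0 := fun h => hj (Prod.ext h hyj)
    have hij : i ≠ j := fun h => hxj (h ▸ hx)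
    obtain ⟨w, h1, h2, h3⟩ := main (rm j 1 v) (by simp [rm, Function.update_of_ne hij, hx]) (by
      simp only [rm, hz, zero_add, mul_one]
      exact fun h => hxj (Subtype.ext h))
    exact ⟨w, by rw [h1, hm], by rw [h2, Q_rm], h3⟩
  · by_cases hij : i = j
    · subst hij
      refine ⟨rp i 1 v, hp _ _ _, Q_rp _ _ _, ?_⟩
      simp [rp, hx, hz, hyj]
    · obtain ⟨w, h1, h2, h3⟩ := main (rp j 1 v) (by simp [rp, Function.update_of_ne hij, hx]) (by
        simp only [rp, hz, zero_add, mul_one]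
        exact fun h => hyj (Subtype.ext h))
      exact ⟨w, by rw [h1, hp], by rw [h2, Q_rp], h3⟩

/-- **Transitivity.** -/
theorem const (i : ι) (v : VV ι σ) (hv : v ≠ 0) : f v = f (cc i (Q v)) := by
  obtain ⟨w, h1, h2, h3⟩ := exists_x_ne hp hm hne hN i v hv
  rw [← h1, ← h2]
  exact normal hp hm hne hN i w h3

end Trans

end Cfsg.Agent.H121.Orth
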