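import Cfsg.Agent.H121.Orth
import Cfsg.Agent.H121.HexMin

/-!
# Orthogonal spaces of minus type: numbers of vectors, characters, modules

`card_Q_zero`, `card_Q_ne`: the numbers of vectors with `Q v = c`; `chr l v`: the characters of `VV ι σ`;
`Inva`: invariance of a family of operators; `finrank_eq_wt`: the multiplicities depend on `Q v` only.
-/

set_option autoImplicit false
set_option linter.unusedSectionVars false

namespace Cfsg.Agent.H121.Orth

open Module
open Cfsg.Agent.H121.HexMin (fx mem_fx coe_fx)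
open Cfsg.Agent.H121.Quad Cfsg.Agent.H121.Wt Cfsg.Agent.H121.Chr

variable {K : Type*} [Field K] {σ : K ≃+* K} [Inv σ]

/-! ### Counting -/

section Count

open Finset

theorem card_hyp {F : Type*} [Field F] [Fintype F] [DecidableEq F] (d : F) :
    (∑ p : F × F, if p.1 * p.2 = d then 1 else 0) = (Fintype.card F - 1) + if d = 0 then Fintype.card F else 0 := by
  rw [Fintype.sum_prod_type]
  have h1 : ∀ x : F, (∑ y : F, if (x, y).1 * (x, y).2 = d then 1 else 0) =
      if x = 0 then (if d = 0 then Fintype.card F else 0) else 1 := by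
    intro x
    by_cases hx : x = 0
    · subst hx
      simp only [zero_mul, if_true]
      by_cases hd : d = 0
      · subst hd
        simp
      · simp [hd, Ne.symm hd]
    · rw [if_neg hx]
      rw [Finset.sum_eq_single (d / x)]
      · rw [if_pos]
        field_simp
      · intro y _ hy
        rw [if_neg]
        intro h
        apply hy
        simp only at h
        rw [← h]
        field_simp
      · simp
  rw [Finset.sum_congr rfl fun x _ => h1 x]
  rw [← Finset.add_sum_erase _ _ (Finset.mem_univ (0 : F)), if_pos rfl]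
  have h2 : ∑ x ∈ Finset.univ.erase (0 : F), (if x = 0 then (if d = 0 then Fintype.card F else 0) else 1) =
      ∑ x ∈ Finset.univ.erase (0 : F), 1 :=
    Finset.sum_congr rfl fun x hx => if_neg (Finset.mem_erase.1 hx).1
  rw [h2, Finset.sum_const, Finset.card_erase_of_mem (Finset.mem_univ _), Finset.card_univ, smul_eq_mul, mul_one]
  ring

variable [Fintype K]

/-- the number of vectors with `Q v = c` -/
noncomputable def cnt (σ : K ≃+* K) [Inv σ] (m : ℕ) (c : fx σ) : ℕ := by
  classical exact ∑ v : VV (Fin m) σ, if Q v = c then 1 else 0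

theorem Q_fin_zero (v : VV (Fin 0) σ) : Q v = N σ v.2 := by
  unfold Q
  rw [Finset.univ_eq_empty, Finset.sum_empty, zero_add]

theorem cnt_eq_card (m : ℕ) (c : fx σ) : cnt σ m c = Nat.card {v : VV (Fin m) σ // Q v = c} := by
  classical
  rw [Nat.card_eq_fintype_card, Fintype.card_subtype, Finset.card_filter]
  rfl

theorem card_VV (m : ℕ) : Fintype.card (VV (Fin m) σ) = (Fintype.card (fx σ)) ^ (2 * m) * Fintype.card K := by
  rw [Fintype.card_prod, Fintype.card_fun, Fintype.card_prod, Fintype.card_fin, pow_mul, sq]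

/-- splitting off a hyperbolic plane -/
def split (m : ℕ) (σ : K ≃+* K) : VV (Fin (m + 1)) σ ≃ VV (Fin m) σ × (fx σ × fx σ) where
  toFun v := ((fun i => v.1 i.succ, v.2), v.1 0)
  invFun w := (Fin.cons w.2 w.1.1, w.1.2)
  left_inv v := by
    refine Prod.ext ?_ rfl
    funext i
    refine Fin.cases ?_ (fun i => ?_) i
    · rfl
    · rfl
  right_inv w := by
    refine Prod.ext (Prod.ext ?_ rfl) rfl
    funext i
    rfl

theorem cnt_succ (m : ℕ) (c : fx σ) : cnt σ (m + 1) c =
    Fintype.card (VV (Fin m) σ) * (Fintype.card (fx σ) - 1) + Fintype.card (fx σ) * cnt σ m c := by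
  classical
  have h1 : cnt σ (m + 1) c = ∑ w : VV (Fin m) σ × (fx σ × fx σ), if w.2.1 * w.2.2 = c - Q w.1 then 1 else 0 := by
    unfold cnt
    refine Fintype.sum_equiv (split m σ) _ _ fun v => ?_
    have e : Q v = (v.1 0).1 * (v.1 0).2 + Q ((split m σ v).1) := by
      unfold Q split
      rw [Fin.sum_univ_succ]
      simp only [Equiv.coe_fn_mk]
      ring
    rw [e]
    congr 1
    rw [eq_iff_iff]
    show _ ↔ (v.1 0).1 * (v.1 0).2 = _
    constructor
    · intro h; rw [← h]; ring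
    · intro h; rw [h]; ring
  rw [h1, Fintype.sum_prod_type]
  have h2 : ∀ w : VV (Fin m) σ, (∑ p : fx σ × fx σ, if (w, p).2.1 * (w, p).2.2 = c - Q (w, p).1 then 1 else 0) =
      (Fintype.card (fx σ) - 1) + if Q w = c then Fintype.card (fx σ) else 0 := by
    intro w
    have h := card_hyp (c - Q w)
    simp only at h ⊢
    rw [h]
    congr 1
    by_cases hw : Q w = c
    · rw [if_pos hw, if_pos (by rw [hw, sub_self])]
    · rw [if_neg hw, if_neg (fun h => hw (sub_eq_zero.1 h).symm)]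
  rw [Finset.sum_congr rfl fun w _ => h2 w, Finset.sum_add_distrib, Finset.sum_const, Finset.card_univ, smul_eq_mul]
  congr 1
  unfold cnt
  rw [Finset.mul_sum]
  refine Finset.sum_congr rfl fun w _ => ?_
  by_cases hw : Q w = c
  · rw [if_pos hw, if_pos hw, mul_one]
  · rw [if_neg hw, if_neg hw, mul_zero]

variable {q : ℕ} (hK : Nat.card K = q ^ 2) (hσ : ∀ a, σ a = a ^ q) (hq : 1 < q)

include hK hσ hq

theorem card_F : Fintype.card (fx σ) = q := by rw [← Nat.card_eq_fintype_card, card_fx hK hσ hq]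

theorem cnt_zero_zero : cnt σ 0 0 = 1 := by
  rw [cnt_eq_card, Nat.card_eq_one_iff_unique]
  refine ⟨⟨fun a b => ?_⟩, ⟨⟨0, ?_⟩⟩⟩
  · have key : ∀ v : VV (Fin 0) σ, Q v = 0 → v = 0 := by
      intro v hv
      unfold Q at hv
      rw [Finset.univ_eq_empty, Finset.sum_empty, zero_add] at hv
      exact Prod.ext (Subsingleton.elim _ _) (N_eq_zero.1 hv)
    exact Subtype.ext ((key _ a.2).trans (key _ b.2).symm)
  · simp [Q]

theorem cnt_zero_ne {c : fx σ} (hc : c ≠ 0) : cnt σ 0 c = q + 1 := by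
  rw [cnt_eq_card, ← card_norm_eq hK hσ hc]
  refine Nat.card_congr ⟨fun v => ⟨v.1.2, ?_⟩, fun x => ⟨(fun i => i.elim0, x.1), ?_⟩, fun v => ?_, fun x => ?_⟩
  · rw [← Q_fin_zero]
    exact v.2
  · rw [Q_fin_zero]
    exact x.2
  · exact Subtype.ext (Prod.ext (Subsingleton.elim _ _) rfl)
  · rfl

/-- the number of singular vectors -/
theorem cnt_zero (m : ℕ) : cnt σ m 0 + q ^ (m + 1) = q ^ (2 * m + 1) + q ^ m := by
  induction m with
  | zero => rw [cnt_zero_zero hK hσ hq]; ring
  | succ m ih =>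
    rw [cnt_succ, card_F hK hσ hq, card_VV, card_F hK hσ hq, ← Nat.card_eq_fintype_card (α := K), hK]
    obtain ⟨r, rfl⟩ : ∃ r, q = r + 1 := ⟨q - 1, by omega⟩
    rw [Nat.add_sub_cancel]
    have : (r + 1) ^ (2 * m) * (r + 1) ^ 2 * r + (r + 1) * cnt σ m 0 + (r + 1) ^ (m + 1 + 1) =
        (r + 1) ^ (2 * m) * (r + 1) ^ 2 * r + (r + 1) * (cnt σ m 0 + (r + 1) ^ (m + 1)) := by ring
    rw [this, ih]
    ring

/-- the number of vectors of a given norm -/
theorem cnt_ne (m : ℕ) {c : fx σ} (hc : c ≠ 0) : cnt σ m c = q ^ (2 * m + 1) + q ^ m := by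
  induction m with
  | zero => rw [cnt_zero_ne hK hσ hq hc]; ring
  | succ m ih =>
    rw [cnt_succ, card_F hK hσ hq, card_VV, card_F hK hσ hq, ← Nat.card_eq_fintype_card (α := K), hK, ih]
    obtain ⟨r, rfl⟩ : ∃ r, q = r + 1 := ⟨q - 1, by omega⟩
    rw [Nat.add_sub_cancel]
    ring

end Count

/-! ### Characters -/

section Char

variable {ι : Type*} [Fintype ι] [DecidableEq ι]

theorem Q_zero : Q (0 : VV ι σ) = 0 := by
  unfold Q
  simp

theorem B_zero (v : VV ι σ) : B v 0 = 0 := by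
  have h := B_add v 0 0
  rw [add_zero] at h
  exact (left_eq_add.1 h)

/-- the character `a ↦ l (B v a)` -/
def chr (l : AddChar (fx σ) ℂ) (v : VV ι σ) : AddChar (VV ι σ) ℂ where
  toFun a := l (B v a)
  map_zero_eq_one' := by rw [B_zero, AddChar.map_zero_eq_one]
  map_add_eq_mul' a b := by rw [B_add, AddChar.map_add_eq_mul]

theorem chr_apply (l : AddChar (fx σ) ℂ) (v a : VV ι σ) : chr l v a = l (B v a) := rfl

theorem B_add_left (v v' w : VV ι σ) : B (v + v') w = B v w + B v' w := by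
  rw [B_comm, B_add, B_comm w, B_comm w]

theorem B_sub_left (v v' w : VV ι σ) : B (v - v') w = B v w - B v' w := by
  have h := B_add_left (v - v') v' w
  rw [sub_add_cancel] at h
  rw [h]; ring

/-- coordinates of `v` as values of the form -/
theorem B_x (i : ι) (v : VV ι σ) (s : fx σ) : B v (Pi.single i (0, s), 0) = (v.1 i).1 * s := by
  unfold B hb
  rw [Finset.sum_eq_single i]
  · simp
  · intro j _ hj
    simp [Pi.single_eq_of_ne hj]
  · simp

theorem B_y (i : ι) (v : VV ι σ) (s : fx σ) : B v (Pi.single i (s, 0), 0) = (v.1 i).2 * s := by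
  unfold B hb
  rw [Finset.sum_eq_single i]
  · simp
  · intro j _ hj
    simp [Pi.single_eq_of_ne hj]
  · simp

theorem B_z (v : VV ι σ) (z : K) : B v (0, z) = T σ (v.2 * σ z) := by
  unfold B hb
  simp

theorem exists_B_eq (hne : ∃ a : K, σ a ≠ a) {v : VV ι σ} (hv : v ≠ 0) (t : fx σ) : ∃ a, B v a = t := by
  by_cases hz : v.2 = 0
  · obtain ⟨j, hj⟩ : ∃ j, v.1 j ≠ 0 := by
      by_contra hcon
      push Not at hcon
      exact hv (Prod.ext (funext hcon) hz)
    by_cases hy : (v.1 j).2 = 0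
    · have hx : (v.1 j).1 ≠ 0 := fun h => hj (Prod.ext h hy)
      exact ⟨(Pi.single j (0, t / (v.1 j).1), 0), by rw [B_x, mul_div_cancel₀ _ hx]⟩
    · exact ⟨(Pi.single j (t / (v.1 j).2, 0), 0), by rw [B_y, mul_div_cancel₀ _ hy]⟩
  · obtain ⟨u, hu⟩ := exists_T_mul_eq hne hz t
    exact ⟨(0, u), by rw [B_z, hu]⟩

theorem chr_injective [Fintype K] (hne : ∃ a : K, σ a ≠ a) {l : AddChar (fx σ) ℂ} (hl : l ≠ 1) :
    Function.Injective (chr l : VV ι σ → AddChar (VV ι σ) ℂ) := by
  intro v v' h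
  by_contra hvv
  apply hl
  apply DFunLike.ext
  intro t
  obtain ⟨a, ha⟩ := exists_B_eq hne (sub_ne_zero.2 hvv) t
  have h1 : chr l v a = chr l v' a := by rw [h]
  rw [chr_apply, chr_apply] at h1
  rw [← ha, B_sub_left, sub_eq_add_neg, AddChar.map_add_eq_mul, AddChar.map_neg_eq_inv, h1, AddChar.one_apply]
  exact mul_inv_cancel₀ (ne_zero' _ _)

theorem chr_bijective [Fintype K] (hne : ∃ a : K, σ a ≠ a) {l : AddChar (fx σ) ℂ} (hl : l ≠ 1) :
    Function.Bijective (chr l : VV ι σ → AddChar (VV ι σ) ℂ) :=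
  (Fintype.bijective_iff_injective_and_card _).2 ⟨chr_injective hne hl, (card_addChar _).symm⟩

theorem chr_zero (l : AddChar (fx σ) ℂ) : chr l (0 : VV ι σ) = 1 := by
  apply DFunLike.ext
  intro a
  rw [chr_apply, B_comm, B_zero, AddChar.map_zero_eq_one, AddChar.one_apply]

theorem chr_rp (l : AddChar (fx σ) ℂ) (i : ι) (u : K) (v a : VV ι σ) :
    chr l (rp i u v) (rp i u a) = chr l v a := by rw [chr_apply, chr_apply, B_rp]

theorem chr_rm (l : AddChar (fx σ) ℂ) (i : ι) (u : K) (v a : VV ι σ) :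
    chr l (rm i u v) (rm i u a) = chr l v a := by rw [chr_apply, chr_apply, B_rm]

end Char

/-! ### Modules -/

section Mod

variable {ι : Type*} [Fintype ι] [DecidableEq ι] {W : Type*} [AddCommGroup W] [Module ℂ W] [FiniteDimensional ℂ W]

/-- invariance of a family of operators -/
structure Inva (R : VV ι σ → End ℂ W) : Prop where
  act : IsAct R
  p : ∀ i u, ∃ S S' : End ℂ W, S' * S = 1 ∧ ∀ a, S * R a = R (rp i u a) * S
  m : ∀ i u, ∃ S S' : End ℂ W, S' * S = 1 ∧ ∀ a, S * R a = R (rm i u a) * S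

theorem map_wt_of {R : VV ι σ → End ℂ W} {S : End ℂ W} {f : VV ι σ → VV ι σ} (hf : Function.Surjective f)
    (hS : ∀ a, S * R a = R (f a) * S) {χ χ' : AddChar (VV ι σ) ℂ} (hχ : ∀ a, χ' (f a) = χ a) {w : W}
    (hw : w ∈ wt R χ) : S w ∈ wt R χ' := by
  intro b
  obtain ⟨a, rfl⟩ := hf b
  rw [← Module.End.mul_apply, ← hS, Module.End.mul_apply, hw a, map_smul, hχ]

variable {R : VV ι σ → End ℂ W} (h : Inva R) (l : AddChar (fx σ) ℂ)

/-- the multiplicity of the weight `chr l v` -/
noncomputable def mu (R : VV ι σ → End ℂ W) (l : AddChar (fx σ) ℂ) (v : VV ι σ) : ℕ := finrank ℂ (wt R (chr l v))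

include h

theorem mu_rp (i : ι) (u : K) (v : VV ι σ) : mu R l (rp i u v) = mu R l v := by
  have key : ∀ (u : K) (v : VV ι σ), mu R l v ≤ mu R l (rp i u v) := by
    intro u v
    obtain ⟨S, S', h1, h2⟩ := h.p i u
    exact finrank_wt_le h1 fun w hw => map_wt_of (rp_bijective i u).2 h2 (fun a => chr_rp l i u v a) hw
  apply le_antisymm _ (key u v)
  have := key (-u) (rp i u v)
  rwa [rp_neg_rp] at this

theorem mu_rm (i : ι) (u : K) (v : VV ι σ) : mu R l (rm i u v) = mu R l v := by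
  have key : ∀ (u : K) (v : VV ι σ), mu R l v ≤ mu R l (rm i u v) := by
    intro u v
    obtain ⟨S, S', h1, h2⟩ := h.m i u
    exact finrank_wt_le h1 fun w hw => map_wt_of (rm_bijective i u).2 h2 (fun a => chr_rm l i u v a) hw
  apply le_antisymm _ (key u v)
  have := key (-u) (rm i u v)
  rwa [rm_neg_rm] at this

variable (hne : ∃ a : K, σ a ≠ a) (hN : ∀ c : fx σ, ∃ x : K, N σ x = c)

include hne hN

theorem mu_eq (i : ι) {v : VV ι σ} (hv : v ≠ 0) : mu R l v = mu R l (cc i (Q v)) :=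
  const (f := mu R l) (mu_rp h l) (mu_rm h l) hne hN i v hv

end Mod

section Mod2

variable {W : Type*} [AddCommGroup W] [Module ℂ W] [FiniteDimensional ℂ W] [Fintype K] {q m : ℕ}
  (hK : Nat.card K = q ^ 2) (hσ : ∀ a, σ a = a ^ q) (hq : 1 < q)
  {R : VV (Fin m) σ → End ℂ W} (h : Inva R) {l : AddChar (fx σ) ℂ} (hl : l ≠ 1)

include hK hσ hq h hl

theorem sum_mu : ∑ v : VV (Fin m) σ, mu R l v = finrank ℂ W := by
  rw [← sum_finrank h.act]
  exact Fintype.sum_bijective _ (chr_bijective (exists_ne hK hσ hq) hl) _ _ fun v => rfl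

/-- singular weights -/
theorem le_of_sing (i : Fin m) {r : ℕ} (hr : r ≤ mu R l (cc i 0)) :
    mu R l 0 + r * (cnt σ m 0 - 1) ≤ finrank ℂ W := by
  classical
  rw [← sum_mu hK hσ hq h hl, ← Finset.add_sum_erase _ _ (Finset.mem_univ 0)]
  refine Nat.add_le_add_left ?_ _
  have hcard : cnt σ m 0 - 1 = ((Finset.univ.filter fun v : VV (Fin m) σ => Q v = 0).erase 0).card := by
    rw [Finset.card_erase_of_mem (by rw [Finset.mem_filter]; exact ⟨Finset.mem_univ _, Q_zero⟩), Finset.card_filter]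
    rfl
  rw [hcard, mul_comm, ← smul_eq_mul, ← Finset.sum_const]
  refine (Finset.sum_le_sum fun v hv => ?_).trans (Finset.sum_le_sum_of_subset
    (Finset.erase_subset_erase _ (Finset.filter_subset _ _)))
  rw [Finset.mem_erase, Finset.mem_filter] at hv
  rw [mu_eq h l (exists_ne hK hσ hq) (exists_N_eq hK hσ) i hv.1, hv.2.2]
  exact hr

/-- non-singular weights -/
theorem le_of_nonsing (i : Fin m) {c : fx σ} (hc : c ≠ 0) {r : ℕ} (hr : r ≤ mu R l (cc i c)) :
    r * cnt σ m c ≤ finrank ℂ W := by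
  classical
  rw [← sum_mu hK hσ hq h hl]
  have hcard : cnt σ m c = (Finset.univ.filter fun v : VV (Fin m) σ => Q v = c).card := by
    rw [Finset.card_filter]
    rfl
  rw [hcard, mul_comm, ← smul_eq_mul, ← Finset.sum_const]
  refine (Finset.sum_le_sum fun v hv => ?_).trans (Finset.sum_le_sum_of_subset (Finset.filter_subset _ _))
  rw [Finset.mem_filter] at hv
  have hv0 : v ≠ 0 := by
    rintro rfl
    apply hc
    rw [← hv.2]
    simp [Q]
  rw [mu_eq h l (exists_ne hK hσ hq) (exists_N_eq hK hσ) i hv0, hv.2]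
  exact hr

/-- if there is a non-zero weight then some `mu R l (cc i c)` is non-zero -/
theorem exists_cc (i : Fin m) {a : VV (Fin m) σ} (ha : R a ≠ 1) : ∃ c : fx σ, mu R l (cc i c) ≠ 0 := by
  obtain ⟨χ, h1, h2⟩ := exists_wt h.act ha
  obtain ⟨v, rfl⟩ := (chr_bijective (exists_ne hK hσ hq) hl).2 χ
  have hv : v ≠ 0 := by
    rintro rfl
    rw [chr_zero, AddChar.one_apply] at h2
    exact h2 rfl
  refine ⟨Q v, ?_⟩
  rw [← mu_eq h l (exists_ne hK hσ hq) (exists_N_eq hK hσ) i hv, mu]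
  rwa [Ne, Submodule.finrank_eq_zero]

end Mod2

end Cfsg.Agent.H121.Orth
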