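import Cfsg.Agent.H121.HexBase
import Cfsg.Agent.LieClassical.HermBasic
import Cfsg.Agent.ChevalleyStructure.FixedCard

/-!
# Quadratic extensions of finite fields: trace, norm

`σ` an involutory automorphism of a finite field `K`, `F = fx σ` the fixed field; `T`, `N` the trace and the norm.
-/

set_option autoImplicit false

namespace Cfsg.Agent.H121.Quad

open Cfsg.Agent.H121.HexMin (fx mem_fx coe_fx)

/-- an automorphism of order at most two -/
class Inv {K : Type*} [Field K] (σ : K ≃+* K) : Prop where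
  inv : ∀ a, σ (σ a) = a

variable {K : Type*} [Field K] {σ : K ≃+* K}

theorem ss [Inv σ] (a : K) : σ (σ a) = a := Inv.inv a

section Defs

variable (σ) [Inv σ]

/-- the trace -/
def T (a : K) : fx σ := ⟨a + σ a, by rw [mem_fx, map_add, ss]; ring⟩

/-- the norm -/
def N (a : K) : fx σ := ⟨a * σ a, by rw [mem_fx, map_mul, ss]; ring⟩

end Defs

variable [Inv σ]

theorem coe_T (a : K) : (T σ a : K) = a + σ a := rfl
theorem coe_N (a : K) : (N σ a : K) = a * σ a := rfl

theorem T_add (a b : K) : T σ (a + b) = T σ a + T σ b := by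
  apply Subtype.ext
  rw [Subfield.coe_add, coe_T, coe_T, coe_T, map_add]; ring

theorem T_neg (a : K) : T σ (-a) = -T σ a := by
  apply Subtype.ext
  rw [Subfield.coe_neg, coe_T, coe_T, map_neg]; ring

theorem T_sub (a b : K) : T σ (a - b) = T σ a - T σ b := by
  rw [sub_eq_add_neg, T_add, T_neg, sub_eq_add_neg]

@[simp] theorem T_zero : T σ 0 = 0 := by
  apply Subtype.ext
  rw [coe_T, map_zero, add_zero]; rfl

theorem T_smul (c : fx σ) (a : K) : T σ (c * a) = c * T σ a := by
  apply Subtype.ext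
  rw [Subfield.coe_mul, coe_T, coe_T, map_mul, coe_fx]; ring

theorem T_coe (c : fx σ) : T σ (c : K) = 2 * c := by
  apply Subtype.ext
  rw [coe_T, coe_fx, Subfield.coe_mul]
  have : ((2 : fx σ) : K) = 2 := rfl
  rw [this]; ring

theorem T_conj (a : K) : T σ (σ a) = T σ a := by
  apply Subtype.ext
  rw [coe_T, coe_T, ss]; ring

theorem T_comm (a b : K) : T σ (a * σ b) = T σ (b * σ a) := by
  rw [← T_conj (b * σ a), map_mul, ss, mul_comm]

@[simp] theorem N_zero : N σ 0 = 0 := by
  apply Subtype.ext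
  rw [coe_N, zero_mul]; rfl

@[simp] theorem N_one : N σ 1 = 1 := by
  apply Subtype.ext
  rw [coe_N, map_one, one_mul]; rfl

theorem N_mul (a b : K) : N σ (a * b) = N σ a * N σ b := by
  apply Subtype.ext
  rw [Subfield.coe_mul, coe_N, coe_N, coe_N, map_mul]; ring

theorem N_neg (a : K) : N σ (-a) = N σ a := by
  apply Subtype.ext
  rw [coe_N, coe_N, map_neg]; ring

theorem N_smul (c : fx σ) (a : K) : N σ (c * a) = c ^ 2 * N σ a := by
  apply Subtype.ext
  rw [Subfield.coe_mul, SubmonoidClass.coe_pow, coe_N, coe_N, map_mul, coe_fx]; ring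

theorem N_add (a b : K) : N σ (a + b) = N σ a + T σ (a * σ b) + N σ b := by
  apply Subtype.ext
  rw [Subfield.coe_add, Subfield.coe_add, coe_N, coe_N, coe_N, coe_T, map_add, map_mul, ss]; ring

theorem N_sub (a b : K) : N σ (a - b) = N σ a - T σ (a * σ b) + N σ b := by
  apply Subtype.ext
  rw [Subfield.coe_add, Subfield.coe_sub, coe_N, coe_N, coe_N, coe_T, map_sub, map_mul, ss]; ring

theorem N_eq_zero {a : K} : N σ a = 0 ↔ a = 0 := by
  constructor
  · intro h
    have h1 : a * σ a = 0 := congrArg Subtype.val h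
    rcases mul_eq_zero.1 h1 with h1 | h1
    · exact h1
    · exact (map_eq_zero σ).1 h1
  · rintro rfl
    exact N_zero

section Fin

variable (hne : ∃ a : K, σ a ≠ a)

include hne

theorem exists_T_ne : ∃ a : K, T σ a ≠ 0 := by
  obtain ⟨a, ha⟩ := hne
  by_contra hcon
  push Not at hcon
  have h1 : ∀ b : K, σ b = -b := by
    intro b
    have := congrArg Subtype.val (hcon b)
    rw [coe_T] at this
    exact (neg_eq_of_add_eq_zero_right this).symm
  have h2 : (2 : K) = 0 := by
    have := h1 1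
    rw [map_one] at this
    linear_combination this
  apply ha
  rw [h1]
  linear_combination (-a) * h2

/-- the trace form is non-degenerate -/
theorem exists_T_mul_eq {z : K} (hz : z ≠ 0) (t : fx σ) : ∃ u : K, T σ (z * σ u) = t := by
  obtain ⟨a, ha⟩ := exists_T_ne hne
  refine ⟨σ (z⁻¹ * ((t / T σ a : fx σ) * a)), ?_⟩
  rw [ss, mul_inv_cancel_left₀ hz, T_smul, div_mul_cancel₀ _ ha]

theorem exists_T_eq (t : fx σ) : ∃ u : K, T σ u = t := by
  obtain ⟨u, hu⟩ := exists_T_mul_eq hne one_ne_zero t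
  exact ⟨σ u, by rw [one_mul] at hu; exact hu⟩

end Fin

section Card

variable [Finite K] {q : ℕ} (hK : Nat.card K = q ^ 2) (hσ : ∀ a, σ a = a ^ q)

include hK hσ

omit [Inv σ] in
theorem card_fx (hq : 1 < q) : Nat.card (fx σ) = q := by
  have := Fintype.ofFinite K
  have hK' : Fintype.card K = q ^ 2 := by rw [← Nat.card_eq_fintype_card, hK]
  have h := ChevalleyStructure.FixedCard.card_fixed hq hK'
  rw [← h]
  exact Nat.card_congr (Equiv.subtypeEquivRight fun x => by rw [mem_fx, hσ])

omit [Inv σ] in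
theorem exists_ne (hq : 1 < q) : ∃ a : K, σ a ≠ a := by
  by_contra hcon
  push Not at hcon
  have h1 := card_fx hK hσ hq
  have h2 : Nat.card (fx σ) = Nat.card K :=
    Nat.card_congr ⟨fun x => x.1, fun x => ⟨x, (mem_fx σ).2 (hcon x)⟩, fun _ => rfl, fun _ => rfl⟩
  rw [h1, hK] at h2
  nlinarith

theorem card_norm_eq {c : fx σ} (h0 : c ≠ 0) : Nat.card {x : K // N σ x = c} = q + 1 := by
  classical
  have := Fintype.ofFinite K
  have hK' : Fintype.card K = q ^ 2 := by rw [← Nat.card_eq_fintype_card, hK]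
  have h := LieClassical.HermBasic.card_norm_eq hK' (c := (c : K)) (by rw [← hσ, coe_fx])
    (fun h => h0 (Subtype.ext h))
  rw [← h]
  refine Nat.card_congr (Equiv.subtypeEquivRight fun x => ?_)
  rw [← Subtype.coe_inj, coe_N, hσ]

theorem exists_N_eq (c : fx σ) : ∃ x : K, N σ x = c := by
  by_cases h0 : c = 0
  · exact ⟨0, by rw [h0, N_zero]⟩
  · have h := card_norm_eq hK hσ h0
    have : 0 < Nat.card {x : K // N σ x = c} := by omega
    rw [Nat.card_pos_iff] at this
    obtain ⟨⟨x, hx⟩⟩ := this.1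
    exact ⟨x, hx⟩

end Card

end Cfsg.Agent.H121.Quad
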